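import Cfsg.Agent.W2.Tab

/-! A Sylow 2-subgroup of `J₂`. -/

set_option autoImplicit false
set_option maxRecDepth 1000000
set_option maxHeartbeats 0
set_option Elab.async false

namespace CF.W2

open CF.Comp CF.Cod

noncomputable def RJ : List (List Nat) := [[(nat_lit 1), (nat_lit 1)],
  [(nat_lit 3), (nat_lit 3)],
  [(nat_lit 5), (nat_lit 5)],
  [(nat_lit 1), (nat_lit 3), (nat_lit 1), (nat_lit 3)],
  [(nat_lit 1), (nat_lit 3), (nat_lit 5), (nat_lit 1), (nat_lit 3), (nat_lit 5), (nat_lit 1), (nat_lit 5), (nat_lit 3), (nat_lit 5), (nat_lit 3), (nat_lit 5), (nat_lit 1), (nat_lit 5)],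
  [(nat_lit 1), (nat_lit 3), (nat_lit 5), (nat_lit 1), (nat_lit 3), (nat_lit 5), (nat_lit 3), (nat_lit 5), (nat_lit 1), (nat_lit 5), (nat_lit 1), (nat_lit 5), (nat_lit 3), (nat_lit 5)]]
noncomputable def TJ_c0 : BT (Bx Nat) := (BT.node (nat_lit 1) (BT.leaf (Bx.mk (nat_lit 0xa739b5198d20388af613a90c97a062b8fa642a92a846b14a44e895b05a78c152e50c9d3648e1a22589901e2468b18287060a203840608080))) (BT.leaf (Bx.mk (nat_lit 0xfffbefcf7ebcf8eddfa75e7cb8f0df7b067b35b168d98eddfcda70edc9baad8cb6b5dcafaaec77f11e4a8cfa1bb93425b3a93dbd29ad60b9))))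
noncomputable def TJ_c1 : BT (Bx Nat) := (BT.node (nat_lit 1) (BT.leaf (Bx.mk (nat_lit 0xd1992e3c28eea1b482b9fab4e89d9d30dc83314c422f01e957451c3668498105a3d5a94e35222167849c3420b06261488e06305020e10001))) (BT.leaf (Bx.mk (nat_lit 0xfbf3ffee5c786fc17ace7adefd79f12e4c4a5061bfe8fa7d0791ddf78dd9ccd94dfad46bcd9d865ad8e4cabee2edd6f6acc57d56cd2a3526))))
noncomputable def TJ_c3 : BT (Bx Nat) := (BT.node (nat_lit 1) (BT.leaf (Bx.mk (nat_lit 0xd39d264c4890dd4168fd7ad5291c9f34d1990622978504abd28e9cb76a448301eb562a50312a31424f1d361c3160a4c9031c345811000202))) (BT.leaf (Bx.mk (nat_lit 0xf5e78f0dffff72b7b36e6abe3efcf71baf6a301fc37dd273ca0ee3ca9711c4ceeda4d368cf9b2b0c75e35f9575cbf82cabc3b94ded09d36a))))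
noncomputable def TJ_c5 : BT (Bx Nat) := (BT.node (nat_lit 1) (BT.leaf (Bx.mk (nat_lit 0x4a932a34582fdeb96ecd83c74e50366a5ca931e3448659fbe78ec99222cd9315eb870d189858a4280f880e64c172a502101e080890018283))) (BT.leaf (Bx.mk (nat_lit 0xefd776cd39f1e1ff6bf57c55294e99f62fc8537dc8f505ec0f3cfc3a72e29b76dd9ab4e9467f2bbc6b30abc356f5ab15e854a76a84faf364))))
noncomputable def TJ_w : BT (Bx Nat) := (BT.node (nat_lit 1) (BT.leaf (Bx.mk (nat_lit 0x535351000515351000315351000535151000515151000315151000353151000153151000353531000153531000351531000151531000531531000053535000051535000031535000053515000051515000031515000035315000015315000035353000015353000035153000015153000053153000035351000015351000035151000015151000053151000053531000051531000031531000003535000001535000003515000001515000005315000005353000005153000003153000005351000005151000003151000003531000001531000000535000000515000000315000000353000000153000000351000000151000000531000000035000000015000000053000000051000000031000000005000000003000000001000000000)))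 (BT.leaf (Bx.mk (nat_lit 0x535153531515351531053515353051535153053535351053515351051535151051515151035153531053153531015351531053151531031531531005353535005351535005153515005151515003515353005315353001535153005315153003153153003535351001535351003515351001515351005315351003535151001535151003515151001515151005315151005353151005153151003153151005353531005153531003153531005351531005151531003151531003531531001531531000353535000153535000351535000151535000531535000353515000153515000351515000151515000531515000535315000515315000315315000535353000515353000315353000535153000515153000315153000353153000153153))))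
noncomputable def TJ_cols : List (BT (Bx Nat)) := [TJ_c0, TJ_c1, TJ_c1, TJ_c3, TJ_c3, TJ_c5, TJ_c5]
noncomputable def TJ_ch (x j : Nat) : Bx Nat := chk TJ_cols x j
noncomputable def TJ_wc (_ j : Nat) : Bx Nat := TJ_w.get j
noncomputable def TJ : CT := ⟨(nat_lit 128), (nat_lit 7), (nat_lit 127), TJ_ch, (nat_lit 36), (nat_lit 0xfffffffff), TJ_wc, (nat_lit 126)⟩
theorem TJ_ok : TJ.ok = true := by decide +kernel
theorem TJ_rel : lall TJ.relOK RJ = true := by decide +kernel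
noncomputable def eJ_c0 : BT (Bx Nat) := (BT.leaf (Bx.mk (nat_lit 0x0)))
noncomputable def eJ_c1 : BT (Bx Nat) := (BT.leaf (Bx.mk (nat_lit 0xc47e311f5128047dfcc473311c9447121dc218613117e445a85da20757471f1227b67de8447986131514a91116175381d09474491101c475910fe115084946443d51122443c711e19447449de073a61139cf4b81ce28176411560736711d2443451d664433711b2443271195c466910c1dd5d910bdc46f61171046e81cb59c6351182072ba05b5046a81ca5c46b9109e8169a059e0726a0592816281c91c45e91089c45b91085c458910828156a0552815281c7a814fa0536071c71126441a7111a44197110e4418a0505c43e91059c43b910568139a04de813581c4dc43191045c42e91042812ca04aa812881c3a8125a048e070c7107e440aa0476811b81c25c4179101dc4149101a81127103e4404a0436810b81c0e8108710164401a04080000)))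
noncomputable def eJ_c2 : BT (Bx Nat) := (BT.leaf (Bx.mk (nat_lit 0x18c7b465e98c72281c5617051600c57f615ce455c615b5456e6659e4556785e5457e115f5057c9151d9376741dd995291506454051512453f515d5934f914f5d051914f15e485152d164c631164539679368178914ddc94a669524535914d28174914cd4559914c9456c6159245305159a452f51574c56065985855a914b10562a05be452a5157d9a69914a24527a05ae816aa05a24525a059681639148e4522a057a4521a056e4520a05628157a05568153914768150a053a451b9146a8149914668146914628143a050a4516a04fa4515a04ee813aa04e281369144a4511a04c64510a04ba812da04ae8129914368126a0492450b9142a811fa047a811c914224507a045e4506a0452811391412810fa043a810c9140a8109914068105a040c0000)))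
noncomputable def eJ_c3 : BT (Bx Nat) := (BT.leaf (Bx.mk (nat_lit 0x24678919da466f919b6466a919a246649198a81809196e817f919621b639195646539193e464da05fa4646a05f6464386d3a817c72926817b8550a463e83506817a719d28179918ee463a918e60b54918e24637a05de4636918d681758394a0850a05cdc65ea05c9c657918c5c656a05c5c66ba05c2462e918b6462c619a6462b918aa816e918a64628a05b1c667719964626918968166918924623a05868160a057e815da0572815aa0566461f9187a461da0546461c9186e814ca052e814aa05228147a051681449185e8140a04fe813da04f246149184e4612a04d28133a04ca8130a04be460f9183a460da049e460c9182e8122a04868120918264608a046a8119a04628116a04564605a044681109180e4602a042a4601a041e8106a04100000)))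
noncomputable def eJ_p : BT (Bx Nat) := (BT.leaf (Bx.mk (nat_lit 0x25e039760e1bc386d0e1a838680e19038620e170285b0e16818580e15827550dd4c374f0dd34374709d18374505d0c374109d00274005cfc273f05cf8373d09cf4173c09cf0173b0dce837390dce427380dcdc373709cd837350dcd4273409cd01633098cc1632098c816310d8c02630058bc262f058b8362d0d8b0362c098ac362a0d8a826290d8a036280989c26270589836250d89426240d88c36230988826220588426210588026200587c351e0d474351d09470351b0d46c251a0946815190946415180946015170d45825160545425150545035130d44835120904424110504024100503c340e0d034340d09030340b0d02c240a0902813090cc20330808c1c230704c18230604c1432040881012030c8083202084043101084041000000000)))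
noncomputable def eJ_e : BT Nat := BT.leaf (nat_lit 0)
noncomputable def eJ_cols : List (BT (Bx Nat)) := [eJ_c0, eJ_c1, eJ_c2, eJ_c3]
noncomputable def eJ_ch (x j : Nat) : Bx Nat := chunkG eJ_cols (nat_lit 1) x j
noncomputable def eJ_L (x : Nat) : Bx (Nat → Nat) := lookG eJ_ch (nat_lit 8) (nat_lit 255) (nat_lit 18) (nat_lit 262143) x
noncomputable def eJ_pc (_ j : Nat) : Bx Nat := eJ_p.get j
noncomputable def eJ_pb : Bx (Nat → Nat) := lookG eJ_pc (nat_lit 8) (nat_lit 255) (nat_lit 18) (nat_lit 262143) (nat_lit 0)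
noncomputable def eJ_rots : BT CW := (BT.node (nat_lit 17) (BT.node (nat_lit 8) (BT.node (nat_lit 4) (BT.node (nat_lit 2) (BT.node (nat_lit 1) (BT.leaf ⟨[], (nat_lit 1000000), (nat_lit 0), (nat_lit 0), (nat_lit 0)⟩) (BT.leaf ⟨[], (nat_lit 1000000), (nat_lit 0), (nat_lit 0), (nat_lit 1)⟩)) (BT.node (nat_lit 3) (BT.leaf ⟨[], (nat_lit 1000000), (nat_lit 0), (nat_lit 0), (nat_lit 2)⟩) (BT.leaf ⟨[(nat_lit 1), (nat_lit 1)], (nat_lit 0), (nat_lit 0), (nat_lit 0), (nat_lit 3)⟩))) (BT.node (nat_lit 6) (BT.node (nat_lit 5) (BT.leaf ⟨[(nat_lit 2), (nat_lit 2)], (nat_lit 1), (nat_lit 0), (nat_lit 0), (nat_lit 3)⟩) (BT.leaf ⟨[(nat_lit 3), (nat_lit 3)], (nat_lit 2), (nat_lit 0), (nat_lit 0), (nat_lit 3)⟩)) (BT.node (nat_lit 7) (BT.leaf ⟨[(nat_lit 1), (nat_lit 2), (nat_lit 1), (nat_lit 2)], (nat_lit 3), (nat_lit 0), (nat_lit 0), (nat_lit 3)⟩) (BT.leaf ⟨[(nat_lit 3), (nat_lit 2), (nat_lit 3), (nat_lit 2), (nat_lit 3), (nat_lit 1), (nat_lit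 3), (nat_lit 1), (nat_lit 2), (nat_lit 3), (nat_lit 1), (nat_lit 2), (nat_lit 3), (nat_lit 1)], (nat_lit 4), (nat_lit 7), (nat_lit 0), (nat_lit 3)⟩)))) (BT.node (nat_lit 12) (BT.node (nat_lit 10) (BT.node (nat_lit 9) (BT.leaf ⟨[(nat_lit 2), (nat_lit 3), (nat_lit 1), (nat_lit 3), (nat_lit 1), (nat_lit 2), (nat_lit 3), (nat_lit 1), (nat_lit 2), (nat_lit 3), (nat_lit 1), (nat_lit 3), (nat_lit 2), (nat_lit 3)], (nat_lit 4), (nat_lit 10), (nat_lit 0), (nat_lit 3)⟩) (BT.leaf ⟨[(nat_lit 3), (nat_lit 1), (nat_lit 2), (nat_lit 3), (nat_lit 1), (nat_lit 2), (nat_lit 3), (nat_lit 1), (nat_lit 3), (nat_lit 2), (nat_lit 3), (nat_lit 2), (nat_lit 3), (nat_lit 1)], (nat_lit 4), (nat_lit 13), (nat_lit 0), (nat_lit 3)⟩)) (BT.node (nat_lit 11) (BT.leaf ⟨[(nat_lit 3), (nat_lit 1), (nat_lit 3), (nat_lit 2), (nat_lit 3), (nat_lit 2), (nat_lit 3), (nat_lit 1), (nat_lit 3), (nat_lit 1), (nat_lit 2), (nat_lit 3), (nat_lit 1), (nat_lit 2)],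 (nat_lit 4), (nat_lit 5), (nat_lit 0), (nat_lit 3)⟩) (BT.leaf ⟨[(nat_lit 2), (nat_lit 3), (nat_lit 2), (nat_lit 3), (nat_lit 1), (nat_lit 3), (nat_lit 2), (nat_lit 1), (nat_lit 3), (nat_lit 2), (nat_lit 1), (nat_lit 3), (nat_lit 1), (nat_lit 3)], (nat_lit 13), (nat_lit 3), (nat_lit 0), (nat_lit 3)⟩))) (BT.node (nat_lit 14) (BT.node (nat_lit 13) (BT.leaf ⟨[(nat_lit 3), (nat_lit 1), (nat_lit 3), (nat_lit 2), (nat_lit 1), (nat_lit 3), (nat_lit 2), (nat_lit 1), (nat_lit 3), (nat_lit 1), (nat_lit 3), (nat_lit 2), (nat_lit 3), (nat_lit 2)], (nat_lit 13), (nat_lit 6), (nat_lit 0), (nat_lit 3)⟩) (BT.leaf ⟨[(nat_lit 3), (nat_lit 1), (nat_lit 3), (nat_lit 1), (nat_lit 3), (nat_lit 2), (nat_lit 3), (nat_lit 1), (nat_lit 2), (nat_lit 3), (nat_lit 1), (nat_lit 2), (nat_lit 3), (nat_lit 2)], (nat_lit 5), (nat_lit 7), (nat_lit 0), (nat_lit 3)⟩)) (BT.node (nat_lit 15) (BT.leaf ⟨[(nat_lit 1), (nat_lit 3), (nat_lit 2), (nat_lit 3), (nat_lit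 1), (nat_lit 2), (nat_lit 3), (nat_lit 1), (nat_lit 2), (nat_lit 3), (nat_lit 2), (nat_lit 3), (nat_lit 1), (nat_lit 3)], (nat_lit 5), (nat_lit 10), (nat_lit 0), (nat_lit 3)⟩) (BT.node (nat_lit 16) (BT.leaf ⟨[(nat_lit 2), (nat_lit 3), (nat_lit 1), (nat_lit 2), (nat_lit 3), (nat_lit 2), (nat_lit 3), (nat_lit 1), (nat_lit 3), (nat_lit 1), (nat_lit 3), (nat_lit 2), (nat_lit 3), (nat_lit 1)], (nat_lit 5), (nat_lit 1), (nat_lit 0), (nat_lit 3)⟩) (BT.leaf ⟨[(nat_lit 1), (nat_lit 2), (nat_lit 3), (nat_lit 2), (nat_lit 3), (nat_lit 1), (nat_lit 3), (nat_lit 1), (nat_lit 3), (nat_lit 2), (nat_lit 3), (nat_lit 1), (nat_lit 2), (nat_lit 3)], (nat_lit 5), (nat_lit 3), (nat_lit 0), (nat_lit 3)⟩)))))) (BT.node (nat_lit 25) (BT.node (nat_lit 21) (BT.node (nat_lit 19) (BT.node (nat_lit 18) (BT.leaf ⟨[(nat_lit 1), (nat_lit 3), (nat_lit 2), (nat_lit 1), (nat_lit 3), (nat_lit 2), (nat_lit 3), (nat_lit 1), (nat_lit 3), (nat_lit 1), (nat_lit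 3), (nat_lit 2), (nat_lit 3), (nat_lit 2)], (nat_lit 14), (nat_lit 10), (nat_lit 0), (nat_lit 3)⟩) (BT.leaf ⟨[(nat_lit 2), (nat_lit 1), (nat_lit 3), (nat_lit 2), (nat_lit 3), (nat_lit 1), (nat_lit 3), (nat_lit 1), (nat_lit 3), (nat_lit 2), (nat_lit 3), (nat_lit 2), (nat_lit 1), (nat_lit 3)], (nat_lit 14), (nat_lit 12), (nat_lit 0), (nat_lit 3)⟩)) (BT.node (nat_lit 20) (BT.leaf ⟨[(nat_lit 1), (nat_lit 3), (nat_lit 1), (nat_lit 3), (nat_lit 2), (nat_lit 3), (nat_lit 2), (nat_lit 1), (nat_lit 3), (nat_lit 2), (nat_lit 1), (nat_lit 3), (nat_lit 2), (nat_lit 3)], (nat_lit 14), (nat_lit 3), (nat_lit 0), (nat_lit 3)⟩) (BT.leaf ⟨[(nat_lit 3), (nat_lit 2), (nat_lit 3), (nat_lit 2), (nat_lit 1), (nat_lit 3), (nat_lit 2), (nat_lit 1), (nat_lit 3), (nat_lit 2), (nat_lit 3), (nat_lit 1), (nat_lit 3), (nat_lit 1)], (nat_lit 14), (nat_lit 6), (nat_lit 0), (nat_lit 3)⟩))) (BT.node (nat_lit 23) (BT.node (nat_lit 22) (BT.leaf ⟨[(nat_lit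 2), (nat_lit 3), (nat_lit 1), (nat_lit 2), (nat_lit 3), (nat_lit 1), (nat_lit 3), (nat_lit 2), (nat_lit 3), (nat_lit 2), (nat_lit 3), (nat_lit 1), (nat_lit 3), (nat_lit 1)], (nat_lit 4), (nat_lit 1), (nat_lit 0), (nat_lit 3)⟩) (BT.leaf ⟨[(nat_lit 1), (nat_lit 2), (nat_lit 3), (nat_lit 1), (nat_lit 3), (nat_lit 2), (nat_lit 3), (nat_lit 2), (nat_lit 3), (nat_lit 1), (nat_lit 3), (nat_lit 1), (nat_lit 2), (nat_lit 3)], (nat_lit 4), (nat_lit 3), (nat_lit 0), (nat_lit 3)⟩)) (BT.node (nat_lit 24) (BT.leaf ⟨[(nat_lit 1), (nat_lit 3), (nat_lit 2), (nat_lit 1), (nat_lit 3), (nat_lit 1), (nat_lit 3), (nat_lit 2), (nat_lit 3), (nat_lit 2), (nat_lit 3), (nat_lit 1), (nat_lit 3), (nat_lit 2)], (nat_lit 13), (nat_lit 10), (nat_lit 0), (nat_lit 3)⟩) (BT.leaf ⟨[(nat_lit 2), (nat_lit 1), (nat_lit 3), (nat_lit 1), (nat_lit 3), (nat_lit 2), (nat_lit 3), (nat_lit 2), (nat_lit 3), (nat_lit 1), (nat_lit 3), (nat_lit 2), (nat_lit 1), (nat_lit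 3)], (nat_lit 13), (nat_lit 12), (nat_lit 0), (nat_lit 3)⟩)))) (BT.node (nat_lit 29) (BT.node (nat_lit 27) (BT.node (nat_lit 26) (BT.leaf ⟨[(nat_lit 2), (nat_lit 3), (nat_lit 1), (nat_lit 2), (nat_lit 3), (nat_lit 1), (nat_lit 2), (nat_lit 3), (nat_lit 2), (nat_lit 3), (nat_lit 1), (nat_lit 3), (nat_lit 1), (nat_lit 3)], (nat_lit 5), (nat_lit 12), (nat_lit 0), (nat_lit 3)⟩) (BT.leaf ⟨[(nat_lit 3), (nat_lit 2), (nat_lit 3), (nat_lit 1), (nat_lit 3), (nat_lit 1), (nat_lit 3), (nat_lit 2), (nat_lit 3), (nat_lit 1), (nat_lit 2), (nat_lit 3), (nat_lit 1), (nat_lit 2)], (nat_lit 5), (nat_lit 5), (nat_lit 0), (nat_lit 3)⟩)) (BT.node (nat_lit 28) (BT.leaf ⟨[(nat_lit 1), (nat_lit 3), (nat_lit 1), (nat_lit 2), (nat_lit 3), (nat_lit 1), (nat_lit 2), (nat_lit 3), (nat_lit 1), (nat_lit 3), (nat_lit 2), (nat_lit 3), (nat_lit 2), (nat_lit 3)], (nat_lit 4), (nat_lit 12), (nat_lit 0), (nat_lit 3)⟩) (BT.leaf ⟨[(nat_lit 1), (nat_lit 3),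 (nat_lit 2), (nat_lit 3), (nat_lit 2), (nat_lit 3), (nat_lit 1), (nat_lit 3), (nat_lit 1), (nat_lit 2), (nat_lit 3), (nat_lit 1), (nat_lit 2), (nat_lit 3)], (nat_lit 4), (nat_lit 6), (nat_lit 0), (nat_lit 3)⟩))) (BT.node (nat_lit 31) (BT.node (nat_lit 30) (BT.leaf ⟨[(nat_lit 2), (nat_lit 1), (nat_lit 2), (nat_lit 1)], (nat_lit 3), (nat_lit 1), (nat_lit 0), (nat_lit 3)⟩) (BT.leaf ⟨[(nat_lit 1), (nat_lit 3), (nat_lit 2), (nat_lit 3), (nat_lit 2), (nat_lit 1), (nat_lit 3), (nat_lit 2), (nat_lit 1), (nat_lit 3), (nat_lit 2), (nat_lit 3), (nat_lit 1), (nat_lit 3)], (nat_lit 14), (nat_lit 5), (nat_lit 0), (nat_lit 3)⟩)) (BT.node (nat_lit 32) (BT.leaf ⟨[(nat_lit 2), (nat_lit 3), (nat_lit 1), (nat_lit 3), (nat_lit 2), (nat_lit 3), (nat_lit 2), (nat_lit 3), (nat_lit 1), (nat_lit 3), (nat_lit 1), (nat_lit 2), (nat_lit 3), (nat_lit 1)], (nat_lit 4), (nat_lit 4), (nat_lit 0), (nat_lit 3)⟩) (BT.node (nat_lit 33) (BT.leaf ⟨[(nat_lit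 2), (nat_lit 3), (nat_lit 1), (nat_lit 3), (nat_lit 1), (nat_lit 3), (nat_lit 2), (nat_lit 3), (nat_lit 1), (nat_lit 2), (nat_lit 3), (nat_lit 1), (nat_lit 2), (nat_lit 3)], (nat_lit 5), (nat_lit 6), (nat_lit 0), (nat_lit 3)⟩) (BT.leaf ⟨[(nat_lit 1), (nat_lit 2), (nat_lit 3), (nat_lit 1), (nat_lit 2), (nat_lit 3), (nat_lit 2), (nat_lit 3), (nat_lit 1), (nat_lit 3), (nat_lit 1), (nat_lit 3), (nat_lit 2), (nat_lit 3)], (nat_lit 5), (nat_lit 0), (nat_lit 0), (nat_lit 3)⟩)))))))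
noncomputable def eJ_hcs : List CW := []
noncomputable def eJ_H (x j : Nat) : Bx (Nat → Nat → Nat) := mkH eJ_L eJ_pb.1 eJ_e.get (lmap CW.w eJ_hcs) (nat_lit 128) (nat_lit 129) (nat_lit 4) (nat_lit 256) (nat_lit 16384) (nat_lit 16383) x (eJ_rots.get j)
noncomputable def eJ_F (x b : Nat) : Bool := blkOK eJ_H eJ_ch (nat_lit 129) (nat_lit 256) (nat_lit 64) (nat_lit 8) (nat_lit 255) (nat_lit 18) (nat_lit 262143) x b

theorem eJ_k0_0 : allFrom (eJ_F (nat_lit 0)) (nat_lit 0) (nat_lit 4) = true := by decide +kernel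
theorem eJ_k1_0 : allFrom (eJ_F (nat_lit 1)) (nat_lit 0) (nat_lit 4) = true := by decide +kernel
theorem eJ_k2_0 : allFrom (eJ_F (nat_lit 2)) (nat_lit 0) (nat_lit 4) = true := by decide +kernel
theorem eJ_k3_0 : allFrom (eJ_F (nat_lit 3)) (nat_lit 0) (nat_lit 4) = true := by decide +kernel

theorem eJ_all : Cov eJ_F 4 4 0 := by
  have h := Cov.zero eJ_F 4
  have h := h.blk (b := 4) eJ_k0_0 rfl
  have h := h.next (y := 1) rfl rfl
  have h := h.blk (b := 4) eJ_k1_0 rfl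
  have h := h.next (y := 2) rfl rfl
  have h := h.blk (b := 4) eJ_k2_0 rfl
  have h := h.next (y := 3) rfl rfl
  have h := h.blk (b := 4) eJ_k3_0 rfl
  have h := h.next (y := 4) rfl rfl
  exact h

theorem eJ : Enum RJ [] (gensW 3) 128 :=
  ⟨eJ_cols, eJ_ch, eJ_L, eJ_H, eJ_pb.1, eJ_e.get, [(nat_lit 0), (nat_lit 1), (nat_lit 3), (nat_lit 5)], (nat_lit 7), (nat_lit 3), eJ_rots, eJ_hcs,
    (nat_lit 129), (nat_lit 4), (nat_lit 256), (nat_lit 64), (nat_lit 16384), (nat_lit 16383), (nat_lit 8), (nat_lit 255), (nat_lit 18), (nat_lit 262143), (nat_lit 1), (nat_lit 4),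
    fun _ _ => rfl, fun _ => rfl, fun _ _ => rfl, by decide +kernel, eJ_all.1⟩

theorem pJ : TJ.Pres RJ (gensW 3) := ⟨CT.ok_spec TJ_ok, lall_iff.1 TJ_rel, by decide +kernel,
  by decide +kernel, by decide +kernel, eJ.bound (ug_rels _) (bound_nil _)⟩

instance instTJ : TJ.Grp := pJ.grp


end CF.W2
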