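import Cfsg.Agent.W2.Tab

/-! Groups of order 64 with a self-centralizing element of order 8. -/

set_option autoImplicit false
set_option maxRecDepth 1000000
set_option maxHeartbeats 0
set_option Elab.async false

namespace CF.W2

open CF.Comp CF.Cod

noncomputable def RB1 : List (List Nat) := [[(nat_lit 1), (nat_lit 1), (nat_lit 1), (nat_lit 1), (nat_lit 1), (nat_lit 1), (nat_lit 1), (nat_lit 1)],
  [(nat_lit 3), (nat_lit 3)],
  [(nat_lit 3), (nat_lit 1), (nat_lit 3), (nat_lit 2), (nat_lit 2), (nat_lit 2), (nat_lit 2), (nat_lit 2)],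
  [(nat_lit 5), (nat_lit 1), (nat_lit 6), (nat_lit 1)],
  [(nat_lit 5), (nat_lit 3), (nat_lit 6), (nat_lit 3)],
  [(nat_lit 5), (nat_lit 5)],
  [(nat_lit 7), (nat_lit 1), (nat_lit 8), (nat_lit 4), (nat_lit 2)],
  [(nat_lit 7), (nat_lit 3), (nat_lit 8), (nat_lit 3)],
  [(nat_lit 7), (nat_lit 7)],
  [(nat_lit 5), (nat_lit 7), (nat_lit 5), (nat_lit 7), (nat_lit 4), (nat_lit 2), (nat_lit 2)]]
noncomputable def TB1_c0 : BT (Bx Nat) := (BT.leaf (Bx.mk (nat_lit 0xfbff76ebbcf8dfcd74e72c70be9ae5b64b9c81db2a8e25a77de9a86d76586a14893554501cb4cc3865083ca1440c1080)))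
noncomputable def TB1_c1 : BT (Bx Nat) := (BT.leaf (Bx.mk (nat_lit 0xf3ac6dfb99bda7f92eda862171f9f4eef650495df29782b324daf51cf5082f07458e0b2a0d74626c27846964cc380181)))
noncomputable def TB1_c2 : BT (Bx Nat) := (BT.leaf (Bx.mk (nat_lit 0xdbbe3fafeea297372c824f56ab4f11750df2b798f54ccc12b8956f2c7a713869991673686837845e17d86c15083ca002)))
noncomputable def TB1_c3 : BT (Bx Nat) := (BT.leaf (Bx.mk (nat_lit 0xe73d7bf27fe87ddf63f98a9b8945694b1b38ea034cd2f3a6dd9d88c0a7b218fb6e26b1445a196409a4dc05745000b1c3)))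
noncomputable def TB1_c5 : BT (Bx Nat) := (BT.leaf (Bx.mk (nat_lit 0xd37c2ca658e1fae6ff7d75bd6b647c64fece353e8be4ae09cd2507d6fac6cb115d99eb43aa89c292280171854040c204)))
noncomputable def TB1_c7 : BT (Bx Nat) := (BT.leaf (Bx.mk (nat_lit 0xf72feac78d7ac1ce5a63eef75568a143c3a7a0c2e02adb246d72367f41b37aebcf1c40eb5290a696305d4d901244d245)))
noncomputable def TB1_w : BT (Bx Nat) := (BT.leaf (Bx.mk (nat_lit 0x57131753115111107523057130573205722052220327107531052310713107511053110511101111007570032700573001730075300523007130051300572007520073200532007220052200222005710027100171007510053100231001310071100511003110011100057000270001700075000730005300023000130007200052000320002200071000510003100011000070000500003000020000100000)))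
noncomputable def TB1_cols : List (BT (Bx Nat)) := [TB1_c0, TB1_c1, TB1_c2, TB1_c3, TB1_c3, TB1_c5, TB1_c5, TB1_c7, TB1_c7]
noncomputable def TB1_ch (x j : Nat) : Bx Nat := chk TB1_cols x j
noncomputable def TB1_wc (_ j : Nat) : Bx Nat := TB1_w.get j
noncomputable def TB1 : CT := ⟨(nat_lit 64), (nat_lit 6), (nat_lit 63), TB1_ch, (nat_lit 20), (nat_lit 1048575), TB1_wc, (nat_lit 510)⟩
theorem TB1_ok : TB1.ok = true := by decide +kernel
theorem TB1_rel : lall TB1.relOK RB1 = true := by decide +kernel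
noncomputable def eB1_c0 : BT (Bx Nat) := (BT.leaf (Bx.mk (nat_lit 0x0)))
noncomputable def eB1_c1 : BT (Bx Nat) := (BT.leaf (Bx.mk (nat_lit 0x54bd1a5dc52c8e55c47bf825d2529cbc7c34aa396014a95055ee2b70954c52648944d79d4150412a0c56a5e3c4a581126a2922d4937a4b11ee1656717a6815cc8a2d6f69228a75c738ab2056d228855c8312562912c28c9858b4a7a450ca7a47a50cc2b605572284114c45e4a0546429c9141cc27e290b309b984bcc252051b308f9140cc21e61040000)))
noncomputable def eB1_c2 : BT (Bx Nat) := (BT.leaf (Bx.mk (nat_lit 0x8537191e108e48480422c111fbc8ee2a4632267c5a45474fa5aa2216292c08fa442e822b4c5aa22f64424f89e8a88888e04a66f22e411d40890d16c92148a868c8c5c426952f91053ac598460550c91040c8aa0464388f9103b889d6435220661144083a0452921b91023487e2a0ad89898514c2820433309c91014c256041330909845c880661060000)))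
noncomputable def eB1_c3 : BT (Bx Nat) := (BT.leaf (Bx.mk (nat_lit 0x833a799a18cd8a67865bd7994257016c532320798f1d6f94c49063f8acca96ad1b38e6a3918abcc5a0654f313499945ab5467305bb7ad0c583a2b1a9335699824c3dc64f30b8818d418de2b1273315185c5a7e066723075188416ba615f030a83164581a2b0ab69752d140c9a064b23035acdc5a52063b2302984c40c4a0623230198464c22261080000)))
noncomputable def eB1_c4 : BT (Bx Nat) := (BT.leaf (Bx.mk (nat_lit 0x123b541dc48ec4f85b23aa91d348e92474499bf64d7c8e726180aca091cc48e5e617cb39b59dbc8e48c77af99a91c84c2f2471f238e79ca4c2ee471930ba91c5cc2e6471493b48489b0e56471130b6665838eb2470f30b3985948e19b83d092779cfcc2ba470930ab9854cc2a2470730a59851cc2864705309d984ccc25a470330919846cc226610a0000)))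
noncomputable def eB1_c5 : BT (Bx Nat) := (BT.leaf (Bx.mk (nat_lit 0x543e921999d0248564432621c990d9b5767431920e9eaea48372419985f968f1157124165b8bb9c8d08452411985ec903d9050b4299206c9031a843240b6a17268b5d44b041c820c49026616f1820985ac901e6169171f5217cc2c2082104089202c90126159181598554900e614f30a698524900a613d1714984d490066127309298474c22a610c0000)))
noncomputable def eB1_p : BT (Bx Nat) := (BT.leaf (Bx.mk (nat_lit 0xad44acc5ac448ac58a8489848904888488038745870486c58645860485c485c165856543648464816445640463c563c4638463456305630462c562c462c2628462826281624562046202620161c561c461c361c14184418241814145410541044102410140c540c440c340c240854084408340812045204420432042204100000000)))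
noncomputable def eB1_e : BT Nat := BT.leaf (nat_lit 0)
noncomputable def eB1_cols : List (BT (Bx Nat)) := [eB1_c0, eB1_c1, eB1_c2, eB1_c3, eB1_c4, eB1_c5]
noncomputable def eB1_ch (x j : Nat) : Bx Nat := chunkG eB1_cols (nat_lit 1) x j
noncomputable def eB1_L (x : Nat) : Bx (Nat → Nat) := lookG eB1_ch (nat_lit 8) (nat_lit 255) (nat_lit 17) (nat_lit 131071) x
noncomputable def eB1_pc (_ j : Nat) : Bx Nat := eB1_p.get j
noncomputable def eB1_pb : Bx (Nat → Nat) := lookG eB1_pc (nat_lit 8) (nat_lit 255) (nat_lit 16) (nat_lit 65535) (nat_lit 0)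
noncomputable def eB1_rots : BT CW := (BT.node (nat_lit 14) (BT.node (nat_lit 7) (BT.node (nat_lit 3) (BT.node (nat_lit 1) (BT.leaf ⟨[], (nat_lit 1000000), (nat_lit 0), (nat_lit 0), (nat_lit 0)⟩) (BT.node (nat_lit 2) (BT.leaf ⟨[], (nat_lit 1000000), (nat_lit 0), (nat_lit 0), (nat_lit 1)⟩) (BT.leaf ⟨[], (nat_lit 1000000), (nat_lit 0), (nat_lit 0), (nat_lit 2)⟩))) (BT.node (nat_lit 5) (BT.node (nat_lit 4) (BT.leaf ⟨[(nat_lit 2), (nat_lit 1)], (nat_lit 13), (nat_lit 1), (nat_lit 0), (nat_lit 3)⟩) (BT.leaf ⟨[(nat_lit 1), (nat_lit 2)], (nat_lit 13), (nat_lit 0), (nat_lit 0), (nat_lit 3)⟩)) (BT.node (nat_lit 6) (BT.leaf ⟨[(nat_lit 3), (nat_lit 3)], (nat_lit 1), (nat_lit 0), (nat_lit 0), (nat_lit 3)⟩) (BT.leaf ⟨[(nat_lit 4), (nat_lit 4)], (nat_lit 5), (nat_lit 0), (nat_lit 0), (nat_lit 3)⟩)))) (BT.node (nat_lit 10) (BT.node (nat_lit 8) (BT.leaf ⟨[(nat_lit 5), (nat_lit 5)], (nat_lit 8), (nat_lit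 0), (nat_lit 0), (nat_lit 3)⟩) (BT.node (nat_lit 9) (BT.leaf ⟨[(nat_lit 1), (nat_lit 4), (nat_lit 1), (nat_lit 4)], (nat_lit 3), (nat_lit 1), (nat_lit 0), (nat_lit 3)⟩) (BT.leaf ⟨[(nat_lit 2), (nat_lit 4), (nat_lit 2), (nat_lit 4)], (nat_lit 17), (nat_lit 0), (nat_lit 0), (nat_lit 3)⟩))) (BT.node (nat_lit 12) (BT.node (nat_lit 11) (BT.leaf ⟨[(nat_lit 3), (nat_lit 4), (nat_lit 3), (nat_lit 4)], (nat_lit 4), (nat_lit 1), (nat_lit 0), (nat_lit 3)⟩) (BT.leaf ⟨[(nat_lit 3), (nat_lit 5), (nat_lit 3), (nat_lit 5)], (nat_lit 7), (nat_lit 1), (nat_lit 0), (nat_lit 3)⟩)) (BT.node (nat_lit 13) (BT.leaf ⟨[(nat_lit 3), (nat_lit 2), (nat_lit 5), (nat_lit 1), (nat_lit 5)], (nat_lit 6), (nat_lit 3), (nat_lit 0), (nat_lit 3)⟩) (BT.leaf ⟨[(nat_lit 5), (nat_lit 2), (nat_lit 5), (nat_lit 1), (nat_lit 3)], (nat_lit 20), (nat_lit 2), (nat_lit 0), (nat_lit 3)⟩))))) (BT.node (nat_lit 21) (BT.node (nat_lit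 17) (BT.node (nat_lit 15) (BT.leaf ⟨[(nat_lit 1), (nat_lit 5), (nat_lit 3), (nat_lit 2), (nat_lit 5)], (nat_lit 6), (nat_lit 1), (nat_lit 0), (nat_lit 3)⟩) (BT.node (nat_lit 16) (BT.leaf ⟨[(nat_lit 5), (nat_lit 1), (nat_lit 5), (nat_lit 3), (nat_lit 2)], (nat_lit 6), (nat_lit 0), (nat_lit 0), (nat_lit 3)⟩) (BT.leaf ⟨[(nat_lit 2), (nat_lit 5), (nat_lit 1), (nat_lit 5), (nat_lit 3)], (nat_lit 6), (nat_lit 4), (nat_lit 0), (nat_lit 3)⟩))) (BT.node (nat_lit 19) (BT.node (nat_lit 18) (BT.leaf ⟨[(nat_lit 4), (nat_lit 5), (nat_lit 4), (nat_lit 1), (nat_lit 1), (nat_lit 3), (nat_lit 5)], (nat_lit 23), (nat_lit 4), (nat_lit 0), (nat_lit 3)⟩) (BT.leaf ⟨[(nat_lit 4), (nat_lit 3), (nat_lit 4), (nat_lit 3)], (nat_lit 4), (nat_lit 0), (nat_lit 0), (nat_lit 3)⟩)) (BT.node (nat_lit 20) (BT.leaf ⟨[(nat_lit 5), (nat_lit 3), (nat_lit 5), (nat_lit 3)], (nat_lit 7), (nat_lit 0), (nat_lit 0), (nat_lit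 3)⟩) (BT.leaf ⟨[(nat_lit 5), (nat_lit 3), (nat_lit 2), (nat_lit 5), (nat_lit 1)], (nat_lit 6), (nat_lit 2), (nat_lit 0), (nat_lit 3)⟩)))) (BT.node (nat_lit 24) (BT.node (nat_lit 22) (BT.leaf ⟨[(nat_lit 2), (nat_lit 4), (nat_lit 5), (nat_lit 4), (nat_lit 5), (nat_lit 3), (nat_lit 2)], (nat_lit 9), (nat_lit 6), (nat_lit 0), (nat_lit 3)⟩) (BT.node (nat_lit 23) (BT.leaf ⟨[(nat_lit 1), (nat_lit 1), (nat_lit 3), (nat_lit 5), (nat_lit 4), (nat_lit 5), (nat_lit 4)], (nat_lit 23), (nat_lit 0), (nat_lit 0), (nat_lit 3)⟩) (BT.leaf ⟨[(nat_lit 4), (nat_lit 2), (nat_lit 4), (nat_lit 2)], (nat_lit 17), (nat_lit 1), (nat_lit 0), (nat_lit 3)⟩))) (BT.node (nat_lit 26) (BT.node (nat_lit 25) (BT.leaf ⟨[(nat_lit 4), (nat_lit 1), (nat_lit 4), (nat_lit 1)], (nat_lit 3), (nat_lit 0), (nat_lit 0), (nat_lit 3)⟩) (BT.leaf ⟨[(nat_lit 2), (nat_lit 5), (nat_lit 1), (nat_lit 3), (nat_lit 5)], (nat_lit 20), (nat_lit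 3), (nat_lit 0), (nat_lit 3)⟩)) (BT.node (nat_lit 27) (BT.leaf ⟨[(nat_lit 3), (nat_lit 5), (nat_lit 2), (nat_lit 5), (nat_lit 1)], (nat_lit 20), (nat_lit 1), (nat_lit 0), (nat_lit 3)⟩) (BT.leaf ⟨[(nat_lit 1), (nat_lit 3), (nat_lit 5), (nat_lit 2), (nat_lit 5)], (nat_lit 20), (nat_lit 0), (nat_lit 0), (nat_lit 3)⟩))))))
noncomputable def eB1_hcs : List CW := []
noncomputable def eB1_H (x j : Nat) : Bx (Nat → Nat → Nat) := mkH eB1_L eB1_pb.1 eB1_e.get (lmap CW.w eB1_hcs) (nat_lit 64) (nat_lit 65) (nat_lit 6) (nat_lit 128) (nat_lit 4096) (nat_lit 8191) x (eB1_rots.get j)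
noncomputable def eB1_F (x b : Nat) : Bool := blkOK eB1_H eB1_ch (nat_lit 65) (nat_lit 128) (nat_lit 32) (nat_lit 8) (nat_lit 255) (nat_lit 17) (nat_lit 131071) x b

theorem eB1_k0_0 : allFrom (eB1_F (nat_lit 0)) (nat_lit 0) (nat_lit 4) = true := by decide +kernel
theorem eB1_k1_0 : allFrom (eB1_F (nat_lit 1)) (nat_lit 0) (nat_lit 4) = true := by decide +kernel
theorem eB1_k2_0 : allFrom (eB1_F (nat_lit 2)) (nat_lit 0) (nat_lit 4) = true := by decide +kernel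
theorem eB1_k3_0 : allFrom (eB1_F (nat_lit 3)) (nat_lit 0) (nat_lit 4) = true := by decide +kernel
theorem eB1_k4_0 : allFrom (eB1_F (nat_lit 4)) (nat_lit 0) (nat_lit 4) = true := by decide +kernel
theorem eB1_k5_0 : allFrom (eB1_F (nat_lit 5)) (nat_lit 0) (nat_lit 4) = true := by decide +kernel

theorem eB1_all : Cov eB1_F 4 6 0 := by
  have h := Cov.zero eB1_F 4
  have h := h.blk (b := 4) eB1_k0_0 rfl
  have h := h.next (y := 1) rfl rfl
  have h := h.blk (b := 4) eB1_k1_0 rfl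
  have h := h.next (y := 2) rfl rfl
  have h := h.blk (b := 4) eB1_k2_0 rfl
  have h := h.next (y := 3) rfl rfl
  have h := h.blk (b := 4) eB1_k3_0 rfl
  have h := h.next (y := 4) rfl rfl
  have h := h.blk (b := 4) eB1_k4_0 rfl
  have h := h.next (y := 5) rfl rfl
  have h := h.blk (b := 4) eB1_k5_0 rfl
  have h := h.next (y := 6) rfl rfl
  exact h

theorem eB1 : Enum RB1 [] (gensW 4) 64 :=
  ⟨eB1_cols, eB1_ch, eB1_L, eB1_H, eB1_pb.1, eB1_e.get, [(nat_lit 0), (nat_lit 1), (nat_lit 2), (nat_lit 3), (nat_lit 5), (nat_lit 7)], (nat_lit 14), (nat_lit 4), eB1_rots, eB1_hcs,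
    (nat_lit 65), (nat_lit 6), (nat_lit 128), (nat_lit 32), (nat_lit 4096), (nat_lit 8191), (nat_lit 8), (nat_lit 255), (nat_lit 17), (nat_lit 131071), (nat_lit 1), (nat_lit 4),
    fun _ _ => rfl, fun _ => rfl, fun _ _ => rfl, by decide +kernel, eB1_all.1⟩

theorem pB1 : TB1.Pres RB1 (gensW 4) := ⟨CT.ok_spec TB1_ok, lall_iff.1 TB1_rel, by decide +kernel,
  by decide +kernel, by decide +kernel, eB1.bound (ug_rels _) (bound_nil _)⟩

instance instTB1 : TB1.Grp := pB1.grp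

noncomputable def RB2 : List (List Nat) := [[(nat_lit 1), (nat_lit 1), (nat_lit 1), (nat_lit 1), (nat_lit 1), (nat_lit 1), (nat_lit 1), (nat_lit 1)],
  [(nat_lit 3), (nat_lit 3)],
  [(nat_lit 3), (nat_lit 1), (nat_lit 3), (nat_lit 2), (nat_lit 2), (nat_lit 2), (nat_lit 2), (nat_lit 2)],
  [(nat_lit 5), (nat_lit 1), (nat_lit 6), (nat_lit 1)],
  [(nat_lit 5), (nat_lit 3), (nat_lit 6), (nat_lit 3)],
  [(nat_lit 5), (nat_lit 5)],
  [(nat_lit 7), (nat_lit 1), (nat_lit 8), (nat_lit 4), (nat_lit 2)],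
  [(nat_lit 7), (nat_lit 3), (nat_lit 8), (nat_lit 3)],
  [(nat_lit 7), (nat_lit 7), (nat_lit 1), (nat_lit 1), (nat_lit 1), (nat_lit 1)],
  [(nat_lit 5), (nat_lit 7), (nat_lit 5), (nat_lit 7), (nat_lit 4)]]
noncomputable def TB2_c0 : BT (Bx Nat) := (BT.leaf (Bx.mk (nat_lit 0xffeefaf7ce78df6be6cf2c31d6eaa97edb289f49608a3864ad628f6d72d069e5154c835870e44765d2523051840c1080)))
noncomputable def TB2_c1 : BT (Bx Nat) := (BT.leaf (Bx.mk (nat_lit 0xda6a27aadd21bf8f93ebbf7ce7f5d03163da7b721275924d6f11a2af0163cb328bd4381552e942b291247dc60e4401c1)))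
noncomputable def TB2_c2 : BT (Bx Nat) := (BT.leaf (Bx.mk (nat_lit 0xbb5c70cb3bf69bf4f959779adcee8b6fb2bdf3e34861ce111e78c67e8885b6a40fd240eca4482b51586505d64948c002)))
noncomputable def TB2_c3 : BT (Bx Nat) := (BT.leaf (Bx.mk (nat_lit 0xd2eebbf3d875db7e3fc31cb33be9e34688aab496ccb29e474963cb95740a69e18511fad976f0a471898181551300d203)))
noncomputable def TB2_c5 : BT (Bx Nat) := (BT.leaf (Bx.mk (nat_lit 0xae48e2a6c81f95b49140f75934c2fafcaed8708dfef7c1f9e06c67d85c285155970f5d33c82beeb6a06685e6804ce244)))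
noncomputable def TB2_c7 : BT (Bx Nat) := (BT.leaf (Bx.mk (nat_lit 0xa3cfb986ef71697caad6f3b8cfbd202e6909fed56c1ccea94374881933511360e57997027f076306b9d88806d650f285)))
noncomputable def TB2_c8 : BT (Bx Nat) := (BT.leaf (Bx.mk (nat_lit 0x9fde7eba1f30796cedbf5e0ecba9a42b483f26a529307eec3d3351177488d8494369d61f0b1662ac1a1c8db0175502c6)))
noncomputable def TB2_w : BT (Bx Nat) := (BT.leaf (Bx.mk (nat_lit 0x7751513158115711851175115311511108570775052305130582057208520752053205220581018107710571017108510751053102310131081107110511031101110058002800180077005700270017008500750083007300530023001300820072005200320022008100710051003100110008000700050003000200010000)))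
noncomputable def TB2_cols : List (BT (Bx Nat)) := [TB2_c0, TB2_c1, TB2_c2, TB2_c3, TB2_c3, TB2_c5, TB2_c5, TB2_c7, TB2_c8]
noncomputable def TB2_ch (x j : Nat) : Bx Nat := chk TB2_cols x j
noncomputable def TB2_wc (_ j : Nat) : Bx Nat := TB2_w.get j
noncomputable def TB2 : CT := ⟨(nat_lit 64), (nat_lit 6), (nat_lit 63), TB2_ch, (nat_lit 16), (nat_lit 65535), TB2_wc, (nat_lit 510)⟩
theorem TB2_ok : TB2.ok = true := by decide +kernel
theorem TB2_rel : lall TB2.relOK RB2 = true := by decide +kernel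
noncomputable def eB2_c0 : BT (Bx Nat) := (BT.leaf (Bx.mk (nat_lit 0x0)))
noncomputable def eB2_c1 : BT (Bx Nat) := (BT.leaf (Bx.mk (nat_lit 0x1c2b7a149d6529514a202ab814b962b5a1488a2b09bae4c2bfa1450853b10af169be7a6f4453a6950182982a4468e8d58a5c629080a6e051f714e2a28938a4c429e40a6a850a1a43a101c194caa2875a48e22ac394c6a2866269222b3914d1828b68a3262b6a8a1182a19a65a891598abc82a6a8a0ec0adb02aa8505b0296c0a0b0276c09998a3ec092a8a06c088b02080000)))
noncomputable def eB2_c2 : BT (Bx Nat) := (BT.leaf (Bx.mk (nat_lit 0x1822f396d94232708c465b3188d02230908dda2277b5028594616ea221791660421f3086cd438a163de23ba88324d1c896f2a20b508f9223d988fca58ea882562195087662396c44aa208788a065a4a881de220896a53523a8819a5ae616ae421198842623545296a204208b4942aa16144221988b1d4156d05a6222b029aa202b027ac09a9882ac093b0236a201b020c0000)))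
noncomputable def eB2_c3 : BT (Bx Nat) := (BT.leaf (Bx.mk (nat_lit 0x1833538cbe473b898f2033d88cfa862220cd9a6b760ce0a63969902473189aca033388cd2860f418fe472898c91f092898a6672380cae232ea182a119c49c3687ad90caa633aa8c20c69391c5ca69098c31e32691860e61199c2e231b88c7e8687a1c1a860528c81c32c30c68831e98cc2a30340c96879d90c666327a8c0ac0a198c5a631598c52a301b023ac089b02100000)))
noncomputable def eB2_c4 : BT (Bx Nat) := (BT.leaf (Bx.mk (nat_lit 0x1d32ca8e96a3a4a8e8e4baa80eb6a3a1a8e81eba670e72a393a8e4aa391a8e40959e44c6aa38ea8e36a38c8aceda3c0a8e2e23bc92e66039da8e25c3b8b02fec0beb02f6a388b02eac0b9a8e1c63b28aca1f237a8e18e3b188ea66b9598e5a8b1790e62a384b02dac0b5b02d2c0b3a8e0ec0b0b02bec0aeb02aea382b029ec0a2b027ec09ba8e06c094b023ec08ab02140000)))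
noncomputable def eB2_c5 : BT (Bx Nat) := (BT.leaf (Bx.mk (nat_lit 0x184a93a2f4c4bf892eaa4a2628be8abe73ccaa49b72a6064b372aac88b6892c2a48f792e68ab47bcf188b59a285448c8929d4825a922ac0c0a2ab9c816322b6a488a3836c0bba20aa8d91622e224939a225848789250a48e6924aa485b02dea4847a29a8a9fa2869881da920dea20b02c4889e31292a482b02b2c0a8a2066c0a3a9206c09cb025ec095b0242c08bb02180000)))
noncomputable def eB2_c6 : BT (Bx Nat) := (BT.leaf (Bx.mk (nat_lit 0x2a4283cafa643a310fdc42fa908a4c3d83ec5641fa905c6434590ba643024ad9a439a903e4c33590ee642729096a40b690d664216cf02a40a930adc415490a8ef8da9022c0bc910b5c41099050640e5904aa406b02e2641399025a437a9015a426a90124c1b93279d29999082a403b02c8d29a9908d72aca900ac0a991076c0a46ca72a401b0262c096b0246c08cb021c0000)))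
noncomputable def eB2_p : BT (Bx Nat) := (BT.leaf (Bx.mk (nat_lit 0x8a058944890488c4888688858844880466c665c564c464846444640463c663c5638463446304630162c562c462c1628662856244624262416206620562046203620141c441c241c14185418441824181414641454106410541044102410140c640c540c440c340c24086408540844083408120462045204420432042204100000000)))
noncomputable def eB2_e : BT Nat := BT.leaf (nat_lit 0)
noncomputable def eB2_cols : List (BT (Bx Nat)) := [eB2_c0, eB2_c1, eB2_c2, eB2_c3, eB2_c4, eB2_c5, eB2_c6]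
noncomputable def eB2_ch (x j : Nat) : Bx Nat := chunkG eB2_cols (nat_lit 1) x j
noncomputable def eB2_L (x : Nat) : Bx (Nat → Nat) := lookG eB2_ch (nat_lit 8) (nat_lit 255) (nat_lit 18) (nat_lit 262143) x
noncomputable def eB2_pc (_ j : Nat) : Bx Nat := eB2_p.get j
noncomputable def eB2_pb : Bx (Nat → Nat) := lookG eB2_pc (nat_lit 8) (nat_lit 255) (nat_lit 16) (nat_lit 65535) (nat_lit 0)
noncomputable def eB2_rots : BT CW := (BT.node (nat_lit 21) (BT.node (nat_lit 10) (BT.node (nat_lit 5) (BT.node (nat_lit 2) (BT.node (nat_lit 1) (BT.leaf ⟨[], (nat_lit 1000000), (nat_lit 0), (nat_lit 0), (nat_lit 0)⟩) (BT.leaf ⟨[], (nat_lit 1000000), (nat_lit 0), (nat_lit 0), (nat_lit 1)⟩)) (BT.node (nat_lit 3) (BT.leaf ⟨[], (nat_lit 1000000), (nat_lit 0), (nat_lit 0), (nat_lit 2)⟩) (BT.node (nat_lit 4) (BT.leaf ⟨[(nat_lit 2), (nat_lit 1)], (nat_lit 13), (nat_lit 1), (nat_lit 0), (nat_lit 3)⟩) (BT.leaf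 ⟨[(nat_lit 1), (nat_lit 2)], (nat_lit 13), (nat_lit 0), (nat_lit 0), (nat_lit 3)⟩)))) (BT.node (nat_lit 7) (BT.node (nat_lit 6) (BT.leaf ⟨[(nat_lit 3), (nat_lit 3)], (nat_lit 1), (nat_lit 0), (nat_lit 0), (nat_lit 3)⟩) (BT.leaf ⟨[(nat_lit 4), (nat_lit 4)], (nat_lit 5), (nat_lit 0), (nat_lit 0), (nat_lit 3)⟩)) (BT.node (nat_lit 8) (BT.leaf ⟨[(nat_lit 6), (nat_lit 5)], (nat_lit 10), (nat_lit 1), (nat_lit 0), (nat_lit 3)⟩) (BT.node (nat_lit 9) (BT.leaf ⟨[(nat_lit 5), (nat_lit 6)], (nat_lit 10), (nat_lit 0), (nat_lit 0), (nat_lit 3)⟩) (BT.leaf ⟨[(nat_lit 1), (nat_lit 4), (nat_lit 1), (nat_lit 4)], (nat_lit 3), (nat_lit 1), (nat_lit 0), (nat_lit 3)⟩))))) (BT.node (nat_lit 15) (BT.node (nat_lit 12) (BT.node (nat_lit 11) (BT.leaf ⟨[(nat_lit 2), (nat_lit 4), (nat_lit 2), (nat_lit 4)], (nat_lit 17), (nat_lit 0), (nat_lit 0), (nat_lit 3)⟩) (BT.leaf ⟨[(nat_lit 3), (nat_lit 4), (nat_lit 3), (nat_lit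 4)], (nat_lit 4), (nat_lit 1), (nat_lit 0), (nat_lit 3)⟩)) (BT.node (nat_lit 13) (BT.leaf ⟨[(nat_lit 3), (nat_lit 5), (nat_lit 3), (nat_lit 6)], (nat_lit 7), (nat_lit 3), (nat_lit 0), (nat_lit 3)⟩) (BT.node (nat_lit 14) (BT.leaf ⟨[(nat_lit 3), (nat_lit 6), (nat_lit 3), (nat_lit 5)], (nat_lit 7), (nat_lit 1), (nat_lit 0), (nat_lit 3)⟩) (BT.leaf ⟨[(nat_lit 3), (nat_lit 2), (nat_lit 5), (nat_lit 1), (nat_lit 6)], (nat_lit 6), (nat_lit 3), (nat_lit 0), (nat_lit 3)⟩)))) (BT.node (nat_lit 18) (BT.node (nat_lit 16) (BT.leaf ⟨[(nat_lit 5), (nat_lit 2), (nat_lit 6), (nat_lit 1), (nat_lit 3)], (nat_lit 20), (nat_lit 2), (nat_lit 0), (nat_lit 3)⟩) (BT.node (nat_lit 17) (BT.leaf ⟨[(nat_lit 5), (nat_lit 3), (nat_lit 6), (nat_lit 3)], (nat_lit 7), (nat_lit 0), (nat_lit 0), (nat_lit 3)⟩) (BT.leaf ⟨[(nat_lit 1), (nat_lit 6), (nat_lit 3), (nat_lit 2), (nat_lit 5)], (nat_lit 6), (nat_lit 1), (nat_lit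 0), (nat_lit 3)⟩))) (BT.node (nat_lit 19) (BT.leaf ⟨[(nat_lit 1), (nat_lit 3), (nat_lit 5), (nat_lit 2), (nat_lit 6)], (nat_lit 20), (nat_lit 0), (nat_lit 0), (nat_lit 3)⟩) (BT.node (nat_lit 20) (BT.leaf ⟨[(nat_lit 5), (nat_lit 1), (nat_lit 6), (nat_lit 3), (nat_lit 2)], (nat_lit 6), (nat_lit 0), (nat_lit 0), (nat_lit 3)⟩) (BT.leaf ⟨[(nat_lit 5), (nat_lit 4), (nat_lit 5), (nat_lit 3), (nat_lit 4)], (nat_lit 9), (nat_lit 1), (nat_lit 0), (nat_lit 3)⟩)))))) (BT.node (nat_lit 32) (BT.node (nat_lit 26) (BT.node (nat_lit 23) (BT.node (nat_lit 22) (BT.leaf ⟨[(nat_lit 4), (nat_lit 6), (nat_lit 4), (nat_lit 3), (nat_lit 6)], (nat_lit 23), (nat_lit 2), (nat_lit 0), (nat_lit 3)⟩) (BT.leaf ⟨[(nat_lit 4), (nat_lit 3), (nat_lit 6), (nat_lit 4), (nat_lit 6)], (nat_lit 23), (nat_lit 4), (nat_lit 0), (nat_lit 3)⟩)) (BT.node (nat_lit 24) (BT.leaf ⟨[(nat_lit 6), (nat_lit 4), (nat_lit 6), (nat_lit 4),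 (nat_lit 3)], (nat_lit 23), (nat_lit 1), (nat_lit 0), (nat_lit 3)⟩) (BT.node (nat_lit 25) (BT.leaf ⟨[(nat_lit 6), (nat_lit 1), (nat_lit 3), (nat_lit 5), (nat_lit 2)], (nat_lit 20), (nat_lit 4), (nat_lit 0), (nat_lit 3)⟩) (BT.leaf ⟨[(nat_lit 2), (nat_lit 6), (nat_lit 1), (nat_lit 3), (nat_lit 5)], (nat_lit 20), (nat_lit 3), (nat_lit 0), (nat_lit 3)⟩)))) (BT.node (nat_lit 29) (BT.node (nat_lit 27) (BT.leaf ⟨[(nat_lit 5), (nat_lit 5), (nat_lit 1), (nat_lit 1), (nat_lit 1), (nat_lit 1)], (nat_lit 8), (nat_lit 0), (nat_lit 0), (nat_lit 3)⟩) (BT.node (nat_lit 28) (BT.leaf ⟨[(nat_lit 5), (nat_lit 1), (nat_lit 1), (nat_lit 1), (nat_lit 1), (nat_lit 5)], (nat_lit 8), (nat_lit 1), (nat_lit 0), (nat_lit 3)⟩) (BT.leaf ⟨[(nat_lit 1), (nat_lit 1), (nat_lit 1), (nat_lit 1), (nat_lit 5), (nat_lit 5)], (nat_lit 8), (nat_lit 2), (nat_lit 0), (nat_lit 3)⟩))) (BT.node (nat_lit 30) (BT.leaf ⟨[(nat_lit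 5), (nat_lit 3), (nat_lit 4), (nat_lit 5), (nat_lit 4)], (nat_lit 9), (nat_lit 3), (nat_lit 0), (nat_lit 3)⟩) (BT.node (nat_lit 31) (BT.leaf ⟨[(nat_lit 6), (nat_lit 3), (nat_lit 2), (nat_lit 5), (nat_lit 1)], (nat_lit 6), (nat_lit 2), (nat_lit 0), (nat_lit 3)⟩) (BT.leaf ⟨[(nat_lit 1), (nat_lit 1), (nat_lit 1), (nat_lit 1), (nat_lit 1), (nat_lit 1), (nat_lit 1), (nat_lit 1)], (nat_lit 0), (nat_lit 0), (nat_lit 0), (nat_lit 3)⟩))))) (BT.node (nat_lit 37) (BT.node (nat_lit 34) (BT.node (nat_lit 33) (BT.leaf ⟨[(nat_lit 3), (nat_lit 2), (nat_lit 3), (nat_lit 1), (nat_lit 1), (nat_lit 1), (nat_lit 1), (nat_lit 1)], (nat_lit 16), (nat_lit 5), (nat_lit 0), (nat_lit 3)⟩) (BT.leaf ⟨[(nat_lit 2), (nat_lit 3), (nat_lit 1), (nat_lit 1), (nat_lit 1), (nat_lit 1), (nat_lit 1), (nat_lit 3)], (nat_lit 16), (nat_lit 6), (nat_lit 0), (nat_lit 3)⟩)) (BT.node (nat_lit 35) (BT.leaf ⟨[(nat_lit 3), (nat_lit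 1), (nat_lit 1), (nat_lit 1), (nat_lit 1), (nat_lit 1), (nat_lit 3), (nat_lit 2)], (nat_lit 16), (nat_lit 7), (nat_lit 0), (nat_lit 3)⟩) (BT.node (nat_lit 36) (BT.leaf ⟨[(nat_lit 4), (nat_lit 1), (nat_lit 4), (nat_lit 1)], (nat_lit 3), (nat_lit 0), (nat_lit 0), (nat_lit 3)⟩) (BT.leaf ⟨[(nat_lit 6), (nat_lit 3), (nat_lit 5), (nat_lit 3)], (nat_lit 7), (nat_lit 2), (nat_lit 0), (nat_lit 3)⟩)))) (BT.node (nat_lit 40) (BT.node (nat_lit 38) (BT.leaf ⟨[(nat_lit 4), (nat_lit 2), (nat_lit 4), (nat_lit 2)], (nat_lit 17), (nat_lit 1), (nat_lit 0), (nat_lit 3)⟩) (BT.node (nat_lit 39) (BT.leaf ⟨[(nat_lit 6), (nat_lit 4), (nat_lit 3), (nat_lit 6), (nat_lit 4)], (nat_lit 23), (nat_lit 3), (nat_lit 0), (nat_lit 3)⟩) (BT.leaf ⟨[(nat_lit 2), (nat_lit 5), (nat_lit 1), (nat_lit 6), (nat_lit 3)], (nat_lit 6), (nat_lit 4), (nat_lit 0), (nat_lit 3)⟩))) (BT.node (nat_lit 41) (BT.leaf ⟨[(nat_lit 2), (nat_lit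 6), (nat_lit 6), (nat_lit 2), (nat_lit 2), (nat_lit 2)], (nat_lit 22), (nat_lit 3), (nat_lit 0), (nat_lit 3)⟩) (BT.node (nat_lit 42) (BT.leaf ⟨[(nat_lit 2), (nat_lit 2), (nat_lit 6), (nat_lit 6), (nat_lit 2), (nat_lit 2)], (nat_lit 22), (nat_lit 2), (nat_lit 0), (nat_lit 3)⟩) (BT.leaf ⟨[(nat_lit 4), (nat_lit 3), (nat_lit 4), (nat_lit 3)], (nat_lit 4), (nat_lit 0), (nat_lit 0), (nat_lit 3)⟩)))))))
noncomputable def eB2_hcs : List CW := []
noncomputable def eB2_H (x j : Nat) : Bx (Nat → Nat → Nat) := mkH eB2_L eB2_pb.1 eB2_e.get (lmap CW.w eB2_hcs) (nat_lit 64) (nat_lit 65) (nat_lit 7) (nat_lit 128) (nat_lit 8192) (nat_lit 8191) x (eB2_rots.get j)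
noncomputable def eB2_F (x b : Nat) : Bool := blkOK eB2_H eB2_ch (nat_lit 65) (nat_lit 128) (nat_lit 64) (nat_lit 8) (nat_lit 255) (nat_lit 18) (nat_lit 262143) x b

theorem eB2_k0_0 : allFrom (eB2_F (nat_lit 0)) (nat_lit 0) (nat_lit 4) = true := by decide +kernel
theorem eB2_k1_0 : allFrom (eB2_F (nat_lit 1)) (nat_lit 0) (nat_lit 4) = true := by decide +kernel
theorem eB2_k2_0 : allFrom (eB2_F (nat_lit 2)) (nat_lit 0) (nat_lit 4) = true := by decide +kernel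
theorem eB2_k3_0 : allFrom (eB2_F (nat_lit 3)) (nat_lit 0) (nat_lit 4) = true := by decide +kernel
theorem eB2_k4_0 : allFrom (eB2_F (nat_lit 4)) (nat_lit 0) (nat_lit 4) = true := by decide +kernel
theorem eB2_k5_0 : allFrom (eB2_F (nat_lit 5)) (nat_lit 0) (nat_lit 4) = true := by decide +kernel
theorem eB2_k6_0 : allFrom (eB2_F (nat_lit 6)) (nat_lit 0) (nat_lit 4) = true := by decide +kernel

theorem eB2_all : Cov eB2_F 4 7 0 := by
  have h := Cov.zero eB2_F 4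
  have h := h.blk (b := 4) eB2_k0_0 rfl
  have h := h.next (y := 1) rfl rfl
  have h := h.blk (b := 4) eB2_k1_0 rfl
  have h := h.next (y := 2) rfl rfl
  have h := h.blk (b := 4) eB2_k2_0 rfl
  have h := h.next (y := 3) rfl rfl
  have h := h.blk (b := 4) eB2_k3_0 rfl
  have h := h.next (y := 4) rfl rfl
  have h := h.blk (b := 4) eB2_k4_0 rfl
  have h := h.next (y := 5) rfl rfl
  have h := h.blk (b := 4) eB2_k5_0 rfl
  have h := h.next (y := 6) rfl rfl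
  have h := h.blk (b := 4) eB2_k6_0 rfl
  have h := h.next (y := 7) rfl rfl
  exact h

theorem eB2 : Enum RB2 [] (gensW 4) 64 :=
  ⟨eB2_cols, eB2_ch, eB2_L, eB2_H, eB2_pb.1, eB2_e.get, [(nat_lit 0), (nat_lit 1), (nat_lit 2), (nat_lit 3), (nat_lit 5), (nat_lit 7), (nat_lit 8)], (nat_lit 6), (nat_lit 4), eB2_rots, eB2_hcs,
    (nat_lit 65), (nat_lit 7), (nat_lit 128), (nat_lit 64), (nat_lit 8192), (nat_lit 8191), (nat_lit 8), (nat_lit 255), (nat_lit 18), (nat_lit 262143), (nat_lit 1), (nat_lit 4),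
    fun _ _ => rfl, fun _ => rfl, fun _ _ => rfl, by decide +kernel, eB2_all.1⟩

theorem pB2 : TB2.Pres RB2 (gensW 4) := ⟨CT.ok_spec TB2_ok, lall_iff.1 TB2_rel, by decide +kernel,
  by decide +kernel, by decide +kernel, eB2.bound (ug_rels _) (bound_nil _)⟩

instance instTB2 : TB2.Grp := pB2.grp

noncomputable def RB3 : List (List Nat) := [[(nat_lit 1), (nat_lit 1), (nat_lit 1), (nat_lit 1), (nat_lit 1), (nat_lit 1), (nat_lit 1), (nat_lit 1)],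
  [(nat_lit 3), (nat_lit 3)],
  [(nat_lit 3), (nat_lit 1), (nat_lit 3), (nat_lit 2), (nat_lit 2), (nat_lit 2), (nat_lit 2), (nat_lit 2)],
  [(nat_lit 5), (nat_lit 1), (nat_lit 6), (nat_lit 1)],
  [(nat_lit 5), (nat_lit 3), (nat_lit 6), (nat_lit 3)],
  [(nat_lit 5), (nat_lit 5)],
  [(nat_lit 7), (nat_lit 1), (nat_lit 8), (nat_lit 4), (nat_lit 2)],
  [(nat_lit 7), (nat_lit 3), (nat_lit 8), (nat_lit 3)],
  [(nat_lit 7), (nat_lit 7), (nat_lit 1), (nat_lit 1), (nat_lit 1), (nat_lit 1)],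
  [(nat_lit 5), (nat_lit 7), (nat_lit 5), (nat_lit 7), (nat_lit 4), (nat_lit 2), (nat_lit 2)]]
noncomputable def TB3_c0 : BT (Bx Nat) := (BT.leaf (Bx.mk (nat_lit 0xffef7cefadb7e39be6b6aa27d6ece97f2b31c349608a3864ad628f6d72d069e5154c835870e44765d2523051840c1080)))
noncomputable def TB3_c1 : BT (Bx Nat) := (BT.leaf (Bx.mk (nat_lit 0xeaf8749bdcf2c31ed359769ef3fe103393f7dbe21275924d6e71a2ae8163aad28bd4381552e942b291247dc60e4401c1)))
noncomputable def TB3_c2 : BT (Bx Nat) := (BT.leaf (Bx.mk (nat_lit 0xba6eafd7faada274fce78db7f8e58b6d729a7bb34861cf511f08c67f1885cb340fd240eca4482b51586505d64948c002)))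
noncomputable def TB3_c3 : BT (Bx Nat) := (BT.leaf (Bx.mk (nat_lit 0xd3ad61bbe79a5d6f7fa27aad3bbc234718b3c896ccb29f074b93cb97840adf618511fad976f0a471898181551300d203)))
noncomputable def TB3_c5 : BT (Bx Nat) := (BT.leaf (Bx.mk (nat_lit 0xae57e091b5548a349140f61c34c2d6fca5d9748fbbdb71fcf469f0e85a31a6ce780f5d33c82beeb6a06685e6804ce244)))
noncomputable def TB3_c7 : BT (Bx Nat) := (BT.leaf (Bx.mk (nat_lit 0xa37c5a79786e4feab39b43bdb79d602ef909ff256c1cce2943c4881bb35113a0e5d997027f076306b9d88806d650f285)))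
noncomputable def TB3_c8 : BT (Bx Nat) := (BT.leaf (Bx.mk (nat_lit 0x9f6c1e696ba1f93b72d26f4eab8be42b583f273529307e6c3fb35117c488e84943ddd61f0b1662ac1a1c8db0175502c6)))
noncomputable def TB3_w : BT (Bx Nat) := (BT.leaf (Bx.mk (nat_lit 0x7751523151110857075707750583057308530753052305130582057208520752053205220581018107710571017108510751053102310131081107110511031101110058002800180077005700270017008500750083007300530023001300820072005200320022008100710051003100110008000700050003000200010000)))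
noncomputable def TB3_cols : List (BT (Bx Nat)) := [TB3_c0, TB3_c1, TB3_c2, TB3_c3, TB3_c3, TB3_c5, TB3_c5, TB3_c7, TB3_c8]
noncomputable def TB3_ch (x j : Nat) : Bx Nat := chk TB3_cols x j
noncomputable def TB3_wc (_ j : Nat) : Bx Nat := TB3_w.get j
noncomputable def TB3 : CT := ⟨(nat_lit 64), (nat_lit 6), (nat_lit 63), TB3_ch, (nat_lit 16), (nat_lit 65535), TB3_wc, (nat_lit 510)⟩
theorem TB3_ok : TB3.ok = true := by decide +kernel
theorem TB3_rel : lall TB3.relOK RB3 = true := by decide +kernel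
noncomputable def eB3_c0 : BT (Bx Nat) := (BT.leaf (Bx.mk (nat_lit 0x0)))
noncomputable def eB3_c1 : BT (Bx Nat) := (BT.leaf (Bx.mk (nat_lit 0x2c2bb08ac3452220ad609a7cb4fb0534c94cd453198ac8e53cd1450a29770a62c99bb147ca53d42500a2b930a474d0d28ae9e290b8ae30937c8aff62894244e851e58a6b450a7a638a51ca8aa3628758a8ee2ac70aa7628690a9242abb14b8828b20a3322b6d8a1062a1ca65b4915c8abc42a6d8a0f80ade02ab4505e029780a0e02778099c8a3f8092d8a078088e02080000)))
noncomputable def eB3_c2 : BT (Bx Nat) := (BT.leaf (Bx.mk (nat_lit 0xe22fd169f023b208c0c236baf00cbab32cbb0b29b88a345942aef6e23ac08e691b7488e045bfd163ea217d88330b9c9ac63620b7ac6ecf1f788f06b0ed8826659962c77223e2164b6208a88c66224d881c8220a88c985a3d8819e5b3316d30211c884322353889762043aeb60f2ad1615c221c88b0a5952965b2222e029b6202e027b809ac882b8093e02376201e020c0000)))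
noncomputable def eB3_c3 : BT (Bx Nat) := (BT.leaf (Bx.mk (nat_lit 0xe33534aed663641e8ae32f28cff031fc0c6f0318c0c5d433e41d02632940ca2862bb18bb460fc3ef2a331c8c90c61298ccb2723a1ed12633d1828631c68c3747adc0ca8e33dd8c216313c98e92310c8c308626c98e58311c9c2f26b8c9cdf4687d1c1b460561a80a32c69869471ec8cc3630371897479dc0c672327d8c0b80a1c8c5b2315c8c536301e023b8089e02100000)))
noncomputable def eB3_c4 : BT (Bx Nat) := (BT.leaf (Bx.mk (nat_lit 0xf0acd8e9b63a030e85c3a528e736396d8e5603a3b38936393d8e4b6391d8e428399b0e77638ed8e37638cbb65cc3c0d8e2e239868e6a839ed8e2780bf7c2f2a3b78b8e363883b8f780bed8e1eb028bb6c4d03bd8e19d029ac2ca502ab0eb780bae02e76384e02db80b5e02d380b3d8e0f80b0e02bf80aee02af6382e029f80a2e027f809bd8e078094e023f808ae02140000)))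
noncomputable def eB3_c5 : BT (Bx Nat) := (BT.leaf (Bx.mk (nat_lit 0xe4a9212e12832d926e489f3a862a822ba2bf64942a2fce4ab292d268a7728d7648fc32fa84aea30e924b6ca2854a0c9a2c184a5d922b80c0392cc6896512b76488d3234e8b9d20ab4c113a2f6e493ca2254487e02f1888e2124b6485e02ef64841129b80b7d2868a89dd920d04a0e02c5449e620936482e02b380a8d206780a3d9207809ce025f8095e0243808be02180000)))
noncomputable def eB3_c6 : BT (Bx Nat) := (BT.leaf (Bx.mk (nat_lit 0x36428210dee4313107f641bd905e642f31088aebfd90514eae690ccceb543a9d043ed903e442bb10e6aeb05ba97640b43adb242144503640a910d06e956baa9640dd9022843ac10b52e90890f1720e2104b6406e02f72413c9024c43bd90144426d901380b8c2a78ae99c90836403e02c9641ac908d242cd900b80a9c107780a45c4736401e02638096e0247808ce021c0000)))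
noncomputable def eB3_p : BT (Bx Nat) := (BT.leaf (Bx.mk (nat_lit 0x8a058984880466c666c565c5658465446506650564c464846444640463c663c5638463446304630162c562c462c1628662856244624262416206620562046203620141c441c241c14185418441824181414641454106410541044102410140c640c540c440c340c24086408540844083408120462045204420432042204100000000)))
noncomputable def eB3_e : BT Nat := BT.leaf (nat_lit 0)
noncomputable def eB3_cols : List (BT (Bx Nat)) := [eB3_c0, eB3_c1, eB3_c2, eB3_c3, eB3_c4, eB3_c5, eB3_c6]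
noncomputable def eB3_ch (x j : Nat) : Bx Nat := chunkG eB3_cols (nat_lit 1) x j
noncomputable def eB3_L (x : Nat) : Bx (Nat → Nat) := lookG eB3_ch (nat_lit 8) (nat_lit 255) (nat_lit 18) (nat_lit 262143) x
noncomputable def eB3_pc (_ j : Nat) : Bx Nat := eB3_p.get j
noncomputable def eB3_pb : Bx (Nat → Nat) := lookG eB3_pc (nat_lit 8) (nat_lit 255) (nat_lit 16) (nat_lit 65535) (nat_lit 0)
noncomputable def eB3_rots : BT CW := (BT.node (nat_lit 18) (BT.node (nat_lit 9) (BT.node (nat_lit 4) (BT.node (nat_lit 2) (BT.node (nat_lit 1) (BT.leaf ⟨[], (nat_lit 1000000), (nat_lit 0), (nat_lit 0), (nat_lit 0)⟩) (BT.leaf ⟨[], (nat_lit 1000000), (nat_lit 0), (nat_lit 0), (nat_lit 1)⟩)) (BT.node (nat_lit 3) (BT.leaf ⟨[], (nat_lit 1000000), (nat_lit 0), (nat_lit 0), (nat_lit 2)⟩) (BT.leaf ⟨[(nat_lit 2), (nat_lit 1)], (nat_lit 13), (nat_lit 1), (nat_lit 0), (nat_lit 3)⟩))) (BT.node (nat_lit 6) (BT.node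 (nat_lit 5) (BT.leaf ⟨[(nat_lit 1), (nat_lit 2)], (nat_lit 13), (nat_lit 0), (nat_lit 0), (nat_lit 3)⟩) (BT.leaf ⟨[(nat_lit 3), (nat_lit 3)], (nat_lit 1), (nat_lit 0), (nat_lit 0), (nat_lit 3)⟩)) (BT.node (nat_lit 7) (BT.leaf ⟨[(nat_lit 4), (nat_lit 4)], (nat_lit 5), (nat_lit 0), (nat_lit 0), (nat_lit 3)⟩) (BT.node (nat_lit 8) (BT.leaf ⟨[(nat_lit 6), (nat_lit 5)], (nat_lit 10), (nat_lit 1), (nat_lit 0), (nat_lit 3)⟩) (BT.leaf ⟨[(nat_lit 5), (nat_lit 6)], (nat_lit 10), (nat_lit 0), (nat_lit 0), (nat_lit 3)⟩))))) (BT.node (nat_lit 13) (BT.node (nat_lit 11) (BT.node (nat_lit 10) (BT.leaf ⟨[(nat_lit 1), (nat_lit 4), (nat_lit 1), (nat_lit 4)], (nat_lit 3), (nat_lit 1), (nat_lit 0), (nat_lit 3)⟩) (BT.leaf ⟨[(nat_lit 2), (nat_lit 4), (nat_lit 2), (nat_lit 4)], (nat_lit 17), (nat_lit 0), (nat_lit 0), (nat_lit 3)⟩)) (BT.node (nat_lit 12) (BT.leaf ⟨[(nat_lit 3), (nat_lit 4), (nat_lit 3), (nat_lit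 4)], (nat_lit 4), (nat_lit 1), (nat_lit 0), (nat_lit 3)⟩) (BT.leaf ⟨[(nat_lit 3), (nat_lit 5), (nat_lit 3), (nat_lit 6)], (nat_lit 7), (nat_lit 3), (nat_lit 0), (nat_lit 3)⟩))) (BT.node (nat_lit 15) (BT.node (nat_lit 14) (BT.leaf ⟨[(nat_lit 3), (nat_lit 6), (nat_lit 3), (nat_lit 5)], (nat_lit 7), (nat_lit 1), (nat_lit 0), (nat_lit 3)⟩) (BT.leaf ⟨[(nat_lit 3), (nat_lit 2), (nat_lit 5), (nat_lit 1), (nat_lit 6)], (nat_lit 6), (nat_lit 3), (nat_lit 0), (nat_lit 3)⟩)) (BT.node (nat_lit 16) (BT.leaf ⟨[(nat_lit 5), (nat_lit 2), (nat_lit 6), (nat_lit 1), (nat_lit 3)], (nat_lit 20), (nat_lit 2), (nat_lit 0), (nat_lit 3)⟩) (BT.node (nat_lit 17) (BT.leaf ⟨[(nat_lit 5), (nat_lit 3), (nat_lit 6), (nat_lit 3)], (nat_lit 7), (nat_lit 0), (nat_lit 0), (nat_lit 3)⟩) (BT.leaf ⟨[(nat_lit 1), (nat_lit 6), (nat_lit 3), (nat_lit 2), (nat_lit 5)], (nat_lit 6), (nat_lit 1), (nat_lit 0), (nat_lit 3)⟩))))))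 (BT.node (nat_lit 27) (BT.node (nat_lit 22) (BT.node (nat_lit 20) (BT.node (nat_lit 19) (BT.leaf ⟨[(nat_lit 1), (nat_lit 3), (nat_lit 5), (nat_lit 2), (nat_lit 6)], (nat_lit 20), (nat_lit 0), (nat_lit 0), (nat_lit 3)⟩) (BT.leaf ⟨[(nat_lit 5), (nat_lit 1), (nat_lit 6), (nat_lit 3), (nat_lit 2)], (nat_lit 6), (nat_lit 0), (nat_lit 0), (nat_lit 3)⟩)) (BT.node (nat_lit 21) (BT.leaf ⟨[(nat_lit 6), (nat_lit 1), (nat_lit 3), (nat_lit 5), (nat_lit 2)], (nat_lit 20), (nat_lit 4), (nat_lit 0), (nat_lit 3)⟩) (BT.leaf ⟨[(nat_lit 2), (nat_lit 5), (nat_lit 1), (nat_lit 6), (nat_lit 3)], (nat_lit 6), (nat_lit 4), (nat_lit 0), (nat_lit 3)⟩))) (BT.node (nat_lit 24) (BT.node (nat_lit 23) (BT.leaf ⟨[(nat_lit 2), (nat_lit 6), (nat_lit 1), (nat_lit 3), (nat_lit 5)], (nat_lit 20), (nat_lit 3), (nat_lit 0), (nat_lit 3)⟩) (BT.leaf ⟨[(nat_lit 5), (nat_lit 5), (nat_lit 1), (nat_lit 1), (nat_lit 1), (nat_lit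 1)], (nat_lit 8), (nat_lit 0), (nat_lit 0), (nat_lit 3)⟩)) (BT.node (nat_lit 25) (BT.leaf ⟨[(nat_lit 5), (nat_lit 1), (nat_lit 1), (nat_lit 1), (nat_lit 1), (nat_lit 5)], (nat_lit 8), (nat_lit 1), (nat_lit 0), (nat_lit 3)⟩) (BT.node (nat_lit 26) (BT.leaf ⟨[(nat_lit 1), (nat_lit 1), (nat_lit 1), (nat_lit 1), (nat_lit 5), (nat_lit 5)], (nat_lit 8), (nat_lit 2), (nat_lit 0), (nat_lit 3)⟩) (BT.leaf ⟨[(nat_lit 4), (nat_lit 6), (nat_lit 4), (nat_lit 1), (nat_lit 1), (nat_lit 3), (nat_lit 6)], (nat_lit 23), (nat_lit 4), (nat_lit 0), (nat_lit 3)⟩))))) (BT.node (nat_lit 32) (BT.node (nat_lit 29) (BT.node (nat_lit 28) (BT.leaf ⟨[(nat_lit 4), (nat_lit 3), (nat_lit 4), (nat_lit 3)], (nat_lit 4), (nat_lit 0), (nat_lit 0), (nat_lit 3)⟩) (BT.leaf ⟨[(nat_lit 6), (nat_lit 3), (nat_lit 5), (nat_lit 3)], (nat_lit 7), (nat_lit 2), (nat_lit 0), (nat_lit 3)⟩)) (BT.node (nat_lit 30) (BT.leaf ⟨[(nat_lit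 2), (nat_lit 4), (nat_lit 5), (nat_lit 4), (nat_lit 5), (nat_lit 3), (nat_lit 2)], (nat_lit 9), (nat_lit 6), (nat_lit 0), (nat_lit 3)⟩) (BT.node (nat_lit 31) (BT.leaf ⟨[(nat_lit 3), (nat_lit 6), (nat_lit 4), (nat_lit 6), (nat_lit 4), (nat_lit 1), (nat_lit 1)], (nat_lit 23), (nat_lit 2), (nat_lit 0), (nat_lit 3)⟩) (BT.leaf ⟨[(nat_lit 4), (nat_lit 2), (nat_lit 4), (nat_lit 2)], (nat_lit 17), (nat_lit 1), (nat_lit 0), (nat_lit 3)⟩)))) (BT.node (nat_lit 34) (BT.node (nat_lit 33) (BT.leaf ⟨[(nat_lit 4), (nat_lit 1), (nat_lit 4), (nat_lit 1)], (nat_lit 3), (nat_lit 0), (nat_lit 0), (nat_lit 3)⟩) (BT.leaf ⟨[(nat_lit 6), (nat_lit 6), (nat_lit 2), (nat_lit 2), (nat_lit 2), (nat_lit 2)], (nat_lit 22), (nat_lit 4), (nat_lit 0), (nat_lit 3)⟩)) (BT.node (nat_lit 35) (BT.leaf ⟨[(nat_lit 2), (nat_lit 2), (nat_lit 2), (nat_lit 2), (nat_lit 6), (nat_lit 6)], (nat_lit 22), (nat_lit 0), (nat_lit 0),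 (nat_lit 3)⟩) (BT.node (nat_lit 36) (BT.leaf ⟨[(nat_lit 6), (nat_lit 3), (nat_lit 2), (nat_lit 5), (nat_lit 1)], (nat_lit 6), (nat_lit 2), (nat_lit 0), (nat_lit 3)⟩) (BT.leaf ⟨[(nat_lit 3), (nat_lit 5), (nat_lit 2), (nat_lit 6), (nat_lit 1)], (nat_lit 20), (nat_lit 1), (nat_lit 0), (nat_lit 3)⟩)))))))
noncomputable def eB3_hcs : List CW := []
noncomputable def eB3_H (x j : Nat) : Bx (Nat → Nat → Nat) := mkH eB3_L eB3_pb.1 eB3_e.get (lmap CW.w eB3_hcs) (nat_lit 64) (nat_lit 65) (nat_lit 7) (nat_lit 128) (nat_lit 8192) (nat_lit 8191) x (eB3_rots.get j)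
noncomputable def eB3_F (x b : Nat) : Bool := blkOK eB3_H eB3_ch (nat_lit 65) (nat_lit 128) (nat_lit 64) (nat_lit 8) (nat_lit 255) (nat_lit 18) (nat_lit 262143) x b

theorem eB3_k0_0 : allFrom (eB3_F (nat_lit 0)) (nat_lit 0) (nat_lit 4) = true := by decide +kernel
theorem eB3_k1_0 : allFrom (eB3_F (nat_lit 1)) (nat_lit 0) (nat_lit 4) = true := by decide +kernel
theorem eB3_k2_0 : allFrom (eB3_F (nat_lit 2)) (nat_lit 0) (nat_lit 4) = true := by decide +kernel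
theorem eB3_k3_0 : allFrom (eB3_F (nat_lit 3)) (nat_lit 0) (nat_lit 4) = true := by decide +kernel
theorem eB3_k4_0 : allFrom (eB3_F (nat_lit 4)) (nat_lit 0) (nat_lit 4) = true := by decide +kernel
theorem eB3_k5_0 : allFrom (eB3_F (nat_lit 5)) (nat_lit 0) (nat_lit 4) = true := by decide +kernel
theorem eB3_k6_0 : allFrom (eB3_F (nat_lit 6)) (nat_lit 0) (nat_lit 4) = true := by decide +kernel

theorem eB3_all : Cov eB3_F 4 7 0 := by
  have h := Cov.zero eB3_F 4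
  have h := h.blk (b := 4) eB3_k0_0 rfl
  have h := h.next (y := 1) rfl rfl
  have h := h.blk (b := 4) eB3_k1_0 rfl
  have h := h.next (y := 2) rfl rfl
  have h := h.blk (b := 4) eB3_k2_0 rfl
  have h := h.next (y := 3) rfl rfl
  have h := h.blk (b := 4) eB3_k3_0 rfl
  have h := h.next (y := 4) rfl rfl
  have h := h.blk (b := 4) eB3_k4_0 rfl
  have h := h.next (y := 5) rfl rfl
  have h := h.blk (b := 4) eB3_k5_0 rfl
  have h := h.next (y := 6) rfl rfl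
  have h := h.blk (b := 4) eB3_k6_0 rfl
  have h := h.next (y := 7) rfl rfl
  exact h

theorem eB3 : Enum RB3 [] (gensW 4) 64 :=
  ⟨eB3_cols, eB3_ch, eB3_L, eB3_H, eB3_pb.1, eB3_e.get, [(nat_lit 0), (nat_lit 1), (nat_lit 2), (nat_lit 3), (nat_lit 5), (nat_lit 7), (nat_lit 8)], (nat_lit 6), (nat_lit 4), eB3_rots, eB3_hcs,
    (nat_lit 65), (nat_lit 7), (nat_lit 128), (nat_lit 64), (nat_lit 8192), (nat_lit 8191), (nat_lit 8), (nat_lit 255), (nat_lit 18), (nat_lit 262143), (nat_lit 1), (nat_lit 4),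
    fun _ _ => rfl, fun _ => rfl, fun _ _ => rfl, by decide +kernel, eB3_all.1⟩

theorem pB3 : TB3.Pres RB3 (gensW 4) := ⟨CT.ok_spec TB3_ok, lall_iff.1 TB3_rel, by decide +kernel,
  by decide +kernel, by decide +kernel, eB3.bound (ug_rels _) (bound_nil _)⟩

instance instTB3 : TB3.Grp := pB3.grp

noncomputable def RB4 : List (List Nat) := [[(nat_lit 1), (nat_lit 1), (nat_lit 1), (nat_lit 1), (nat_lit 1), (nat_lit 1), (nat_lit 1), (nat_lit 1)],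
  [(nat_lit 3), (nat_lit 3)],
  [(nat_lit 3), (nat_lit 1), (nat_lit 3), (nat_lit 2), (nat_lit 2), (nat_lit 2), (nat_lit 2), (nat_lit 2)],
  [(nat_lit 5), (nat_lit 1), (nat_lit 6), (nat_lit 1)],
  [(nat_lit 5), (nat_lit 3), (nat_lit 6), (nat_lit 3)],
  [(nat_lit 5), (nat_lit 5), (nat_lit 1), (nat_lit 1), (nat_lit 1), (nat_lit 1)],
  [(nat_lit 7), (nat_lit 1), (nat_lit 8), (nat_lit 4), (nat_lit 2)],
  [(nat_lit 7), (nat_lit 3), (nat_lit 8), (nat_lit 3)],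
  [(nat_lit 7), (nat_lit 7)],
  [(nat_lit 5), (nat_lit 7), (nat_lit 5), (nat_lit 7), (nat_lit 4)]]
noncomputable def TB4_c0 : BT (Bx Nat) := (BT.leaf (Bx.mk (nat_lit 0xffcefef79eb5df0e34cf1cb6beeb6bb2aa689dd9648de85f82299760b41b71655350835938f4476892923061050c1080)))
noncomputable def TB4_c1 : BT (Bx Nat) := (BT.leaf (Bx.mk (nat_lit 0xe289ebb2496ad7f87bf3ef77eb9c185cb41b70c4d421268a24d5b2c46b73d26daebc37957e08c2a451227593ce4401c1)))
noncomputable def TB4_c2 : BT (Bx Nat) := (BT.leaf (Bx.mk (nat_lit 0xdb2c73d2fbbfc15dd761c6ed4d467bf382fef56e7a348d4e3d11e7a211acadd4249620e91447a6aa07e305a28948c002)))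
noncomputable def TB4_c3 : BT (Bx Nat) := (BT.leaf (Bx.mk (nat_lit 0xb7bf3dfa07daab5db1cb3d103cefe7a3786bb1128958ca7ae474976382db72318511d9b0bee0a266590179551300d203)))
noncomputable def TB4_c5 : BT (Bx Nat) := (BT.leaf (Bx.mk (nat_lit 0xee1b7fa5e8b472c9d0e1ac32352f8bd97f3564a21153af473393c6df1a2a5456038ef97309dba0ac19a47db0164ce244)))
noncomputable def TB4_c6 : BT (Bx Nat) := (BT.leaf (Bx.mk (nat_lit 0xf2d869fe27b36eba384306b148df762d8ed9d494484f9f8c1fa3b71b29d5a845e30ee934742bdfb2606581c58050f285)))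
noncomputable def TB4_c7 : BT (Bx Nat) := (BT.leaf (Bx.mk (nat_lit 0x8b9ea07fdf9d5a646ebcf38dcf432496378a276aecabf1fcee9e135122051370db71ad42cb1c2d0689d98406175502c6)))
noncomputable def TB4_w : BT (Bx Nat) := (BT.leaf (Bx.mk (nat_lit 0x7131671157117611751163115311032707550173071306720572076207520732063205320722067105710271017107610751055106310531023101310711061105110311011100670057002700170076007500550073006300530023001300720062005200320022007100610051003100110007000600050003000200010000)))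
noncomputable def TB4_cols : List (BT (Bx Nat)) := [TB4_c0, TB4_c1, TB4_c2, TB4_c3, TB4_c3, TB4_c5, TB4_c6, TB4_c7, TB4_c7]
noncomputable def TB4_ch (x j : Nat) : Bx Nat := chk TB4_cols x j
noncomputable def TB4_wc (_ j : Nat) : Bx Nat := TB4_w.get j
noncomputable def TB4 : CT := ⟨(nat_lit 64), (nat_lit 6), (nat_lit 63), TB4_ch, (nat_lit 16), (nat_lit 65535), TB4_wc, (nat_lit 510)⟩
theorem TB4_ok : TB4.ok = true := by decide +kernel
theorem TB4_rel : lall TB4.relOK RB4 = true := by decide +kernel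
noncomputable def eB4_c0 : BT (Bx Nat) := (BT.leaf (Bx.mk (nat_lit 0x0)))
noncomputable def eB4_c1 : BT (Bx Nat) := (BT.leaf (Bx.mk (nat_lit 0xf4b9514a4e5a880ab2452d50a9542a6214ad05363150169a248af122bd80afdc2be08ae1253b496ea89b150a65c298a8a31429180a72451da3835859461456a28938a4c651ba142e858a52639e29710acc42b2a8a1d252e88ad265359969ec0b720abc82b0a8a11629fa265a65a093a8462a4a8a0ec0aaa141a8585b028ec09eb026a629098a3ec092a8a06c088b02080000)))
noncomputable def eB4_c2 : BT (Bx Nat) := (BT.leaf (Bx.mk (nat_lit 0xa237898cdf032518d155b5408c1022f309004631a8858e23890862461919a74661c988b8a61429a55021a888f2263d188e6a20c488fcc23e9085d663a59aec860ea882542368883e42106464aa208888a226291088aa20759ab5e62c8187a62115889562264508ea2045d4aa8686a1815221f9889ec0ab988866220b0292a202b026e620b9882ac093b0236a201b020c0000)))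
noncomputable def eB4_c3 : BT (Bx Nat) := (BT.leaf (Bx.mk (nat_lit 0xe32e920f227bd80cfa233fa1c8687a0a8c6e282b98cda88b7920ca47b388cd22335a20468710a1e3d0840920a227a980ce2632280cb2232d7444a870ba1e2a521749e3688aa98cee633aa8c20a713920624799b02e6630c88c72231d88c928807a1c1a878520c79a32798cc6633098cbea30340c8e889a98c9a6325a8c0ac09f98c5a631598c52a301b023ac089b02100000)))
noncomputable def eB4_c4 : BT (Bx Nat) := (BT.leaf (Bx.mk (nat_lit 0xf33ca9089a42e31102442aa907d4fa3210d64c9d490b53328a9044afb91906e6431910cea40e2904e4cbfa9031cfb784c62243d610da441a83e2ea409610498415490eec0bea90228d8db02ea8d10a901da43824cca2429590ae64167101a4419a90123324358c1b326b02d2a4038107ac0af81086c0aca900ac0a7b0296c0a0b0272a401b025ec094b023ec08ab02140000)))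
noncomputable def eB4_c5 : BT (Bx Nat) := (BT.leaf (Bx.mk (nat_lit 0xf2bd88ebaa3a292ea8c3c05428ea39f20ed1cb9c68eb1b2a92c2e6a3919aec4639ba2cc8a393a8e39d0be542dea38c64a666b3c92e6903b6a8e298392a8e26039448eeac0bf8bc36a388b02ee2f0f88ee2a38724ace6b289ae59e3aba8e168b186ca92a38433cbdb2a5b02d6639ea8e0ec0b098e82c0ad78e9ea382b029ac0a1b0275ef17a8e06c095b0242c08bb02180000)))
noncomputable def eB4_c6 : BT (Bx Nat) := (BT.leaf (Bx.mk (nat_lit 0x2a4a3992ea24bba9286a4a0930fa8abf24e7aa4976ce9ea492992be24b0a9242a48fa923a4c34a2ad6a48d9929624a699292649fa922ea48a612de4c2ca2ab68a2bb0302a488b02f6c0bca24a864b99925224959924e6489a921aa485b02e2a484930728a9da286ec0b6a920ec0b3b02cac0b1b02baa482b02a6c0a8a246ac0a2a9206c099b0262c096b0246c08cb021c0000)))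
noncomputable def eB4_p : BT (Bx Nat) := (BT.leaf (Bx.mk (nat_lit 0x88c6888588848846880687c587c466c365c66581648664456444640663c66386638563846346630563046302630162c66286628462456244624262416206620562046203620141c541c441c241c14186414641444106410541044102410140c640c540c440c340c24086408540844083408120462045204420432042204100000000)))
noncomputable def eB4_e : BT Nat := BT.leaf (nat_lit 0)
noncomputable def eB4_cols : List (BT (Bx Nat)) := [eB4_c0, eB4_c1, eB4_c2, eB4_c3, eB4_c4, eB4_c5, eB4_c6]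
noncomputable def eB4_ch (x j : Nat) : Bx Nat := chunkG eB4_cols (nat_lit 1) x j
noncomputable def eB4_L (x : Nat) : Bx (Nat → Nat) := lookG eB4_ch (nat_lit 8) (nat_lit 255) (nat_lit 18) (nat_lit 262143) x
noncomputable def eB4_pc (_ j : Nat) : Bx Nat := eB4_p.get j
noncomputable def eB4_pb : Bx (Nat → Nat) := lookG eB4_pc (nat_lit 8) (nat_lit 255) (nat_lit 16) (nat_lit 65535) (nat_lit 0)
noncomputable def eB4_rots : BT CW := (BT.node (nat_lit 22) (BT.node (nat_lit 11) (BT.node (nat_lit 5) (BT.node (nat_lit 2) (BT.node (nat_lit 1) (BT.leaf ⟨[], (nat_lit 1000000), (nat_lit 0), (nat_lit 0), (nat_lit 0)⟩) (BT.leaf ⟨[], (nat_lit 1000000), (nat_lit 0), (nat_lit 0), (nat_lit 1)⟩)) (BT.node (nat_lit 3) (BT.leaf ⟨[], (nat_lit 1000000), (nat_lit 0), (nat_lit 0), (nat_lit 2)⟩) (BT.node (nat_lit 4) (BT.leaf ⟨[(nat_lit 2), (nat_lit 1)], (nat_lit 13), (nat_lit 1), (nat_lit 0), (nat_lit 3)⟩) (BT.leaf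 ⟨[(nat_lit 1), (nat_lit 2)], (nat_lit 13), (nat_lit 0), (nat_lit 0), (nat_lit 3)⟩)))) (BT.node (nat_lit 8) (BT.node (nat_lit 6) (BT.leaf ⟨[(nat_lit 3), (nat_lit 3)], (nat_lit 1), (nat_lit 0), (nat_lit 0), (nat_lit 3)⟩) (BT.node (nat_lit 7) (BT.leaf ⟨[(nat_lit 5), (nat_lit 4)], (nat_lit 11), (nat_lit 1), (nat_lit 0), (nat_lit 3)⟩) (BT.leaf ⟨[(nat_lit 4), (nat_lit 5)], (nat_lit 11), (nat_lit 0), (nat_lit 0), (nat_lit 3)⟩))) (BT.node (nat_lit 9) (BT.leaf ⟨[(nat_lit 6), (nat_lit 6)], (nat_lit 8), (nat_lit 0), (nat_lit 0), (nat_lit 3)⟩) (BT.node (nat_lit 10) (BT.leaf ⟨[(nat_lit 1), (nat_lit 4), (nat_lit 1), (nat_lit 5)], (nat_lit 3), (nat_lit 3), (nat_lit 0), (nat_lit 3)⟩) (BT.leaf ⟨[(nat_lit 1), (nat_lit 5), (nat_lit 1), (nat_lit 4)], (nat_lit 3), (nat_lit 1), (nat_lit 0), (nat_lit 3)⟩))))) (BT.node (nat_lit 16) (BT.node (nat_lit 13) (BT.node (nat_lit 12) (BT.leaf ⟨[(nat_lit 2), (nat_lit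 5), (nat_lit 2), (nat_lit 4)], (nat_lit 17), (nat_lit 2), (nat_lit 0), (nat_lit 3)⟩) (BT.leaf ⟨[(nat_lit 2), (nat_lit 4), (nat_lit 2), (nat_lit 5)], (nat_lit 17), (nat_lit 0), (nat_lit 0), (nat_lit 3)⟩)) (BT.node (nat_lit 14) (BT.leaf ⟨[(nat_lit 3), (nat_lit 4), (nat_lit 3), (nat_lit 5)], (nat_lit 4), (nat_lit 3), (nat_lit 0), (nat_lit 3)⟩) (BT.node (nat_lit 15) (BT.leaf ⟨[(nat_lit 3), (nat_lit 5), (nat_lit 3), (nat_lit 4)], (nat_lit 4), (nat_lit 1), (nat_lit 0), (nat_lit 3)⟩) (BT.leaf ⟨[(nat_lit 3), (nat_lit 6), (nat_lit 3), (nat_lit 6)], (nat_lit 7), (nat_lit 1), (nat_lit 0), (nat_lit 3)⟩)))) (BT.node (nat_lit 19) (BT.node (nat_lit 17) (BT.leaf ⟨[(nat_lit 3), (nat_lit 2), (nat_lit 6), (nat_lit 1), (nat_lit 6)], (nat_lit 6), (nat_lit 3), (nat_lit 0), (nat_lit 3)⟩) (BT.node (nat_lit 18) (BT.leaf ⟨[(nat_lit 6), (nat_lit 2), (nat_lit 6), (nat_lit 1), (nat_lit 3)], (nat_lit 20), (nat_lit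 2), (nat_lit 0), (nat_lit 3)⟩) (BT.leaf ⟨[(nat_lit 1), (nat_lit 6), (nat_lit 3), (nat_lit 2), (nat_lit 6)], (nat_lit 6), (nat_lit 1), (nat_lit 0), (nat_lit 3)⟩))) (BT.node (nat_lit 20) (BT.leaf ⟨[(nat_lit 6), (nat_lit 1), (nat_lit 6), (nat_lit 3), (nat_lit 2)], (nat_lit 6), (nat_lit 0), (nat_lit 0), (nat_lit 3)⟩) (BT.node (nat_lit 21) (BT.leaf ⟨[(nat_lit 6), (nat_lit 4), (nat_lit 6), (nat_lit 3), (nat_lit 4)], (nat_lit 9), (nat_lit 1), (nat_lit 0), (nat_lit 3)⟩) (BT.leaf ⟨[(nat_lit 5), (nat_lit 6), (nat_lit 5), (nat_lit 3), (nat_lit 6)], (nat_lit 23), (nat_lit 2), (nat_lit 0), (nat_lit 3)⟩)))))) (BT.node (nat_lit 33) (BT.node (nat_lit 27) (BT.node (nat_lit 24) (BT.node (nat_lit 23) (BT.leaf ⟨[(nat_lit 5), (nat_lit 3), (nat_lit 6), (nat_lit 5), (nat_lit 6)], (nat_lit 23), (nat_lit 4), (nat_lit 0), (nat_lit 3)⟩) (BT.leaf ⟨[(nat_lit 6), (nat_lit 5), (nat_lit 6), (nat_lit 5), (nat_lit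 3)], (nat_lit 23), (nat_lit 1), (nat_lit 0), (nat_lit 3)⟩)) (BT.node (nat_lit 25) (BT.leaf ⟨[(nat_lit 4), (nat_lit 6), (nat_lit 3), (nat_lit 4), (nat_lit 6)], (nat_lit 9), (nat_lit 2), (nat_lit 0), (nat_lit 3)⟩) (BT.node (nat_lit 26) (BT.leaf ⟨[(nat_lit 4), (nat_lit 4), (nat_lit 1), (nat_lit 1), (nat_lit 1), (nat_lit 1)], (nat_lit 5), (nat_lit 0), (nat_lit 0), (nat_lit 3)⟩) (BT.leaf ⟨[(nat_lit 4), (nat_lit 1), (nat_lit 1), (nat_lit 1), (nat_lit 1), (nat_lit 4)], (nat_lit 5), (nat_lit 1), (nat_lit 0), (nat_lit 3)⟩)))) (BT.node (nat_lit 30) (BT.node (nat_lit 28) (BT.leaf ⟨[(nat_lit 1), (nat_lit 1), (nat_lit 1), (nat_lit 1), (nat_lit 4), (nat_lit 4)], (nat_lit 5), (nat_lit 2), (nat_lit 0), (nat_lit 3)⟩) (BT.node (nat_lit 29) (BT.leaf ⟨[(nat_lit 1), (nat_lit 1), (nat_lit 1), (nat_lit 4), (nat_lit 4), (nat_lit 1)], (nat_lit 5), (nat_lit 3), (nat_lit 0), (nat_lit 3)⟩) (BT.leaf ⟨[(nat_lit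 5), (nat_lit 1), (nat_lit 4), (nat_lit 1)], (nat_lit 3), (nat_lit 2), (nat_lit 0), (nat_lit 3)⟩))) (BT.node (nat_lit 31) (BT.leaf ⟨[(nat_lit 4), (nat_lit 2), (nat_lit 5), (nat_lit 2)], (nat_lit 17), (nat_lit 1), (nat_lit 0), (nat_lit 3)⟩) (BT.node (nat_lit 32) (BT.leaf ⟨[(nat_lit 2), (nat_lit 6), (nat_lit 1), (nat_lit 6), (nat_lit 3)], (nat_lit 6), (nat_lit 4), (nat_lit 0), (nat_lit 3)⟩) (BT.leaf ⟨[(nat_lit 5), (nat_lit 2), (nat_lit 4), (nat_lit 2)], (nat_lit 17), (nat_lit 3), (nat_lit 0), (nat_lit 3)⟩))))) (BT.node (nat_lit 38) (BT.node (nat_lit 35) (BT.node (nat_lit 34) (BT.leaf ⟨[(nat_lit 3), (nat_lit 2), (nat_lit 3), (nat_lit 1), (nat_lit 1), (nat_lit 1), (nat_lit 1), (nat_lit 1)], (nat_lit 16), (nat_lit 5), (nat_lit 0), (nat_lit 3)⟩) (BT.leaf ⟨[(nat_lit 2), (nat_lit 3), (nat_lit 1), (nat_lit 1), (nat_lit 1), (nat_lit 1), (nat_lit 1), (nat_lit 3)], (nat_lit 16), (nat_lit 6), (nat_lit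 0), (nat_lit 3)⟩)) (BT.node (nat_lit 36) (BT.leaf ⟨[(nat_lit 3), (nat_lit 1), (nat_lit 1), (nat_lit 1), (nat_lit 1), (nat_lit 1), (nat_lit 3), (nat_lit 2)], (nat_lit 16), (nat_lit 7), (nat_lit 0), (nat_lit 3)⟩) (BT.node (nat_lit 37) (BT.leaf ⟨[(nat_lit 5), (nat_lit 3), (nat_lit 4), (nat_lit 3)], (nat_lit 4), (nat_lit 2), (nat_lit 0), (nat_lit 3)⟩) (BT.leaf ⟨[(nat_lit 4), (nat_lit 3), (nat_lit 5), (nat_lit 3)], (nat_lit 4), (nat_lit 0), (nat_lit 0), (nat_lit 3)⟩)))) (BT.node (nat_lit 41) (BT.node (nat_lit 39) (BT.leaf ⟨[(nat_lit 6), (nat_lit 3), (nat_lit 6), (nat_lit 3)], (nat_lit 7), (nat_lit 0), (nat_lit 0), (nat_lit 3)⟩) (BT.node (nat_lit 40) (BT.leaf ⟨[(nat_lit 2), (nat_lit 5), (nat_lit 5), (nat_lit 2), (nat_lit 2), (nat_lit 2)], (nat_lit 19), (nat_lit 3), (nat_lit 0), (nat_lit 3)⟩) (BT.leaf ⟨[(nat_lit 1), (nat_lit 3), (nat_lit 6), (nat_lit 2), (nat_lit 6)], (nat_lit 20), (nat_lit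 0), (nat_lit 0), (nat_lit 3)⟩))) (BT.node (nat_lit 42) (BT.leaf ⟨[(nat_lit 2), (nat_lit 2), (nat_lit 2), (nat_lit 5), (nat_lit 5), (nat_lit 2)], (nat_lit 19), (nat_lit 1), (nat_lit 0), (nat_lit 3)⟩) (BT.node (nat_lit 43) (BT.leaf ⟨[(nat_lit 2), (nat_lit 2), (nat_lit 5), (nat_lit 5), (nat_lit 2), (nat_lit 2)], (nat_lit 19), (nat_lit 2), (nat_lit 0), (nat_lit 3)⟩) (BT.leaf ⟨[(nat_lit 4), (nat_lit 1), (nat_lit 5), (nat_lit 1)], (nat_lit 3), (nat_lit 0), (nat_lit 0), (nat_lit 3)⟩)))))))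
noncomputable def eB4_hcs : List CW := []
noncomputable def eB4_H (x j : Nat) : Bx (Nat → Nat → Nat) := mkH eB4_L eB4_pb.1 eB4_e.get (lmap CW.w eB4_hcs) (nat_lit 64) (nat_lit 65) (nat_lit 7) (nat_lit 128) (nat_lit 8192) (nat_lit 8191) x (eB4_rots.get j)
noncomputable def eB4_F (x b : Nat) : Bool := blkOK eB4_H eB4_ch (nat_lit 65) (nat_lit 128) (nat_lit 64) (nat_lit 8) (nat_lit 255) (nat_lit 18) (nat_lit 262143) x b

theorem eB4_k0_0 : allFrom (eB4_F (nat_lit 0)) (nat_lit 0) (nat_lit 4) = true := by decide +kernel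
theorem eB4_k1_0 : allFrom (eB4_F (nat_lit 1)) (nat_lit 0) (nat_lit 4) = true := by decide +kernel
theorem eB4_k2_0 : allFrom (eB4_F (nat_lit 2)) (nat_lit 0) (nat_lit 4) = true := by decide +kernel
theorem eB4_k3_0 : allFrom (eB4_F (nat_lit 3)) (nat_lit 0) (nat_lit 4) = true := by decide +kernel
theorem eB4_k4_0 : allFrom (eB4_F (nat_lit 4)) (nat_lit 0) (nat_lit 4) = true := by decide +kernel
theorem eB4_k5_0 : allFrom (eB4_F (nat_lit 5)) (nat_lit 0) (nat_lit 4) = true := by decide +kernel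
theorem eB4_k6_0 : allFrom (eB4_F (nat_lit 6)) (nat_lit 0) (nat_lit 4) = true := by decide +kernel

theorem eB4_all : Cov eB4_F 4 7 0 := by
  have h := Cov.zero eB4_F 4
  have h := h.blk (b := 4) eB4_k0_0 rfl
  have h := h.next (y := 1) rfl rfl
  have h := h.blk (b := 4) eB4_k1_0 rfl
  have h := h.next (y := 2) rfl rfl
  have h := h.blk (b := 4) eB4_k2_0 rfl
  have h := h.next (y := 3) rfl rfl
  have h := h.blk (b := 4) eB4_k3_0 rfl
  have h := h.next (y := 4) rfl rfl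
  have h := h.blk (b := 4) eB4_k4_0 rfl
  have h := h.next (y := 5) rfl rfl
  have h := h.blk (b := 4) eB4_k5_0 rfl
  have h := h.next (y := 6) rfl rfl
  have h := h.blk (b := 4) eB4_k6_0 rfl
  have h := h.next (y := 7) rfl rfl
  exact h

theorem eB4 : Enum RB4 [] (gensW 4) 64 :=
  ⟨eB4_cols, eB4_ch, eB4_L, eB4_H, eB4_pb.1, eB4_e.get, [(nat_lit 0), (nat_lit 1), (nat_lit 2), (nat_lit 3), (nat_lit 5), (nat_lit 6), (nat_lit 7)], (nat_lit 10), (nat_lit 4), eB4_rots, eB4_hcs,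
    (nat_lit 65), (nat_lit 7), (nat_lit 128), (nat_lit 64), (nat_lit 8192), (nat_lit 8191), (nat_lit 8), (nat_lit 255), (nat_lit 18), (nat_lit 262143), (nat_lit 1), (nat_lit 4),
    fun _ _ => rfl, fun _ => rfl, fun _ _ => rfl, by decide +kernel, eB4_all.1⟩

theorem pB4 : TB4.Pres RB4 (gensW 4) := ⟨CT.ok_spec TB4_ok, lall_iff.1 TB4_rel, by decide +kernel,
  by decide +kernel, by decide +kernel, eB4.bound (ug_rels _) (bound_nil _)⟩

instance instTB4 : TB4.Grp := pB4.grp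

noncomputable def RB5 : List (List Nat) := [[(nat_lit 1), (nat_lit 1), (nat_lit 1), (nat_lit 1), (nat_lit 1), (nat_lit 1), (nat_lit 1), (nat_lit 1)],
  [(nat_lit 3), (nat_lit 3)],
  [(nat_lit 3), (nat_lit 1), (nat_lit 3), (nat_lit 2), (nat_lit 2), (nat_lit 2), (nat_lit 2), (nat_lit 2)],
  [(nat_lit 5), (nat_lit 1), (nat_lit 6), (nat_lit 1)],
  [(nat_lit 5), (nat_lit 3), (nat_lit 6), (nat_lit 3)],
  [(nat_lit 5), (nat_lit 5), (nat_lit 1), (nat_lit 1), (nat_lit 1), (nat_lit 1)],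
  [(nat_lit 7), (nat_lit 1), (nat_lit 8), (nat_lit 4), (nat_lit 2)],
  [(nat_lit 7), (nat_lit 3), (nat_lit 8), (nat_lit 3)],
  [(nat_lit 7), (nat_lit 7)],
  [(nat_lit 5), (nat_lit 7), (nat_lit 5), (nat_lit 7), (nat_lit 4), (nat_lit 2), (nat_lit 2)]]
noncomputable def TB5_c0 : BT (Bx Nat) := (BT.leaf (Bx.mk (nat_lit 0xfbfd7cef6df0e7af6cae89f8beeb74ceaa72c5d9648de85f82299760b41b71655350835938f4476892923061050c1080)))
noncomputable def TB5_c1 : BT (Bx Nat) := (BT.leaf (Bx.mk (nat_lit 0x925abdd74cfcc7285761b73bffec39e8b437d8c4d421268a24d5a7a06b6bb26e2ebc37957e08c2a451227593ce4401c1)))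
noncomputable def TB5_c2 : BT (Bx Nat) := (BT.leaf (Bx.mk (nat_lit 0xbeef38c2bb15a27efae76ded4d465763d2db716fbf348d4e3d11f1ca11b3d1d4249620e91447a6aa07e305a28948c002)))
noncomputable def TB5_c3 : BT (Bx Nat) := (BT.leaf (Bx.mk (nat_lit 0x81f6ada9c6f5617e289ebb103cef31cbb874cd128958ca7ff874bae7d2f7da318511d9b0bee0a266590179551300d203)))
noncomputable def TB5_c5 : BT (Bx Nat) := (BT.leaf (Bx.mk (nat_lit 0x7a2d17715aacb61c50f75667352d8be3a63068a21153fdc733e3c6ee8cbca45e438ef97309dba0ac19a47db0164ce244)))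
noncomputable def TB5_c6 : BT (Bx Nat) := (BT.leaf (Bx.mk (nat_lit 0x89ecd86ea56b86dcbd419d6848ddf82f95dac094484fed8c1ff3bb1a7c69f04ea30ee934742bdfb2606581c58050f285)))
noncomputable def TB5_c7 : BT (Bx Nat) := (BT.leaf (Bx.mk (nat_lit 0x71b7625a07e651346590f38daec32ebe378a278d33abc1fae69f7ff9220513b0f7d9ad42cb1c2d0689d98406175502c6)))
noncomputable def TB5_w : BT (Bx Nat) := (BT.leaf (Bx.mk (nat_lit 0x767757327675755673573173763753713672572762752732632532722671571271171761751551631531231131711611511311111067057027017076075055073063053023013072062052032022071061051031011007006005003002001000)))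
noncomputable def TB5_cols : List (BT (Bx Nat)) := [TB5_c0, TB5_c1, TB5_c2, TB5_c3, TB5_c3, TB5_c5, TB5_c6, TB5_c7, TB5_c7]
noncomputable def TB5_ch (x j : Nat) : Bx Nat := chk TB5_cols x j
noncomputable def TB5_wc (_ j : Nat) : Bx Nat := TB5_w.get j
noncomputable def TB5 : CT := ⟨(nat_lit 64), (nat_lit 6), (nat_lit 63), TB5_ch, (nat_lit 12), (nat_lit 4095), TB5_wc, (nat_lit 510)⟩
theorem TB5_ok : TB5.ok = true := by decide +kernel
theorem TB5_rel : lall TB5.relOK RB5 = true := by decide +kernel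
noncomputable def eB5_c0 : BT (Bx Nat) := (BT.leaf (Bx.mk (nat_lit 0x0)))
noncomputable def eB5_c1 : BT (Bx Nat) := (BT.leaf (Bx.mk (nat_lit 0x2d1a560a9882ab514f822b6c94d725b420af6253280acc852259461659948a73051d216f122c038aff49b13a6e8653bd8a319411b8ae2e2b7d3035229428a57628930a4ea59bd142f458a50a3aa297b0aa1c5a9d8a1e69ae696b3052dc969f80b9914be45b0d8a11051fd265b25a0c328505a4d8a0f80aad141b4585e028f809ee026b2290c8a3f8092d8a078088e02080000)))
noncomputable def eB5_c2 : BT (Bx Nat) := (BT.leaf (Bx.mk (nat_lit 0x146b0418bd223d29ae46231108b0c22dd885b0aa9c2aa0463cc08ef023a8c8de0238c88ba221488856421ab88618219298fb620c68872f09dc085daabfa8900e20ed88246236b883f02103884b6208b88c94633a088b6207508d14235b187b2211318954aa63988f6204588ab4686d18156a9fc889f80abc88872220e02936202e026f220bc882b8093e02376201e020c0000)))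
noncomputable def eB5_c3 : BT (Bx Nat) := (BT.leaf (Bx.mk (nat_lit 0x2c8a150c83631b49cb8c32bc0c77031cc8cdb0319c0c6348b9a0ca507a858cb3072dd20474710d1e3d033db8cc993b33a0f32322aa2d4e33438c4b470bd1e28e31798c3748aaa8d01673fd8c226313c9cef27bae02fb230cca0e3283741e934807d1c1b4785a22790727c8cc72330c8cbf6303a1c8f489ac8c9b2325d8c0b809fc8c5b2315c8c536301e023b8089e02100000)))
noncomputable def eB5_c4 : BT (Bx Nat) := (BT.leaf (Bx.mk (nat_lit 0x2841f6368dceb5d90606e9dd9058d02b340b6702ec3a888432d9044c43e1badb041a410a3640e9ba4d5037d90306439190edce99990c6a41bb362f64093c048f015ac101c438d90234b8d490ff4b10d901c843c710a5443343af7042aa101b80bad90110424910c10426e02d36403b107b80afb108780acd900b80a7e029780a0e02736401e025f8094e023f808ae02140000)))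
noncomputable def eB5_c5 : BT (Bx Nat) := (BT.leaf (Bx.mk (nat_lit 0x283a353e7cefb438e64af9c244af6396244b1f2a248eb843b368efb63915be68afb6a3ea66f93d8e3a43b828ee7638c28eeb2e187ca6d3131d8e293112d8e25311458efee3b7bb4376388abf02ed0f10ef36387b44a32e3268eab80bdd8e1780bb30e93638490ebcc3a5e02d7239ed8e0f80b0c8e8380ada8e9f6382e029b80a1e0276ad17d8e078095e0243808be02180000)))
noncomputable def eB5_c6 : BT (Bx Nat) := (BT.leaf (Bx.mk (nat_lit 0x3649dd9272891e3928f6497b24854f203129f6495d92536492a1298c4a5d9243648fd923964acb12b7648dbbcbd9330c9293249fd922f648a3bce6a9353bcd34a2b43cf76488a92ed24bad24aa64bee030380bfc924f2489d921b6485e02f36484e02e380b7d286f80b6d920f80b3e02cb80b1e02bb6482e02a780a8d246b80a2d92078099e02638096e0247808ce021c0000)))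
noncomputable def eB5_p : BT (Bx Nat) := (BT.leaf (Bx.mk (nat_lit 0x6746ce0d9b0f302e5c6cb0b96132c0e546ca0d921b222e444c80d8f1b1c36385c7098d1b182e304c6058c071636286c50989171226242c483881b102e204c40788060e2c1c4838507060c341468289041a082c1048205040606340c58189030e0614086810b0212041c081408c81150222043408481040000000)))
noncomputable def eB5_e : BT Nat := BT.leaf (nat_lit 0)
noncomputable def eB5_cols : List (BT (Bx Nat)) := [eB5_c0, eB5_c1, eB5_c2, eB5_c3, eB5_c4, eB5_c5, eB5_c6]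
noncomputable def eB5_ch (x j : Nat) : Bx Nat := chunkG eB5_cols (nat_lit 1) x j
noncomputable def eB5_L (x : Nat) : Bx (Nat → Nat) := lookG eB5_ch (nat_lit 8) (nat_lit 255) (nat_lit 18) (nat_lit 262143) x
noncomputable def eB5_pc (_ j : Nat) : Bx Nat := eB5_p.get j
noncomputable def eB5_pb : Bx (Nat → Nat) := lookG eB5_pc (nat_lit 8) (nat_lit 255) (nat_lit 15) (nat_lit 32767) (nat_lit 0)
noncomputable def eB5_rots : BT CW := (BT.node (nat_lit 20) (BT.node (nat_lit 10) (BT.node (nat_lit 5) (BT.node (nat_lit 2) (BT.node (nat_lit 1) (BT.leaf ⟨[], (nat_lit 1000000), (nat_lit 0), (nat_lit 0), (nat_lit 0)⟩) (BT.leaf ⟨[], (nat_lit 1000000), (nat_lit 0), (nat_lit 0), (nat_lit 1)⟩)) (BT.node (nat_lit 3) (BT.leaf ⟨[], (nat_lit 1000000), (nat_lit 0), (nat_lit 0), (nat_lit 2)⟩) (BT.node (nat_lit 4) (BT.leaf ⟨[(nat_lit 2), (nat_lit 1)], (nat_lit 13), (nat_lit 1), (nat_lit 0), (nat_lit 3)⟩) (BT.leaf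 ⟨[(nat_lit 1), (nat_lit 2)], (nat_lit 13), (nat_lit 0), (nat_lit 0), (nat_lit 3)⟩)))) (BT.node (nat_lit 7) (BT.node (nat_lit 6) (BT.leaf ⟨[(nat_lit 3), (nat_lit 3)], (nat_lit 1), (nat_lit 0), (nat_lit 0), (nat_lit 3)⟩) (BT.leaf ⟨[(nat_lit 5), (nat_lit 4)], (nat_lit 11), (nat_lit 1), (nat_lit 0), (nat_lit 3)⟩)) (BT.node (nat_lit 8) (BT.leaf ⟨[(nat_lit 4), (nat_lit 5)], (nat_lit 11), (nat_lit 0), (nat_lit 0), (nat_lit 3)⟩) (BT.node (nat_lit 9) (BT.leaf ⟨[(nat_lit 6), (nat_lit 6)], (nat_lit 8), (nat_lit 0), (nat_lit 0), (nat_lit 3)⟩) (BT.leaf ⟨[(nat_lit 1), (nat_lit 4), (nat_lit 1), (nat_lit 5)], (nat_lit 3), (nat_lit 3), (nat_lit 0), (nat_lit 3)⟩))))) (BT.node (nat_lit 15) (BT.node (nat_lit 12) (BT.node (nat_lit 11) (BT.leaf ⟨[(nat_lit 1), (nat_lit 5), (nat_lit 1), (nat_lit 4)], (nat_lit 3), (nat_lit 1), (nat_lit 0), (nat_lit 3)⟩) (BT.leaf ⟨[(nat_lit 2), (nat_lit 5), (nat_lit 2), (nat_lit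 4)], (nat_lit 17), (nat_lit 2), (nat_lit 0), (nat_lit 3)⟩)) (BT.node (nat_lit 13) (BT.leaf ⟨[(nat_lit 2), (nat_lit 4), (nat_lit 2), (nat_lit 5)], (nat_lit 17), (nat_lit 0), (nat_lit 0), (nat_lit 3)⟩) (BT.node (nat_lit 14) (BT.leaf ⟨[(nat_lit 3), (nat_lit 4), (nat_lit 3), (nat_lit 5)], (nat_lit 4), (nat_lit 3), (nat_lit 0), (nat_lit 3)⟩) (BT.leaf ⟨[(nat_lit 3), (nat_lit 5), (nat_lit 3), (nat_lit 4)], (nat_lit 4), (nat_lit 1), (nat_lit 0), (nat_lit 3)⟩)))) (BT.node (nat_lit 17) (BT.node (nat_lit 16) (BT.leaf ⟨[(nat_lit 3), (nat_lit 6), (nat_lit 3), (nat_lit 6)], (nat_lit 7), (nat_lit 1), (nat_lit 0), (nat_lit 3)⟩) (BT.leaf ⟨[(nat_lit 3), (nat_lit 2), (nat_lit 6), (nat_lit 1), (nat_lit 6)], (nat_lit 6), (nat_lit 3), (nat_lit 0), (nat_lit 3)⟩)) (BT.node (nat_lit 18) (BT.leaf ⟨[(nat_lit 6), (nat_lit 2), (nat_lit 6), (nat_lit 1), (nat_lit 3)], (nat_lit 20), (nat_lit 2), (nat_lit 0), (nat_lit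 3)⟩) (BT.node (nat_lit 19) (BT.leaf ⟨[(nat_lit 1), (nat_lit 6), (nat_lit 3), (nat_lit 2), (nat_lit 6)], (nat_lit 6), (nat_lit 1), (nat_lit 0), (nat_lit 3)⟩) (BT.leaf ⟨[(nat_lit 6), (nat_lit 1), (nat_lit 6), (nat_lit 3), (nat_lit 2)], (nat_lit 6), (nat_lit 0), (nat_lit 0), (nat_lit 3)⟩)))))) (BT.node (nat_lit 30) (BT.node (nat_lit 25) (BT.node (nat_lit 22) (BT.node (nat_lit 21) (BT.leaf ⟨[(nat_lit 2), (nat_lit 6), (nat_lit 1), (nat_lit 6), (nat_lit 3)], (nat_lit 6), (nat_lit 4), (nat_lit 0), (nat_lit 3)⟩) (BT.leaf ⟨[(nat_lit 4), (nat_lit 4), (nat_lit 1), (nat_lit 1), (nat_lit 1), (nat_lit 1)], (nat_lit 5), (nat_lit 0), (nat_lit 0), (nat_lit 3)⟩)) (BT.node (nat_lit 23) (BT.leaf ⟨[(nat_lit 4), (nat_lit 1), (nat_lit 1), (nat_lit 1), (nat_lit 1), (nat_lit 4)], (nat_lit 5), (nat_lit 1), (nat_lit 0), (nat_lit 3)⟩) (BT.node (nat_lit 24) (BT.leaf ⟨[(nat_lit 1), (nat_lit 1), (nat_lit 1), (nat_lit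 1), (nat_lit 4), (nat_lit 4)], (nat_lit 5), (nat_lit 2), (nat_lit 0), (nat_lit 3)⟩) (BT.leaf ⟨[(nat_lit 1), (nat_lit 1), (nat_lit 1), (nat_lit 4), (nat_lit 4), (nat_lit 1)], (nat_lit 5), (nat_lit 3), (nat_lit 0), (nat_lit 3)⟩)))) (BT.node (nat_lit 27) (BT.node (nat_lit 26) (BT.leaf ⟨[(nat_lit 5), (nat_lit 1), (nat_lit 4), (nat_lit 1)], (nat_lit 3), (nat_lit 2), (nat_lit 0), (nat_lit 3)⟩) (BT.leaf ⟨[(nat_lit 4), (nat_lit 2), (nat_lit 5), (nat_lit 2)], (nat_lit 17), (nat_lit 1), (nat_lit 0), (nat_lit 3)⟩)) (BT.node (nat_lit 28) (BT.leaf ⟨[(nat_lit 5), (nat_lit 6), (nat_lit 5), (nat_lit 1), (nat_lit 1), (nat_lit 3), (nat_lit 6)], (nat_lit 23), (nat_lit 4), (nat_lit 0), (nat_lit 3)⟩) (BT.node (nat_lit 29) (BT.leaf ⟨[(nat_lit 4), (nat_lit 3), (nat_lit 5), (nat_lit 3)], (nat_lit 4), (nat_lit 0), (nat_lit 0), (nat_lit 3)⟩) (BT.leaf ⟨[(nat_lit 6), (nat_lit 3), (nat_lit 6), (nat_lit 3)], (nat_lit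 7), (nat_lit 0), (nat_lit 0), (nat_lit 3)⟩))))) (BT.node (nat_lit 35) (BT.node (nat_lit 32) (BT.node (nat_lit 31) (BT.leaf ⟨[(nat_lit 5), (nat_lit 3), (nat_lit 4), (nat_lit 3)], (nat_lit 4), (nat_lit 2), (nat_lit 0), (nat_lit 3)⟩) (BT.leaf ⟨[(nat_lit 4), (nat_lit 1), (nat_lit 5), (nat_lit 1)], (nat_lit 3), (nat_lit 0), (nat_lit 0), (nat_lit 3)⟩)) (BT.node (nat_lit 33) (BT.leaf ⟨[(nat_lit 2), (nat_lit 4), (nat_lit 6), (nat_lit 4), (nat_lit 6), (nat_lit 3), (nat_lit 2)], (nat_lit 9), (nat_lit 6), (nat_lit 0), (nat_lit 3)⟩) (BT.node (nat_lit 34) (BT.leaf ⟨[(nat_lit 5), (nat_lit 2), (nat_lit 4), (nat_lit 2)], (nat_lit 17), (nat_lit 3), (nat_lit 0), (nat_lit 3)⟩) (BT.leaf ⟨[(nat_lit 1), (nat_lit 3), (nat_lit 6), (nat_lit 2), (nat_lit 6)], (nat_lit 20), (nat_lit 0), (nat_lit 0), (nat_lit 3)⟩)))) (BT.node (nat_lit 37) (BT.node (nat_lit 36) (BT.leaf ⟨[(nat_lit 2), (nat_lit 6), (nat_lit 1),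 (nat_lit 3), (nat_lit 6)], (nat_lit 20), (nat_lit 3), (nat_lit 0), (nat_lit 3)⟩) (BT.leaf ⟨[(nat_lit 5), (nat_lit 5), (nat_lit 2), (nat_lit 2), (nat_lit 2), (nat_lit 2)], (nat_lit 19), (nat_lit 4), (nat_lit 0), (nat_lit 3)⟩)) (BT.node (nat_lit 38) (BT.leaf ⟨[(nat_lit 6), (nat_lit 3), (nat_lit 2), (nat_lit 6), (nat_lit 1)], (nat_lit 6), (nat_lit 2), (nat_lit 0), (nat_lit 3)⟩) (BT.node (nat_lit 39) (BT.leaf ⟨[(nat_lit 3), (nat_lit 6), (nat_lit 2), (nat_lit 6), (nat_lit 1)], (nat_lit 20), (nat_lit 1), (nat_lit 0), (nat_lit 3)⟩) (BT.leaf ⟨[(nat_lit 1), (nat_lit 1), (nat_lit 3), (nat_lit 6), (nat_lit 5), (nat_lit 6), (nat_lit 5)], (nat_lit 23), (nat_lit 0), (nat_lit 0), (nat_lit 3)⟩)))))))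
noncomputable def eB5_hcs : List CW := []
noncomputable def eB5_H (x j : Nat) : Bx (Nat → Nat → Nat) := mkH eB5_L eB5_pb.1 eB5_e.get (lmap CW.w eB5_hcs) (nat_lit 64) (nat_lit 65) (nat_lit 7) (nat_lit 128) (nat_lit 8192) (nat_lit 8191) x (eB5_rots.get j)
noncomputable def eB5_F (x b : Nat) : Bool := blkOK eB5_H eB5_ch (nat_lit 65) (nat_lit 128) (nat_lit 64) (nat_lit 8) (nat_lit 255) (nat_lit 18) (nat_lit 262143) x b

theorem eB5_k0_0 : allFrom (eB5_F (nat_lit 0)) (nat_lit 0) (nat_lit 4) = true := by decide +kernel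
theorem eB5_k1_0 : allFrom (eB5_F (nat_lit 1)) (nat_lit 0) (nat_lit 4) = true := by decide +kernel
theorem eB5_k2_0 : allFrom (eB5_F (nat_lit 2)) (nat_lit 0) (nat_lit 4) = true := by decide +kernel
theorem eB5_k3_0 : allFrom (eB5_F (nat_lit 3)) (nat_lit 0) (nat_lit 4) = true := by decide +kernel
theorem eB5_k4_0 : allFrom (eB5_F (nat_lit 4)) (nat_lit 0) (nat_lit 4) = true := by decide +kernel
theorem eB5_k5_0 : allFrom (eB5_F (nat_lit 5)) (nat_lit 0) (nat_lit 4) = true := by decide +kernel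
theorem eB5_k6_0 : allFrom (eB5_F (nat_lit 6)) (nat_lit 0) (nat_lit 4) = true := by decide +kernel

theorem eB5_all : Cov eB5_F 4 7 0 := by
  have h := Cov.zero eB5_F 4
  have h := h.blk (b := 4) eB5_k0_0 rfl
  have h := h.next (y := 1) rfl rfl
  have h := h.blk (b := 4) eB5_k1_0 rfl
  have h := h.next (y := 2) rfl rfl
  have h := h.blk (b := 4) eB5_k2_0 rfl
  have h := h.next (y := 3) rfl rfl
  have h := h.blk (b := 4) eB5_k3_0 rfl
  have h := h.next (y := 4) rfl rfl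
  have h := h.blk (b := 4) eB5_k4_0 rfl
  have h := h.next (y := 5) rfl rfl
  have h := h.blk (b := 4) eB5_k5_0 rfl
  have h := h.next (y := 6) rfl rfl
  have h := h.blk (b := 4) eB5_k6_0 rfl
  have h := h.next (y := 7) rfl rfl
  exact h

theorem eB5 : Enum RB5 [] (gensW 4) 64 :=
  ⟨eB5_cols, eB5_ch, eB5_L, eB5_H, eB5_pb.1, eB5_e.get, [(nat_lit 0), (nat_lit 1), (nat_lit 2), (nat_lit 3), (nat_lit 5), (nat_lit 6), (nat_lit 7)], (nat_lit 10), (nat_lit 4), eB5_rots, eB5_hcs,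
    (nat_lit 65), (nat_lit 7), (nat_lit 128), (nat_lit 64), (nat_lit 8192), (nat_lit 8191), (nat_lit 8), (nat_lit 255), (nat_lit 18), (nat_lit 262143), (nat_lit 1), (nat_lit 4),
    fun _ _ => rfl, fun _ => rfl, fun _ _ => rfl, by decide +kernel, eB5_all.1⟩

theorem pB5 : TB5.Pres RB5 (gensW 4) := ⟨CT.ok_spec TB5_ok, lall_iff.1 TB5_rel, by decide +kernel,
  by decide +kernel, by decide +kernel, eB5.bound (ug_rels _) (bound_nil _)⟩

instance instTB5 : TB5.Grp := pB5.grp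

noncomputable def RB6 : List (List Nat) := [[(nat_lit 1), (nat_lit 1), (nat_lit 1), (nat_lit 1), (nat_lit 1), (nat_lit 1), (nat_lit 1), (nat_lit 1)],
  [(nat_lit 3), (nat_lit 3)],
  [(nat_lit 3), (nat_lit 1), (nat_lit 3), (nat_lit 2), (nat_lit 2), (nat_lit 2), (nat_lit 2), (nat_lit 2)],
  [(nat_lit 5), (nat_lit 1), (nat_lit 6), (nat_lit 1)],
  [(nat_lit 5), (nat_lit 3), (nat_lit 6), (nat_lit 3)],
  [(nat_lit 5), (nat_lit 5), (nat_lit 1), (nat_lit 1), (nat_lit 1), (nat_lit 1)],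
  [(nat_lit 7), (nat_lit 1), (nat_lit 8), (nat_lit 4), (nat_lit 2)],
  [(nat_lit 7), (nat_lit 3), (nat_lit 8), (nat_lit 3)],
  [(nat_lit 7), (nat_lit 7), (nat_lit 1), (nat_lit 1), (nat_lit 1), (nat_lit 1)],
  [(nat_lit 5), (nat_lit 7), (nat_lit 5), (nat_lit 7), (nat_lit 4)]]
noncomputable def TB6_c0 : BT (Bx Nat) := (BT.leaf (Bx.mk (nat_lit 0xf3dfbfebbe78db7d74c31cb3bee8ecaea927a259a9b4c49c6cd4e07da61959724f7614115087a228b54e1871050c1080)))
noncomputable def TB6_c1 : BT (Bx Nat) := (BT.leaf (Bx.mk (nat_lit 0xbafcb1aecf7cfbfefa4db71281f3965c956278b28f6879f6dc6a39e2d30dd350e4658966a82cf0144a6385d450500201)))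
noncomputable def TB6_c2 : BT (Bx Nat) := (BT.leaf (Bx.mk (nat_lit 0xdb7e78d7471b7e059737df0cfbf6baecf25d8504542281efba71b1ca34d2aeca43cf014492d6199a5a8189e2ca54e002)))
noncomputable def TB6_c3 : BT (Bx Nat) := (BT.leaf (Bx.mk (nat_lit 0xf7cffe9a5df6e78450a2fba7cb150b29a3b3c3be8855235c6d33207ea1c61448ed7a2d740a985db2b0646585d600f243)))
noncomputable def TB6_c5 : BT (Bx Nat) := (BT.leaf (Bx.mk (nat_lit 0x9e8c3392949389e3d5f4c37c7612c9517efff883ba476bc61f7b9864571b0ead6ce780a3d26cb106dae581f01a590284)))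
noncomputable def TB6_c6 : BT (Bx Nat) := (BT.leaf (Bx.mk (nat_lit 0xa27cf0a644d27a254ff0d33d85d294256ebefce23b437b871b6bd96046dca83d2be398c2d65c72b41b267e06805d12c5)))
noncomputable def TB6_c7 : BT (Bx Nat) := (BT.leaf (Bx.mk (nat_lit 0xebb966ffed35411e7892bb2928b372c59cc83bdf304d52565cf5041470ea81f7a10a3df68a806dbee76701a71b612306)))
noncomputable def TB6_c8 : BT (Bx Nat) := (BT.leaf (Bx.mk (nat_lit 0xefa9a5fbfd74450e39a6cae42ca331c98c0e23cf7348f517595245106a837e089d8c2db77a7b41baf8686806dc653347)))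
noncomputable def TB6_w : BT (Bx Nat) := (BT.leaf (Bx.mk (nat_lit 0x6711571185117511631153110672057208520752063205320181067105710171085107510551063105310231013108110711061105110311011100280018006700570027001700850075005500830073006300530023001300820072006200520032002200810071006100510031001100080007000600050003000200010000)))
noncomputable def TB6_cols : List (BT (Bx Nat)) := [TB6_c0, TB6_c1, TB6_c2, TB6_c3, TB6_c3, TB6_c5, TB6_c6, TB6_c7, TB6_c8]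
noncomputable def TB6_ch (x j : Nat) : Bx Nat := chk TB6_cols x j
noncomputable def TB6_wc (_ j : Nat) : Bx Nat := TB6_w.get j
noncomputable def TB6 : CT := ⟨(nat_lit 64), (nat_lit 6), (nat_lit 63), TB6_ch, (nat_lit 16), (nat_lit 65535), TB6_wc, (nat_lit 510)⟩
theorem TB6_ok : TB6.ok = true := by decide +kernel
theorem TB6_rel : lall TB6.relOK RB6 = true := by decide +kernel
noncomputable def eB6_c0 : BT (Bx Nat) := (BT.leaf (Bx.mk (nat_lit 0x0)))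
noncomputable def eB6_c1 : BT (Bx Nat) := (BT.leaf (Bx.mk (nat_lit 0x2e5af5cc6040acd71592e2ac5c55a20af8615ea8bbf19780518f0a2dd8e2941cc38696743149986216c5410bc3d930bb259888514a0a58e151aa29f84b190982c92c83829b88510c2ca032dba26388850ec2ea505dd362b980c5c616359587122b52456d10a118152c0b9a8563301899f853902ab88507182d23058c258684c0b182aa3052460a28c13d00a4a0148c60958850318226304100000)))
noncomputable def eB6_c2 : BT (Bx Nat) := (BT.leaf (Bx.mk (nat_lit 0xa2374c47029ae8739c922362446a78875c34e202200844251a5ca38c4420e26b7cc1cf62106ac23f58480f886d835db073c24e2110829710f2e22278422f88499b8ac42093cd5310820b1183872f5b1511081cc1190c23374d48f88520109b022c6045aae0aa2102115b410d6309c1a1342902258045cc0864b10d402278044d182ae2101460a38c13f008320105c60968c11f10806304180000)))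
noncomputable def eB6_c3 : BT (Bx Nat) := (BT.leaf (Bx.mk (nat_lit 0xe7be5907a30d01519fc27a78504c8d2e1a49ba033a6467309e4a1408c032924660d20be0494147b364664dda5613c64280b7ef36b203e14da3e3318067900cee2184988963d02700c38d18ebc89c34f2902434e3d0ba320786570a2221483c27868500a58c91a1971831f3864700cda019ac4303546550a689f18f4032d8065910c0a3052c031a8063300c62018bc43018c1211822a304200000)))
noncomputable def eB6_c4 : BT (Bx Nat) := (BT.leaf (Bx.mk (nat_lit 0x4442850852446c5d21a444255e3551104da20a219231233f11040a20b0c43e8881ac1039621e9441e74844ec63222053241564830b10f06b20460bf888130ba3e305dc2e120486ed4cc22203b840844870d10bce20cc041a6c80cd1075c20e444047ac565d8d9ab169c43a8c1731100dd212460b57484e410ce3059444028c15d182b23053184218c14111006304dc60978c1231822e304280000)))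
noncomputable def eB6_c5 : BT (Bx Nat) := (BT.leaf (Bx.mk (nat_lit 0xa3a9887503d0d17a18af42a8874a7c45221c9a541f0a24650e5a21c83ccbd2671d10e3471df323a26e83d10e2d91cac438a7472eb0eed59dfc60c07a21f10e26305e3d1113c770f32bcd9c4443870c76e5c4c1b94d3b3998870b0b270f88eb53ab887085ced5a9d6374398c17500e9221c1c60b68074ccceca3059b83ae88705182b63053bb3a08c142e446e21c0c60988c12518232304300000)))
noncomputable def eB6_c6 : BT (Bx Nat) := (BT.leaf (Bx.mk (nat_lit 0xa53b78a79114995553885405557e794d5e29b445116552482ae9b51cc0aa525558f14b555554450b65518dbe388299b2ab264a34194d22284c300f1d87d182f61518c2f9478a2d02a28d54bbc5182ca20c94562282bf0066ca1111411d55598aa1755410b07d9551445036ca48894e2305b9caa314a531140a081714c308c15f0a87a30544450174a3669476304e460998c12718236304380000)))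
noncomputable def eB6_c7 : BT (Bx Nat) := (BT.leaf (Bx.mk (nat_lit 0xb53c509763129e22533ed3f1aa80792d9a25aa4d9288922fb4e50a9d0952a26a5ac12b202529248c88916f9235f699104b370932a12c46687c44895097b182f9f25a38d9334920c1254b24c384978092d01228e6c34448579b0ed54ae22423ed2030942fb68daa8f404a488906c12de305c1951f80950d12ba2241304af8c160f928a3054b921b88902f1272304ec609a8c1291823a304400000)))
noncomputable def eB6_p : BT (Bx Nat) := (BT.leaf (Bx.mk (nat_lit 0x8a058a04898789868945894464c564c46447644664056404638163456344634162c762c662c462856284628262816247624662456244624362414202420141c541c441c241c141474146414441074106410541044102410140c740c640c540c440c340c2408740864085408440834081204720462045204420432042204100000000)))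
noncomputable def eB6_e : BT Nat := BT.leaf (nat_lit 0)
noncomputable def eB6_cols : List (BT (Bx Nat)) := [eB6_c0, eB6_c1, eB6_c2, eB6_c3, eB6_c4, eB6_c5, eB6_c6, eB6_c7]
noncomputable def eB6_ch (x j : Nat) : Bx Nat := chunkG eB6_cols (nat_lit 1) x j
noncomputable def eB6_L (x : Nat) : Bx (Nat → Nat) := lookG eB6_ch (nat_lit 8) (nat_lit 255) (nat_lit 19) (nat_lit 524287) x
noncomputable def eB6_pc (_ j : Nat) : Bx Nat := eB6_p.get j
noncomputable def eB6_pb : Bx (Nat → Nat) := lookG eB6_pc (nat_lit 8) (nat_lit 255) (nat_lit 16) (nat_lit 65535) (nat_lit 0)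
noncomputable def eB6_rots : BT CW := (BT.node (nat_lit 25) (BT.node (nat_lit 12) (BT.node (nat_lit 6) (BT.node (nat_lit 3) (BT.node (nat_lit 1) (BT.leaf ⟨[], (nat_lit 1000000), (nat_lit 0), (nat_lit 0), (nat_lit 0)⟩) (BT.node (nat_lit 2) (BT.leaf ⟨[], (nat_lit 1000000), (nat_lit 0), (nat_lit 0), (nat_lit 1)⟩) (BT.leaf ⟨[], (nat_lit 1000000), (nat_lit 0), (nat_lit 0), (nat_lit 2)⟩))) (BT.node (nat_lit 4) (BT.leaf ⟨[(nat_lit 2), (nat_lit 1)], (nat_lit 13), (nat_lit 1), (nat_lit 0), (nat_lit 3)⟩) (BT.node (nat_lit 5) (BT.leaf ⟨[(nat_lit 1), (nat_lit 2)], (nat_lit 13), (nat_lit 0), (nat_lit 0), (nat_lit 3)⟩) (BT.leaf ⟨[(nat_lit 3), (nat_lit 3)], (nat_lit 1), (nat_lit 0), (nat_lit 0), (nat_lit 3)⟩)))) (BT.node (nat_lit 9) (BT.node (nat_lit 7) (BT.leaf ⟨[(nat_lit 5), (nat_lit 4)], (nat_lit 11), (nat_lit 1), (nat_lit 0), (nat_lit 3)⟩) (BT.node (nat_lit 8) (BT.leaf ⟨[(nat_lit 4), (nat_lit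 5)], (nat_lit 11), (nat_lit 0), (nat_lit 0), (nat_lit 3)⟩) (BT.leaf ⟨[(nat_lit 7), (nat_lit 6)], (nat_lit 10), (nat_lit 1), (nat_lit 0), (nat_lit 3)⟩))) (BT.node (nat_lit 10) (BT.leaf ⟨[(nat_lit 6), (nat_lit 7)], (nat_lit 10), (nat_lit 0), (nat_lit 0), (nat_lit 3)⟩) (BT.node (nat_lit 11) (BT.leaf ⟨[(nat_lit 1), (nat_lit 4), (nat_lit 1), (nat_lit 5)], (nat_lit 3), (nat_lit 3), (nat_lit 0), (nat_lit 3)⟩) (BT.leaf ⟨[(nat_lit 1), (nat_lit 5), (nat_lit 1), (nat_lit 4)], (nat_lit 3), (nat_lit 1), (nat_lit 0), (nat_lit 3)⟩))))) (BT.node (nat_lit 18) (BT.node (nat_lit 15) (BT.node (nat_lit 13) (BT.leaf ⟨[(nat_lit 2), (nat_lit 5), (nat_lit 2), (nat_lit 4)], (nat_lit 17), (nat_lit 2), (nat_lit 0), (nat_lit 3)⟩) (BT.node (nat_lit 14) (BT.leaf ⟨[(nat_lit 2), (nat_lit 4), (nat_lit 2), (nat_lit 5)], (nat_lit 17), (nat_lit 0), (nat_lit 0), (nat_lit 3)⟩) (BT.leaf ⟨[(nat_lit 3), (nat_lit 4), (nat_lit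 3), (nat_lit 5)], (nat_lit 4), (nat_lit 3), (nat_lit 0), (nat_lit 3)⟩))) (BT.node (nat_lit 16) (BT.leaf ⟨[(nat_lit 3), (nat_lit 5), (nat_lit 3), (nat_lit 4)], (nat_lit 4), (nat_lit 1), (nat_lit 0), (nat_lit 3)⟩) (BT.node (nat_lit 17) (BT.leaf ⟨[(nat_lit 3), (nat_lit 6), (nat_lit 3), (nat_lit 7)], (nat_lit 7), (nat_lit 3), (nat_lit 0), (nat_lit 3)⟩) (BT.leaf ⟨[(nat_lit 3), (nat_lit 7), (nat_lit 3), (nat_lit 6)], (nat_lit 7), (nat_lit 1), (nat_lit 0), (nat_lit 3)⟩)))) (BT.node (nat_lit 21) (BT.node (nat_lit 19) (BT.leaf ⟨[(nat_lit 3), (nat_lit 2), (nat_lit 6), (nat_lit 1), (nat_lit 7)], (nat_lit 6), (nat_lit 3), (nat_lit 0), (nat_lit 3)⟩) (BT.node (nat_lit 20) (BT.leaf ⟨[(nat_lit 6), (nat_lit 2), (nat_lit 7), (nat_lit 1), (nat_lit 3)], (nat_lit 20), (nat_lit 2), (nat_lit 0), (nat_lit 3)⟩) (BT.leaf ⟨[(nat_lit 6), (nat_lit 3), (nat_lit 7), (nat_lit 3)], (nat_lit 7), (nat_lit 0), (nat_lit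 0), (nat_lit 3)⟩))) (BT.node (nat_lit 23) (BT.node (nat_lit 22) (BT.leaf ⟨[(nat_lit 1), (nat_lit 7), (nat_lit 3), (nat_lit 2), (nat_lit 6)], (nat_lit 6), (nat_lit 1), (nat_lit 0), (nat_lit 3)⟩) (BT.leaf ⟨[(nat_lit 1), (nat_lit 3), (nat_lit 6), (nat_lit 2), (nat_lit 7)], (nat_lit 20), (nat_lit 0), (nat_lit 0), (nat_lit 3)⟩)) (BT.node (nat_lit 24) (BT.leaf ⟨[(nat_lit 6), (nat_lit 1), (nat_lit 7), (nat_lit 3), (nat_lit 2)], (nat_lit 6), (nat_lit 0), (nat_lit 0), (nat_lit 3)⟩) (BT.leaf ⟨[(nat_lit 5), (nat_lit 7), (nat_lit 5), (nat_lit 3), (nat_lit 7)], (nat_lit 23), (nat_lit 2), (nat_lit 0), (nat_lit 3)⟩)))))) (BT.node (nat_lit 37) (BT.node (nat_lit 31) (BT.node (nat_lit 28) (BT.node (nat_lit 26) (BT.leaf ⟨[(nat_lit 7), (nat_lit 5), (nat_lit 7), (nat_lit 5), (nat_lit 3)], (nat_lit 23), (nat_lit 1), (nat_lit 0), (nat_lit 3)⟩) (BT.node (nat_lit 27) (BT.leaf ⟨[(nat_lit 7), (nat_lit 1), (nat_lit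 3), (nat_lit 6), (nat_lit 2)], (nat_lit 20), (nat_lit 4), (nat_lit 0), (nat_lit 3)⟩) (BT.leaf ⟨[(nat_lit 4), (nat_lit 4), (nat_lit 1), (nat_lit 1), (nat_lit 1), (nat_lit 1)], (nat_lit 5), (nat_lit 0), (nat_lit 0), (nat_lit 3)⟩))) (BT.node (nat_lit 29) (BT.leaf ⟨[(nat_lit 4), (nat_lit 1), (nat_lit 1), (nat_lit 1), (nat_lit 1), (nat_lit 4)], (nat_lit 5), (nat_lit 1), (nat_lit 0), (nat_lit 3)⟩) (BT.node (nat_lit 30) (BT.leaf ⟨[(nat_lit 1), (nat_lit 1), (nat_lit 1), (nat_lit 1), (nat_lit 4), (nat_lit 4)], (nat_lit 5), (nat_lit 2), (nat_lit 0), (nat_lit 3)⟩) (BT.leaf ⟨[(nat_lit 6), (nat_lit 6), (nat_lit 1), (nat_lit 1), (nat_lit 1), (nat_lit 1)], (nat_lit 8), (nat_lit 0), (nat_lit 0), (nat_lit 3)⟩)))) (BT.node (nat_lit 34) (BT.node (nat_lit 32) (BT.leaf ⟨[(nat_lit 6), (nat_lit 1), (nat_lit 1), (nat_lit 1), (nat_lit 1), (nat_lit 6)], (nat_lit 8), (nat_lit 1), (nat_lit 0), (nat_lit 3)⟩)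 (BT.node (nat_lit 33) (BT.leaf ⟨[(nat_lit 1), (nat_lit 1), (nat_lit 1), (nat_lit 4), (nat_lit 4), (nat_lit 1)], (nat_lit 5), (nat_lit 3), (nat_lit 0), (nat_lit 3)⟩) (BT.leaf ⟨[(nat_lit 5), (nat_lit 1), (nat_lit 4), (nat_lit 1)], (nat_lit 3), (nat_lit 2), (nat_lit 0), (nat_lit 3)⟩))) (BT.node (nat_lit 35) (BT.leaf ⟨[(nat_lit 4), (nat_lit 2), (nat_lit 5), (nat_lit 2)], (nat_lit 17), (nat_lit 1), (nat_lit 0), (nat_lit 3)⟩) (BT.node (nat_lit 36) (BT.leaf ⟨[(nat_lit 7), (nat_lit 2), (nat_lit 2), (nat_lit 2), (nat_lit 2), (nat_lit 7)], (nat_lit 22), (nat_lit 5), (nat_lit 0), (nat_lit 3)⟩) (BT.leaf ⟨[(nat_lit 5), (nat_lit 3), (nat_lit 7), (nat_lit 5), (nat_lit 7)], (nat_lit 23), (nat_lit 4), (nat_lit 0), (nat_lit 3)⟩))))) (BT.node (nat_lit 43) (BT.node (nat_lit 40) (BT.node (nat_lit 38) (BT.leaf ⟨[(nat_lit 4), (nat_lit 6), (nat_lit 4), (nat_lit 6), (nat_lit 3)], (nat_lit 9), (nat_lit 0),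 (nat_lit 0), (nat_lit 3)⟩) (BT.node (nat_lit 39) (BT.leaf ⟨[(nat_lit 5), (nat_lit 3), (nat_lit 4), (nat_lit 3)], (nat_lit 4), (nat_lit 2), (nat_lit 0), (nat_lit 3)⟩) (BT.leaf ⟨[(nat_lit 5), (nat_lit 2), (nat_lit 4), (nat_lit 2)], (nat_lit 17), (nat_lit 3), (nat_lit 0), (nat_lit 3)⟩))) (BT.node (nat_lit 41) (BT.leaf ⟨[(nat_lit 3), (nat_lit 7), (nat_lit 5), (nat_lit 7), (nat_lit 5)], (nat_lit 23), (nat_lit 0), (nat_lit 0), (nat_lit 3)⟩) (BT.node (nat_lit 42) (BT.leaf ⟨[(nat_lit 7), (nat_lit 3), (nat_lit 6), (nat_lit 3)], (nat_lit 7), (nat_lit 2), (nat_lit 0), (nat_lit 3)⟩) (BT.leaf ⟨[(nat_lit 2), (nat_lit 6), (nat_lit 1), (nat_lit 7), (nat_lit 3)], (nat_lit 6), (nat_lit 4), (nat_lit 0), (nat_lit 3)⟩)))) (BT.node (nat_lit 46) (BT.node (nat_lit 44) (BT.leaf ⟨[(nat_lit 4), (nat_lit 3), (nat_lit 5), (nat_lit 3)], (nat_lit 4), (nat_lit 0), (nat_lit 0), (nat_lit 3)⟩) (BT.node (nat_lit 45)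 (BT.leaf ⟨[(nat_lit 3), (nat_lit 2), (nat_lit 3), (nat_lit 1), (nat_lit 1), (nat_lit 1), (nat_lit 1), (nat_lit 1)], (nat_lit 16), (nat_lit 5), (nat_lit 0), (nat_lit 3)⟩) (BT.leaf ⟨[(nat_lit 2), (nat_lit 3), (nat_lit 1), (nat_lit 1), (nat_lit 1), (nat_lit 1), (nat_lit 1), (nat_lit 3)], (nat_lit 16), (nat_lit 6), (nat_lit 0), (nat_lit 3)⟩))) (BT.node (nat_lit 48) (BT.node (nat_lit 47) (BT.leaf ⟨[(nat_lit 3), (nat_lit 1), (nat_lit 1), (nat_lit 1), (nat_lit 1), (nat_lit 1), (nat_lit 3), (nat_lit 2)], (nat_lit 16), (nat_lit 7), (nat_lit 0), (nat_lit 3)⟩) (BT.leaf ⟨[(nat_lit 2), (nat_lit 5), (nat_lit 5), (nat_lit 2), (nat_lit 2), (nat_lit 2)], (nat_lit 19), (nat_lit 3), (nat_lit 0), (nat_lit 3)⟩)) (BT.node (nat_lit 49) (BT.leaf ⟨[(nat_lit 2), (nat_lit 2), (nat_lit 7), (nat_lit 7), (nat_lit 2), (nat_lit 2)], (nat_lit 22), (nat_lit 2), (nat_lit 0), (nat_lit 3)⟩) (BT.leaf ⟨[(nat_lit 4), (nat_lit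 1), (nat_lit 5), (nat_lit 1)], (nat_lit 3), (nat_lit 0), (nat_lit 0), (nat_lit 3)⟩)))))))
noncomputable def eB6_hcs : List CW := []
noncomputable def eB6_H (x j : Nat) : Bx (Nat → Nat → Nat) := mkH eB6_L eB6_pb.1 eB6_e.get (lmap CW.w eB6_hcs) (nat_lit 64) (nat_lit 65) (nat_lit 8) (nat_lit 128) (nat_lit 8192) (nat_lit 8191) x (eB6_rots.get j)
noncomputable def eB6_F (x b : Nat) : Bool := blkOK eB6_H eB6_ch (nat_lit 65) (nat_lit 128) (nat_lit 64) (nat_lit 8) (nat_lit 255) (nat_lit 19) (nat_lit 524287) x b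

theorem eB6_k0_0 : allFrom (eB6_F (nat_lit 0)) (nat_lit 0) (nat_lit 4) = true := by decide +kernel
theorem eB6_k1_0 : allFrom (eB6_F (nat_lit 1)) (nat_lit 0) (nat_lit 4) = true := by decide +kernel
theorem eB6_k2_0 : allFrom (eB6_F (nat_lit 2)) (nat_lit 0) (nat_lit 4) = true := by decide +kernel
theorem eB6_k3_0 : allFrom (eB6_F (nat_lit 3)) (nat_lit 0) (nat_lit 4) = true := by decide +kernel
theorem eB6_k4_0 : allFrom (eB6_F (nat_lit 4)) (nat_lit 0) (nat_lit 4) = true := by decide +kernel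
theorem eB6_k5_0 : allFrom (eB6_F (nat_lit 5)) (nat_lit 0) (nat_lit 4) = true := by decide +kernel
theorem eB6_k6_0 : allFrom (eB6_F (nat_lit 6)) (nat_lit 0) (nat_lit 4) = true := by decide +kernel
theorem eB6_k7_0 : allFrom (eB6_F (nat_lit 7)) (nat_lit 0) (nat_lit 4) = true := by decide +kernel

theorem eB6_all : Cov eB6_F 4 8 0 := by
  have h := Cov.zero eB6_F 4
  have h := h.blk (b := 4) eB6_k0_0 rfl
  have h := h.next (y := 1) rfl rfl
  have h := h.blk (b := 4) eB6_k1_0 rfl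
  have h := h.next (y := 2) rfl rfl
  have h := h.blk (b := 4) eB6_k2_0 rfl
  have h := h.next (y := 3) rfl rfl
  have h := h.blk (b := 4) eB6_k3_0 rfl
  have h := h.next (y := 4) rfl rfl
  have h := h.blk (b := 4) eB6_k4_0 rfl
  have h := h.next (y := 5) rfl rfl
  have h := h.blk (b := 4) eB6_k5_0 rfl
  have h := h.next (y := 6) rfl rfl
  have h := h.blk (b := 4) eB6_k6_0 rfl
  have h := h.next (y := 7) rfl rfl
  have h := h.blk (b := 4) eB6_k7_0 rfl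
  have h := h.next (y := 8) rfl rfl
  exact h

theorem eB6 : Enum RB6 [] (gensW 4) 64 :=
  ⟨eB6_cols, eB6_ch, eB6_L, eB6_H, eB6_pb.1, eB6_e.get, [(nat_lit 0), (nat_lit 1), (nat_lit 2), (nat_lit 3), (nat_lit 5), (nat_lit 6), (nat_lit 7), (nat_lit 8)], (nat_lit 2), (nat_lit 4), eB6_rots, eB6_hcs,
    (nat_lit 65), (nat_lit 8), (nat_lit 128), (nat_lit 64), (nat_lit 8192), (nat_lit 8191), (nat_lit 8), (nat_lit 255), (nat_lit 19), (nat_lit 524287), (nat_lit 1), (nat_lit 4),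
    fun _ _ => rfl, fun _ => rfl, fun _ _ => rfl, by decide +kernel, eB6_all.1⟩

theorem pB6 : TB6.Pres RB6 (gensW 4) := ⟨CT.ok_spec TB6_ok, lall_iff.1 TB6_rel, by decide +kernel,
  by decide +kernel, by decide +kernel, eB6.bound (ug_rels _) (bound_nil _)⟩

instance instTB6 : TB6.Grp := pB6.grp

noncomputable def RB7 : List (List Nat) := [[(nat_lit 1), (nat_lit 1), (nat_lit 1), (nat_lit 1), (nat_lit 1), (nat_lit 1), (nat_lit 1), (nat_lit 1)],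
  [(nat_lit 3), (nat_lit 3)],
  [(nat_lit 3), (nat_lit 1), (nat_lit 3), (nat_lit 2), (nat_lit 2), (nat_lit 2), (nat_lit 2), (nat_lit 2)],
  [(nat_lit 5), (nat_lit 1), (nat_lit 6), (nat_lit 1)],
  [(nat_lit 5), (nat_lit 3), (nat_lit 6), (nat_lit 3)],
  [(nat_lit 5), (nat_lit 5), (nat_lit 1), (nat_lit 1), (nat_lit 1), (nat_lit 1)],
  [(nat_lit 7), (nat_lit 1), (nat_lit 8), (nat_lit 4), (nat_lit 2)],
  [(nat_lit 7), (nat_lit 3), (nat_lit 8), (nat_lit 3)],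
  [(nat_lit 7), (nat_lit 7), (nat_lit 1), (nat_lit 1), (nat_lit 1), (nat_lit 1)],
  [(nat_lit 5), (nat_lit 7), (nat_lit 5), (nat_lit 7), (nat_lit 4), (nat_lit 2), (nat_lit 2)]]
noncomputable def TB7_c0 : BT (Bx Nat) := (BT.leaf (Bx.mk (nat_lit 0xfbfefaf7ccb1beed74c39e33df68ecaea927a259a9b4c49c6cd4e07da61959724f7614115087a228b54e1871050c1080)))
noncomputable def TB7_c1 : BT (Bx Nat) := (BT.leaf (Bx.mk (nat_lit 0xaece78db771b81fffe4fcf52efa3965c956278b28f6879efb86a32c6d30dd350e4658966a82cf0144a6385d450500201)))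
noncomputable def TB7_c2 : BT (Bx Nat) := (BT.leaf (Bx.mk (nat_lit 0xd74c72beef7cebb59735c6cc81f6befcf25d8504542281f7da71b9e234d2aeca43cf014492d6199a5a8189e2ca54e002)))
noncomputable def TB7_c3 : BT (Bx Nat) := (BT.leaf (Bx.mk (nat_lit 0x9a581f71bbafcb1450a37da7e3950b29a3b3c3ff8855237df1333beaa1c61448ed7a2d740a985db2b0646585d600f243)))
noncomputable def TB7_c5 : BT (Bx Nat) := (BT.leaf (Bx.mk (nat_lit 0x9296199e84937613d570c35b7a22c9517ffbe883be46fdc61eedb0cc5f7c0ead6ce780a3d26cb106dae581f01a590284)))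
noncomputable def TB7_c6 : BT (Bx Nat) := (BT.leaf (Bx.mk (nat_lit 0xa64658a274d285d54f6cd31c89e294256fbaece23f42ed871afdf3c04f3da83d2be398c2d65c72b41b267e06805d12c5)))
noncomputable def TB7_c7 : BT (Bx Nat) := (BT.leaf (Bx.mk (nat_lit 0x7e09a5597b2b411cb1934d6928b378e59cc83bcf704d527ff8f5041470eaefa7a10a3df68a806dbee76701a71b612306)))
noncomputable def TB7_c8 : BT (Bx Nat) := (BT.leaf (Bx.mk (nat_lit 0x81f9665d6aec450c72a75d242ca339e18c0e23df3348f53efd5245106a83ebb89d8c2db77a7b41baf8686806dc653347)))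
noncomputable def TB7_w : BT (Bx Nat) := (BT.leaf (Bx.mk (nat_lit 0x857757673573853753672572852752632532181671571171851751551631531231131811711611511311111028018067057027017085075055083073063053023013082072062052032022081071061051031011008007006005003002001000)))
noncomputable def TB7_cols : List (BT (Bx Nat)) := [TB7_c0, TB7_c1, TB7_c2, TB7_c3, TB7_c3, TB7_c5, TB7_c6, TB7_c7, TB7_c8]
noncomputable def TB7_ch (x j : Nat) : Bx Nat := chk TB7_cols x j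
noncomputable def TB7_wc (_ j : Nat) : Bx Nat := TB7_w.get j
noncomputable def TB7 : CT := ⟨(nat_lit 64), (nat_lit 6), (nat_lit 63), TB7_ch, (nat_lit 12), (nat_lit 4095), TB7_wc, (nat_lit 510)⟩
theorem TB7_ok : TB7.ok = true := by decide +kernel
theorem TB7_rel : lall TB7.relOK RB7 = true := by decide +kernel
noncomputable def eB7_c0 : BT (Bx Nat) := (BT.leaf (Bx.mk (nat_lit 0x0)))
noncomputable def eB7_c1 : BT (Bx Nat) := (BT.leaf (Bx.mk (nat_lit 0x122ac38ab725bac98e462b720ae0829d70a70a621b2e81c5c0718fda29440af545be78a4ee2bcc2cef4e8f72e5dcb18d8a29901680a8da29fd1633460b7ae42a29bd8a2042a8116c277afd8a1d02a93acce45b2c98b9228d5ac38c2b540adb628440a972b9ad2c672626c409ce2abd8a0f80b4e02c74586d181780aae029380a2e027b2292c8a478095d8a078089e02080000)))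
noncomputable def eB7_c2 : BT (Bx Nat) := (BT.leaf (Bx.mk (nat_lit 0x1a236688d5223249ccf0d30b88bf023ec08f4a73b21af1269739a63620e30876221cd8834222190883021b41afd46c041a43620a4d67866a2b8847021249a57620989aa76208208e2a23771ca3620729ae9e6b9b1a930214c884da22c688b5622ad8811c6b4854c74706d1a15c225c88b942195566b2227c889b80abd880b80a3e027f220cc882f8096e023f6201e020c0000)))
noncomputable def eB7_c3 : BT (Bx Nat) := (BT.leaf (Bx.mk (nat_lit 0x2a9a7b8c9b0321c0c83031dc0c70e92fa8cc0e8b3a20cb4792d2047232930ce26337ca4a2c9b930ce98815d1e33480b61e6d478fd26d30331a0d0313bfd8c2527963204f230ec9efb283d29e53290dca2f3293b58caf4888d241f4786d2015032458cb8831f28c8f2336c8cd7630348cab49a2c0c7b232dc8cb36302e0297231ac8c672318c8c5f6301e0243808ae02100000)))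
noncomputable def eB7_c4 : BT (Bx Nat) := (BT.leaf (Bx.mk (nat_lit 0x264254ccab641999068b328b4ca764139d250a41eb108b641039058d49dd9036730e8d270711f9528ed10cd90298415610614440210f1e43bd90274e0fb10ff4d92110c0d338d901eb488890beb4b7290c6c434a1019113ee02f764046d2ad54b66d2b4c43ae02e76403b109380b5b109ce433e02cb6402e02bb80ace0298c421e02836401e026f8097e0247808be02140000)))
noncomputable def eB7_c5 : BT (Bx Nat) := (BT.leaf (Bx.mk (nat_lit 0x1772abd094e39ad8e64b429850a0f094d8e4ca3a2a0e792396d8e42f29c4583b638d3427476239427f638b60e57638a60e5d03bfa8eec83bcbc23f6389a5102f09188ebef2b73d023638710ec0d43828ed203b1d8e16943de02f9b0abd8e1114356c2b243b9e02eb23a4d8e0f80b6c8e9a43b2e02cea3aed8e0b80ade029e83a0e0286b09bd8e078098e024b808ce02180000)))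
noncomputable def eB7_c6 : BT (Bx Nat) := (BT.leaf (Bx.mk (nat_lit 0x3652042a84e527baa9b6517b1460a52daaab36511c3e48e533914cb2aa5430d66ab64aaab650bb14328f0e894e50a3a514690534d94274f8fa2af5053ed28c74f14b945b2a8a4a90380bf194414515d94170f86a142365045aaaeaabce02ef4c1f5aa8b6503a1492a538e02dcaaa3a3ca76502cbeba6530e02bf4a1ee02a36501b146ea51de02738099e024f808de021c0000)))
noncomputable def eB7_c7 : BT (Bx Nat) := (BT.leaf (Bx.mk (nat_lit 0x104a1d928136a69929e8498d925ce4ac948b6d192d924644b2392cd322a432da7235c92968c8cd922f048d348ea84b95126504b19923f6489448fac4bdc12d2ac93212414495392ff80c0c925b248ab461b6485bb21d722bd9212f23be02f30ca35c87b24a4d920ee4b7e02e0921fc92a264aed920aecafe02c304a2e02a6b19bd9206e49ce0277809ae0253808ee02200000)))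
noncomputable def eB7_p : BT (Bx Nat) := (BT.leaf (Bx.mk (nat_lit 0x6807d00d991732265c7cb8d93172626447c88d90172026381c68b8d131a0e2c7c58d8b13142e284c5058a07123e246c48b8913121e241840508060e2c1c4838507060a3c1468289041e08341058209040a080c0c7818d031606240c38185021e04340858109020e040a047408c81150222043408481040000000)))
noncomputable def eB7_e : BT Nat := BT.leaf (nat_lit 0)
noncomputable def eB7_cols : List (BT (Bx Nat)) := [eB7_c0, eB7_c1, eB7_c2, eB7_c3, eB7_c4, eB7_c5, eB7_c6, eB7_c7]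
noncomputable def eB7_ch (x j : Nat) : Bx Nat := chunkG eB7_cols (nat_lit 1) x j
noncomputable def eB7_L (x : Nat) : Bx (Nat → Nat) := lookG eB7_ch (nat_lit 8) (nat_lit 255) (nat_lit 18) (nat_lit 262143) x
noncomputable def eB7_pc (_ j : Nat) : Bx Nat := eB7_p.get j
noncomputable def eB7_pb : Bx (Nat → Nat) := lookG eB7_pc (nat_lit 8) (nat_lit 255) (nat_lit 15) (nat_lit 32767) (nat_lit 0)
noncomputable def eB7_rots : BT CW := (BT.node (nat_lit 23) (BT.node (nat_lit 11) (BT.node (nat_lit 5) (BT.node (nat_lit 2) (BT.node (nat_lit 1) (BT.leaf ⟨[], (nat_lit 1000000), (nat_lit 0), (nat_lit 0), (nat_lit 0)⟩) (BT.leaf ⟨[], (nat_lit 1000000), (nat_lit 0), (nat_lit 0), (nat_lit 1)⟩)) (BT.node (nat_lit 3) (BT.leaf ⟨[], (nat_lit 1000000), (nat_lit 0), (nat_lit 0), (nat_lit 2)⟩) (BT.node (nat_lit 4) (BT.leaf ⟨[(nat_lit 2), (nat_lit 1)], (nat_lit 13), (nat_lit 1), (nat_lit 0), (nat_lit 3)⟩) (BT.leaf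 ⟨[(nat_lit 1), (nat_lit 2)], (nat_lit 13), (nat_lit 0), (nat_lit 0), (nat_lit 3)⟩)))) (BT.node (nat_lit 8) (BT.node (nat_lit 6) (BT.leaf ⟨[(nat_lit 3), (nat_lit 3)], (nat_lit 1), (nat_lit 0), (nat_lit 0), (nat_lit 3)⟩) (BT.node (nat_lit 7) (BT.leaf ⟨[(nat_lit 5), (nat_lit 4)], (nat_lit 11), (nat_lit 1), (nat_lit 0), (nat_lit 3)⟩) (BT.leaf ⟨[(nat_lit 4), (nat_lit 5)], (nat_lit 11), (nat_lit 0), (nat_lit 0), (nat_lit 3)⟩))) (BT.node (nat_lit 9) (BT.leaf ⟨[(nat_lit 7), (nat_lit 6)], (nat_lit 10), (nat_lit 1), (nat_lit 0), (nat_lit 3)⟩) (BT.node (nat_lit 10) (BT.leaf ⟨[(nat_lit 6), (nat_lit 7)], (nat_lit 10), (nat_lit 0), (nat_lit 0), (nat_lit 3)⟩) (BT.leaf ⟨[(nat_lit 1), (nat_lit 4), (nat_lit 1), (nat_lit 5)], (nat_lit 3), (nat_lit 3), (nat_lit 0), (nat_lit 3)⟩))))) (BT.node (nat_lit 17) (BT.node (nat_lit 14) (BT.node (nat_lit 12) (BT.leaf ⟨[(nat_lit 1), (nat_lit 5), (nat_lit 1), (nat_lit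 4)], (nat_lit 3), (nat_lit 1), (nat_lit 0), (nat_lit 3)⟩) (BT.node (nat_lit 13) (BT.leaf ⟨[(nat_lit 2), (nat_lit 5), (nat_lit 2), (nat_lit 4)], (nat_lit 17), (nat_lit 2), (nat_lit 0), (nat_lit 3)⟩) (BT.leaf ⟨[(nat_lit 2), (nat_lit 4), (nat_lit 2), (nat_lit 5)], (nat_lit 17), (nat_lit 0), (nat_lit 0), (nat_lit 3)⟩))) (BT.node (nat_lit 15) (BT.leaf ⟨[(nat_lit 3), (nat_lit 4), (nat_lit 3), (nat_lit 5)], (nat_lit 4), (nat_lit 3), (nat_lit 0), (nat_lit 3)⟩) (BT.node (nat_lit 16) (BT.leaf ⟨[(nat_lit 3), (nat_lit 5), (nat_lit 3), (nat_lit 4)], (nat_lit 4), (nat_lit 1), (nat_lit 0), (nat_lit 3)⟩) (BT.leaf ⟨[(nat_lit 3), (nat_lit 6), (nat_lit 3), (nat_lit 7)], (nat_lit 7), (nat_lit 3), (nat_lit 0), (nat_lit 3)⟩)))) (BT.node (nat_lit 20) (BT.node (nat_lit 18) (BT.leaf ⟨[(nat_lit 3), (nat_lit 7), (nat_lit 3), (nat_lit 6)], (nat_lit 7), (nat_lit 1), (nat_lit 0), (nat_lit 3)⟩) (BT.node (nat_lit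 19) (BT.leaf ⟨[(nat_lit 3), (nat_lit 2), (nat_lit 6), (nat_lit 1), (nat_lit 7)], (nat_lit 6), (nat_lit 3), (nat_lit 0), (nat_lit 3)⟩) (BT.leaf ⟨[(nat_lit 6), (nat_lit 2), (nat_lit 7), (nat_lit 1), (nat_lit 3)], (nat_lit 20), (nat_lit 2), (nat_lit 0), (nat_lit 3)⟩))) (BT.node (nat_lit 21) (BT.leaf ⟨[(nat_lit 6), (nat_lit 3), (nat_lit 7), (nat_lit 3)], (nat_lit 7), (nat_lit 0), (nat_lit 0), (nat_lit 3)⟩) (BT.node (nat_lit 22) (BT.leaf ⟨[(nat_lit 1), (nat_lit 7), (nat_lit 3), (nat_lit 2), (nat_lit 6)], (nat_lit 6), (nat_lit 1), (nat_lit 0), (nat_lit 3)⟩) (BT.leaf ⟨[(nat_lit 1), (nat_lit 3), (nat_lit 6), (nat_lit 2), (nat_lit 7)], (nat_lit 20), (nat_lit 0), (nat_lit 0), (nat_lit 3)⟩)))))) (BT.node (nat_lit 35) (BT.node (nat_lit 29) (BT.node (nat_lit 26) (BT.node (nat_lit 24) (BT.leaf ⟨[(nat_lit 6), (nat_lit 1), (nat_lit 7), (nat_lit 3), (nat_lit 2)], (nat_lit 6), (nat_lit 0), (nat_lit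 0), (nat_lit 3)⟩) (BT.node (nat_lit 25) (BT.leaf ⟨[(nat_lit 7), (nat_lit 1), (nat_lit 3), (nat_lit 6), (nat_lit 2)], (nat_lit 20), (nat_lit 4), (nat_lit 0), (nat_lit 3)⟩) (BT.leaf ⟨[(nat_lit 2), (nat_lit 6), (nat_lit 1), (nat_lit 7), (nat_lit 3)], (nat_lit 6), (nat_lit 4), (nat_lit 0), (nat_lit 3)⟩))) (BT.node (nat_lit 27) (BT.leaf ⟨[(nat_lit 4), (nat_lit 4), (nat_lit 1), (nat_lit 1), (nat_lit 1), (nat_lit 1)], (nat_lit 5), (nat_lit 0), (nat_lit 0), (nat_lit 3)⟩) (BT.node (nat_lit 28) (BT.leaf ⟨[(nat_lit 4), (nat_lit 1), (nat_lit 1), (nat_lit 1), (nat_lit 1), (nat_lit 4)], (nat_lit 5), (nat_lit 1), (nat_lit 0), (nat_lit 3)⟩) (BT.leaf ⟨[(nat_lit 1), (nat_lit 1), (nat_lit 1), (nat_lit 1), (nat_lit 4), (nat_lit 4)], (nat_lit 5), (nat_lit 2), (nat_lit 0), (nat_lit 3)⟩)))) (BT.node (nat_lit 32) (BT.node (nat_lit 30) (BT.leaf ⟨[(nat_lit 6), (nat_lit 6), (nat_lit 1), (nat_lit 1), (nat_lit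 1), (nat_lit 1)], (nat_lit 8), (nat_lit 0), (nat_lit 0), (nat_lit 3)⟩) (BT.node (nat_lit 31) (BT.leaf ⟨[(nat_lit 6), (nat_lit 1), (nat_lit 1), (nat_lit 1), (nat_lit 1), (nat_lit 6)], (nat_lit 8), (nat_lit 1), (nat_lit 0), (nat_lit 3)⟩) (BT.leaf ⟨[(nat_lit 1), (nat_lit 1), (nat_lit 1), (nat_lit 4), (nat_lit 4), (nat_lit 1)], (nat_lit 5), (nat_lit 3), (nat_lit 0), (nat_lit 3)⟩))) (BT.node (nat_lit 33) (BT.leaf ⟨[(nat_lit 5), (nat_lit 1), (nat_lit 4), (nat_lit 1)], (nat_lit 3), (nat_lit 2), (nat_lit 0), (nat_lit 3)⟩) (BT.node (nat_lit 34) (BT.leaf ⟨[(nat_lit 4), (nat_lit 2), (nat_lit 5), (nat_lit 2)], (nat_lit 17), (nat_lit 1), (nat_lit 0), (nat_lit 3)⟩) (BT.leaf ⟨[(nat_lit 7), (nat_lit 2), (nat_lit 2), (nat_lit 2), (nat_lit 2), (nat_lit 7)], (nat_lit 22), (nat_lit 5), (nat_lit 0), (nat_lit 3)⟩))))) (BT.node (nat_lit 41) (BT.node (nat_lit 38) (BT.node (nat_lit 36) (BT.leaf ⟨[(nat_lit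 7), (nat_lit 3), (nat_lit 6), (nat_lit 3)], (nat_lit 7), (nat_lit 2), (nat_lit 0), (nat_lit 3)⟩) (BT.node (nat_lit 37) (BT.leaf ⟨[(nat_lit 5), (nat_lit 7), (nat_lit 5), (nat_lit 1), (nat_lit 1), (nat_lit 3), (nat_lit 7)], (nat_lit 23), (nat_lit 4), (nat_lit 0), (nat_lit 3)⟩) (BT.leaf ⟨[(nat_lit 4), (nat_lit 3), (nat_lit 5), (nat_lit 3)], (nat_lit 4), (nat_lit 0), (nat_lit 0), (nat_lit 3)⟩))) (BT.node (nat_lit 39) (BT.leaf ⟨[(nat_lit 3), (nat_lit 7), (nat_lit 5), (nat_lit 7), (nat_lit 5), (nat_lit 1), (nat_lit 1)], (nat_lit 23), (nat_lit 2), (nat_lit 0), (nat_lit 3)⟩) (BT.node (nat_lit 40) (BT.leaf ⟨[(nat_lit 5), (nat_lit 3), (nat_lit 4), (nat_lit 3)], (nat_lit 4), (nat_lit 2), (nat_lit 0), (nat_lit 3)⟩) (BT.leaf ⟨[(nat_lit 4), (nat_lit 1), (nat_lit 5), (nat_lit 1)], (nat_lit 3), (nat_lit 0), (nat_lit 0), (nat_lit 3)⟩)))) (BT.node (nat_lit 44) (BT.node (nat_lit 42) (BT.leaf ⟨[(nat_lit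 2), (nat_lit 4), (nat_lit 6), (nat_lit 4), (nat_lit 6), (nat_lit 3), (nat_lit 2)], (nat_lit 9), (nat_lit 6), (nat_lit 0), (nat_lit 3)⟩) (BT.node (nat_lit 43) (BT.leaf ⟨[(nat_lit 2), (nat_lit 7), (nat_lit 1), (nat_lit 3), (nat_lit 6)], (nat_lit 20), (nat_lit 3), (nat_lit 0), (nat_lit 3)⟩) (BT.leaf ⟨[(nat_lit 5), (nat_lit 2), (nat_lit 4), (nat_lit 2)], (nat_lit 17), (nat_lit 3), (nat_lit 0), (nat_lit 3)⟩))) (BT.node (nat_lit 45) (BT.leaf ⟨[(nat_lit 7), (nat_lit 3), (nat_lit 2), (nat_lit 6), (nat_lit 1)], (nat_lit 6), (nat_lit 2), (nat_lit 0), (nat_lit 3)⟩) (BT.node (nat_lit 46) (BT.leaf ⟨[(nat_lit 5), (nat_lit 1), (nat_lit 1), (nat_lit 3), (nat_lit 7), (nat_lit 5), (nat_lit 7)], (nat_lit 23), (nat_lit 6), (nat_lit 0), (nat_lit 3)⟩) (BT.leaf ⟨[(nat_lit 1), (nat_lit 1), (nat_lit 3), (nat_lit 7), (nat_lit 5), (nat_lit 7), (nat_lit 5)], (nat_lit 23), (nat_lit 0), (nat_lit 0), (nat_lit 3)⟩)))))))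
noncomputable def eB7_hcs : List CW := []
noncomputable def eB7_H (x j : Nat) : Bx (Nat → Nat → Nat) := mkH eB7_L eB7_pb.1 eB7_e.get (lmap CW.w eB7_hcs) (nat_lit 64) (nat_lit 65) (nat_lit 8) (nat_lit 128) (nat_lit 8192) (nat_lit 8191) x (eB7_rots.get j)
noncomputable def eB7_F (x b : Nat) : Bool := blkOK eB7_H eB7_ch (nat_lit 65) (nat_lit 128) (nat_lit 64) (nat_lit 8) (nat_lit 255) (nat_lit 18) (nat_lit 262143) x b

theorem eB7_k0_0 : allFrom (eB7_F (nat_lit 0)) (nat_lit 0) (nat_lit 4) = true := by decide +kernel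
theorem eB7_k1_0 : allFrom (eB7_F (nat_lit 1)) (nat_lit 0) (nat_lit 4) = true := by decide +kernel
theorem eB7_k2_0 : allFrom (eB7_F (nat_lit 2)) (nat_lit 0) (nat_lit 4) = true := by decide +kernel
theorem eB7_k3_0 : allFrom (eB7_F (nat_lit 3)) (nat_lit 0) (nat_lit 4) = true := by decide +kernel
theorem eB7_k4_0 : allFrom (eB7_F (nat_lit 4)) (nat_lit 0) (nat_lit 4) = true := by decide +kernel
theorem eB7_k5_0 : allFrom (eB7_F (nat_lit 5)) (nat_lit 0) (nat_lit 4) = true := by decide +kernel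
theorem eB7_k6_0 : allFrom (eB7_F (nat_lit 6)) (nat_lit 0) (nat_lit 4) = true := by decide +kernel
theorem eB7_k7_0 : allFrom (eB7_F (nat_lit 7)) (nat_lit 0) (nat_lit 4) = true := by decide +kernel

theorem eB7_all : Cov eB7_F 4 8 0 := by
  have h := Cov.zero eB7_F 4
  have h := h.blk (b := 4) eB7_k0_0 rfl
  have h := h.next (y := 1) rfl rfl
  have h := h.blk (b := 4) eB7_k1_0 rfl
  have h := h.next (y := 2) rfl rfl
  have h := h.blk (b := 4) eB7_k2_0 rfl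
  have h := h.next (y := 3) rfl rfl
  have h := h.blk (b := 4) eB7_k3_0 rfl
  have h := h.next (y := 4) rfl rfl
  have h := h.blk (b := 4) eB7_k4_0 rfl
  have h := h.next (y := 5) rfl rfl
  have h := h.blk (b := 4) eB7_k5_0 rfl
  have h := h.next (y := 6) rfl rfl
  have h := h.blk (b := 4) eB7_k6_0 rfl
  have h := h.next (y := 7) rfl rfl
  have h := h.blk (b := 4) eB7_k7_0 rfl
  have h := h.next (y := 8) rfl rfl
  exact h

theorem eB7 : Enum RB7 [] (gensW 4) 64 :=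
  ⟨eB7_cols, eB7_ch, eB7_L, eB7_H, eB7_pb.1, eB7_e.get, [(nat_lit 0), (nat_lit 1), (nat_lit 2), (nat_lit 3), (nat_lit 5), (nat_lit 6), (nat_lit 7), (nat_lit 8)], (nat_lit 2), (nat_lit 4), eB7_rots, eB7_hcs,
    (nat_lit 65), (nat_lit 8), (nat_lit 128), (nat_lit 64), (nat_lit 8192), (nat_lit 8191), (nat_lit 8), (nat_lit 255), (nat_lit 18), (nat_lit 262143), (nat_lit 1), (nat_lit 4),
    fun _ _ => rfl, fun _ => rfl, fun _ _ => rfl, by decide +kernel, eB7_all.1⟩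

theorem pB7 : TB7.Pres RB7 (gensW 4) := ⟨CT.ok_spec TB7_ok, lall_iff.1 TB7_rel, by decide +kernel,
  by decide +kernel, by decide +kernel, eB7.bound (ug_rels _) (bound_nil _)⟩

instance instTB7 : TB7.Grp := pB7.grp


end CF.W2
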