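import Cfsg.Agent.W2.Tab

/-! A Sylow 2-subgroup of `M₁₂`. -/

set_option autoImplicit false
set_option maxRecDepth 1000000
set_option maxHeartbeats 0
set_option Elab.async false

namespace CF.W2

open CF.Comp CF.Cod

noncomputable def RB0 : List (List Nat) := [[(nat_lit 1), (nat_lit 1), (nat_lit 1), (nat_lit 1), (nat_lit 1), (nat_lit 1), (nat_lit 1), (nat_lit 1)],
  [(nat_lit 3), (nat_lit 3)],
  [(nat_lit 3), (nat_lit 1), (nat_lit 3), (nat_lit 2), (nat_lit 2), (nat_lit 2), (nat_lit 2), (nat_lit 2)],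
  [(nat_lit 5), (nat_lit 1), (nat_lit 6), (nat_lit 1)],
  [(nat_lit 5), (nat_lit 3), (nat_lit 6), (nat_lit 3)],
  [(nat_lit 5), (nat_lit 5)],
  [(nat_lit 7), (nat_lit 1), (nat_lit 8), (nat_lit 4), (nat_lit 2)],
  [(nat_lit 7), (nat_lit 3), (nat_lit 8), (nat_lit 3)],
  [(nat_lit 7), (nat_lit 7)],
  [(nat_lit 5), (nat_lit 7), (nat_lit 5), (nat_lit 7), (nat_lit 4)]]
noncomputable def TB0_c0 : BT (Bx Nat) := (BT.leaf (Bx.mk (nat_lit 0xffef79cfaf38cb6d74ef7c70be6a60964b5c9eeaea8e25ac7de7686d76586a14893554501cb4cc3865083ca1440c1080)))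
noncomputable def TB0_c1 : BT (Bx Nat) := (BT.leaf (Bx.mk (nat_lit 0xc3bf26b3ffa9764b5cf60a188737d2d74650cb7e3197a2b924d5761cf5082efb858e7aea0d74626c27846964cc380181)))
noncomputable def TB0_c2 : BT (Bx Nat) := (BT.leaf (Bx.mk (nat_lit 0xeb9cfdfa282599caeaba793f595d7b450e314bc8f64ccbf2b49df42c7a7038675916c3686837845e17d86c15083ca002)))
noncomputable def TB0_c3 : BT (Bx Nat) := (BT.leaf (Bx.mk (nat_lit 0xdaeb39de8f1feff8e2cb362a6fe53da70afa9a734cd7439de19808bca7b118f4ad2551445a196409a4dc05745000b1c3)))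
noncomputable def TB0_c5 : BT (Bx Nat) := (BT.leaf (Bx.mk (nat_lit 0xbeda78d617fc8dbeda65e5d6fd4fabb0ff4e36598bdcae89e724c7db4cc6c7016e751483aa89c292280171854040c204)))
noncomputable def TB0_c7 : BT (Bx Nat) := (BT.leaf (Bx.mk (nat_lit 0xe6aeb68bdfefd3c6b7c58ceee305a887e3ac90c2e72bbadc6d72207f51b27ad40f1c40d55290a696305d4d901244d245)))
noncomputable def TB0_w : BT (Bx Nat) := (BT.leaf (Bx.mk (nat_lit 0x51111075230571302752075220522205271032710275105231071310513105711075110531105111011110052700327002750017300523007130051300572007520073200532007220052200222005710027100171007510053100231001310071100511003110011100057000270001700075000730005300023000130007200052000320002200071000510003100011000070000500003000020000100000)))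
noncomputable def TB0_cols : List (BT (Bx Nat)) := [TB0_c0, TB0_c1, TB0_c2, TB0_c3, TB0_c3, TB0_c5, TB0_c5, TB0_c7, TB0_c7]
noncomputable def TB0_ch (x j : Nat) : Bx Nat := chk TB0_cols x j
noncomputable def TB0_wc (_ j : Nat) : Bx Nat := TB0_w.get j
noncomputable def TB0 : CT := ⟨(nat_lit 64), (nat_lit 6), (nat_lit 63), TB0_ch, (nat_lit 20), (nat_lit 1048575), TB0_wc, (nat_lit 510)⟩
theorem TB0_ok : TB0.ok = true := by decide +kernel
theorem TB0_rel : lall TB0.relOK RB0 = true := by decide +kernel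
noncomputable def eB0_c0 : BT (Bx Nat) := (BT.leaf (Bx.mk (nat_lit 0x0)))
noncomputable def eB0_c1 : BT (Bx Nat) := (BT.leaf (Bx.mk (nat_lit 0x124b1115e192f6854ec7ad826029efd0555429e6252a1eba493a84be7250a0aa649332ba2415a212828526a2b6525aa9e6a492222b3525c28ae4c96527a6815dd0a2e0575428a21473925a056f428867c828a564912908cb05840abe850ce7a48254582b205574284514c49e4a0546ef1ca141d827e490b609bb04bd8252051b608fa140d821ec1040000)))
noncomputable def eB0_c2 : BT (Bx Nat) := (BT.leaf (Bx.mk (nat_lit 0xe23b411d188d0847c453f9291c94859c4c8227928eb40b10456a52f22941089604814217928b188d9447942129288ab8e54a64e213b05ec0891446ec2149286c08c18466622ea105582e2046ac20ca104208aa0462cc8fa103b0879a0354206b056c083a0452a21ba1021b87e4a0a6218b051582820433609ca1015825604136090b045d0806c1060000)))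
noncomputable def eB0_c3 : BT (Bx Nat) := (BT.leaf (Bx.mk (nat_lit 0xe5b77557a8cb4c674c6386194a16f68640a33c61a039891cb46e633619a496654656e31c619fd0c558b7d032a62d8c9ab1cb76e62761944983a4b1ac336619ac303dcc3d60b9818d30c864b130d307185c9a7e0665430777483984ec15d030a618b4981a4b0ac317719140c9a064b4303860dc9a52063b4302b04c40c4a06234301b04658222c1080000)))
noncomputable def eB0_c4 : BT (Bx Nat) := (BT.leaf (Bx.mk (nat_lit 0x143b0759750ea95372c3b6a1d150e81077ad124a1ce3a4f28737439a71cfd0e62872f60c0a1cab0efe1358e3ada1c8582fa871f438e81d34a49e8718a3b8a1c5d82ee871560ba8499b8e52871160b7b05ad82d2870f60b2b058d0e1ac15f091e81c94a44e870960abb054d82a2870760a5b051d82868705609db04cd825a87036091b046d8226c10a0000)))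
noncomputable def eB0_c5 : BT (Bx Nat) := (BT.leaf (Bx.mk (nat_lit 0xe8baa215990ecdb6f442346df3110188610a35221ed106dc8710432a20cca2d15b5eedb94218b365e1452eda2b05fd103dc85b0425a206d10325151440bb05e310b2083b041c820c5102651432820b05b5101ec167271f52174104608210408a202d1012512d2815b0555100ec14f60a6b0525100ac13d2714b04d51006c1276092b0475822ac10c0000)))
noncomputable def eB0_p : BT (Bx Nat) := (BT.leaf (Bx.mk (nat_lit 0xac048ac58a8489c288c58884880488038782870486c586c486848645860485c485c16544654364c26481640463c563c4638463456305630462c562c462c2628462826281624562046202620161c561c461c361c14184418241814145410541044102410140c540c440c340c240854084408340812045204420432042204100000000)))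
noncomputable def eB0_e : BT Nat := BT.leaf (nat_lit 0)
noncomputable def eB0_cols : List (BT (Bx Nat)) := [eB0_c0, eB0_c1, eB0_c2, eB0_c3, eB0_c4, eB0_c5]
noncomputable def eB0_ch (x j : Nat) : Bx Nat := chunkG eB0_cols (nat_lit 1) x j
noncomputable def eB0_L (x : Nat) : Bx (Nat → Nat) := lookG eB0_ch (nat_lit 8) (nat_lit 255) (nat_lit 17) (nat_lit 131071) x
noncomputable def eB0_pc (_ j : Nat) : Bx Nat := eB0_p.get j
noncomputable def eB0_pb : Bx (Nat → Nat) := lookG eB0_pc (nat_lit 8) (nat_lit 255) (nat_lit 16) (nat_lit 65535) (nat_lit 0)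
noncomputable def eB0_rots : BT CW := (BT.node (nat_lit 17) (BT.node (nat_lit 8) (BT.node (nat_lit 4) (BT.node (nat_lit 2) (BT.node (nat_lit 1) (BT.leaf ⟨[], (nat_lit 1000000), (nat_lit 0), (nat_lit 0), (nat_lit 0)⟩) (BT.leaf ⟨[], (nat_lit 1000000), (nat_lit 0), (nat_lit 0), (nat_lit 1)⟩)) (BT.node (nat_lit 3) (BT.leaf ⟨[], (nat_lit 1000000), (nat_lit 0), (nat_lit 0), (nat_lit 2)⟩) (BT.leaf ⟨[(nat_lit 2), (nat_lit 1)], (nat_lit 13), (nat_lit 1), (nat_lit 0), (nat_lit 3)⟩))) (BT.node (nat_lit 6) (BT.node (nat_lit 5) (BT.leaf ⟨[(nat_lit 1), (nat_lit 2)], (nat_lit 13), (nat_lit 0), (nat_lit 0), (nat_lit 3)⟩) (BT.leaf ⟨[(nat_lit 3), (nat_lit 3)], (nat_lit 1), (nat_lit 0), (nat_lit 0), (nat_lit 3)⟩)) (BT.node (nat_lit 7) (BT.leaf ⟨[(nat_lit 4), (nat_lit 4)], (nat_lit 5), (nat_lit 0), (nat_lit 0), (nat_lit 3)⟩) (BT.leaf ⟨[(nat_lit 5), (nat_lit 5)], (nat_lit 8), (nat_lit 0), (nat_lit 0), (nat_lit 3)⟩))))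 (BT.node (nat_lit 12) (BT.node (nat_lit 10) (BT.node (nat_lit 9) (BT.leaf ⟨[(nat_lit 1), (nat_lit 4), (nat_lit 1), (nat_lit 4)], (nat_lit 3), (nat_lit 1), (nat_lit 0), (nat_lit 3)⟩) (BT.leaf ⟨[(nat_lit 2), (nat_lit 4), (nat_lit 2), (nat_lit 4)], (nat_lit 17), (nat_lit 0), (nat_lit 0), (nat_lit 3)⟩)) (BT.node (nat_lit 11) (BT.leaf ⟨[(nat_lit 3), (nat_lit 4), (nat_lit 3), (nat_lit 4)], (nat_lit 4), (nat_lit 1), (nat_lit 0), (nat_lit 3)⟩) (BT.leaf ⟨[(nat_lit 3), (nat_lit 5), (nat_lit 3), (nat_lit 5)], (nat_lit 7), (nat_lit 1), (nat_lit 0), (nat_lit 3)⟩))) (BT.node (nat_lit 14) (BT.node (nat_lit 13) (BT.leaf ⟨[(nat_lit 3), (nat_lit 2), (nat_lit 5), (nat_lit 1), (nat_lit 5)], (nat_lit 6), (nat_lit 3), (nat_lit 0), (nat_lit 3)⟩) (BT.leaf ⟨[(nat_lit 5), (nat_lit 2), (nat_lit 5), (nat_lit 1), (nat_lit 3)], (nat_lit 20), (nat_lit 2), (nat_lit 0), (nat_lit 3)⟩)) (BT.node (nat_lit 15) (BT.leaf ⟨[(nat_lit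 1), (nat_lit 5), (nat_lit 3), (nat_lit 2), (nat_lit 5)], (nat_lit 6), (nat_lit 1), (nat_lit 0), (nat_lit 3)⟩) (BT.node (nat_lit 16) (BT.leaf ⟨[(nat_lit 5), (nat_lit 1), (nat_lit 5), (nat_lit 3), (nat_lit 2)], (nat_lit 6), (nat_lit 0), (nat_lit 0), (nat_lit 3)⟩) (BT.leaf ⟨[(nat_lit 5), (nat_lit 4), (nat_lit 5), (nat_lit 3), (nat_lit 4)], (nat_lit 9), (nat_lit 1), (nat_lit 0), (nat_lit 3)⟩)))))) (BT.node (nat_lit 25) (BT.node (nat_lit 21) (BT.node (nat_lit 19) (BT.node (nat_lit 18) (BT.leaf ⟨[(nat_lit 4), (nat_lit 5), (nat_lit 4), (nat_lit 3), (nat_lit 5)], (nat_lit 23), (nat_lit 2), (nat_lit 0), (nat_lit 3)⟩) (BT.leaf ⟨[(nat_lit 4), (nat_lit 2), (nat_lit 4), (nat_lit 2)], (nat_lit 17), (nat_lit 1), (nat_lit 0), (nat_lit 3)⟩)) (BT.node (nat_lit 20) (BT.leaf ⟨[(nat_lit 5), (nat_lit 1), (nat_lit 3), (nat_lit 5), (nat_lit 2)], (nat_lit 20), (nat_lit 4), (nat_lit 0), (nat_lit 3)⟩) (BT.leaf ⟨[(nat_lit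 3), (nat_lit 4), (nat_lit 5), (nat_lit 4), (nat_lit 5)], (nat_lit 9), (nat_lit 4), (nat_lit 0), (nat_lit 3)⟩))) (BT.node (nat_lit 23) (BT.node (nat_lit 22) (BT.leaf ⟨[(nat_lit 4), (nat_lit 3), (nat_lit 5), (nat_lit 4), (nat_lit 5)], (nat_lit 23), (nat_lit 4), (nat_lit 0), (nat_lit 3)⟩) (BT.leaf ⟨[(nat_lit 1), (nat_lit 1), (nat_lit 1), (nat_lit 1), (nat_lit 1), (nat_lit 1), (nat_lit 1), (nat_lit 1)], (nat_lit 0), (nat_lit 0), (nat_lit 0), (nat_lit 3)⟩)) (BT.node (nat_lit 24) (BT.leaf ⟨[(nat_lit 3), (nat_lit 2), (nat_lit 3), (nat_lit 1), (nat_lit 1), (nat_lit 1), (nat_lit 1), (nat_lit 1)], (nat_lit 16), (nat_lit 5), (nat_lit 0), (nat_lit 3)⟩) (BT.leaf ⟨[(nat_lit 2), (nat_lit 3), (nat_lit 1), (nat_lit 1), (nat_lit 1), (nat_lit 1), (nat_lit 1), (nat_lit 3)], (nat_lit 16), (nat_lit 6), (nat_lit 0), (nat_lit 3)⟩)))) (BT.node (nat_lit 29) (BT.node (nat_lit 27) (BT.node (nat_lit 26) (BT.leaf ⟨[(nat_lit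 3), (nat_lit 1), (nat_lit 1), (nat_lit 1), (nat_lit 1), (nat_lit 1), (nat_lit 3), (nat_lit 2)], (nat_lit 16), (nat_lit 7), (nat_lit 0), (nat_lit 3)⟩) (BT.leaf ⟨[(nat_lit 5), (nat_lit 3), (nat_lit 5), (nat_lit 3)], (nat_lit 7), (nat_lit 0), (nat_lit 0), (nat_lit 3)⟩)) (BT.node (nat_lit 28) (BT.leaf ⟨[(nat_lit 2), (nat_lit 5), (nat_lit 1), (nat_lit 5), (nat_lit 3)], (nat_lit 6), (nat_lit 4), (nat_lit 0), (nat_lit 3)⟩) (BT.leaf ⟨[(nat_lit 3), (nat_lit 1), (nat_lit 3), (nat_lit 2), (nat_lit 2), (nat_lit 2), (nat_lit 2), (nat_lit 2)], (nat_lit 2), (nat_lit 0), (nat_lit 0), (nat_lit 3)⟩))) (BT.node (nat_lit 31) (BT.node (nat_lit 30) (BT.leaf ⟨[(nat_lit 1), (nat_lit 3), (nat_lit 2), (nat_lit 2), (nat_lit 2), (nat_lit 2), (nat_lit 2), (nat_lit 3)], (nat_lit 2), (nat_lit 1), (nat_lit 0), (nat_lit 3)⟩) (BT.leaf ⟨[(nat_lit 1), (nat_lit 1), (nat_lit 3), (nat_lit 2), (nat_lit 3), (nat_lit 1), (nat_lit 1),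 (nat_lit 1)], (nat_lit 16), (nat_lit 3), (nat_lit 0), (nat_lit 3)⟩)) (BT.node (nat_lit 32) (BT.leaf ⟨[(nat_lit 2), (nat_lit 5), (nat_lit 1), (nat_lit 3), (nat_lit 5)], (nat_lit 20), (nat_lit 3), (nat_lit 0), (nat_lit 3)⟩) (BT.node (nat_lit 33) (BT.leaf ⟨[(nat_lit 1), (nat_lit 1), (nat_lit 1), (nat_lit 3), (nat_lit 2), (nat_lit 3), (nat_lit 1), (nat_lit 1)], (nat_lit 16), (nat_lit 2), (nat_lit 0), (nat_lit 3)⟩) (BT.leaf ⟨[(nat_lit 4), (nat_lit 5), (nat_lit 3), (nat_lit 4), (nat_lit 5)], (nat_lit 9), (nat_lit 2), (nat_lit 0), (nat_lit 3)⟩)))))))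
noncomputable def eB0_hcs : List CW := []
noncomputable def eB0_H (x j : Nat) : Bx (Nat → Nat → Nat) := mkH eB0_L eB0_pb.1 eB0_e.get (lmap CW.w eB0_hcs) (nat_lit 64) (nat_lit 65) (nat_lit 6) (nat_lit 128) (nat_lit 8192) (nat_lit 8191) x (eB0_rots.get j)
noncomputable def eB0_F (x b : Nat) : Bool := blkOK eB0_H eB0_ch (nat_lit 65) (nat_lit 128) (nat_lit 64) (nat_lit 8) (nat_lit 255) (nat_lit 17) (nat_lit 131071) x b

theorem eB0_k0_0 : allFrom (eB0_F (nat_lit 0)) (nat_lit 0) (nat_lit 4) = true := by decide +kernel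
theorem eB0_k1_0 : allFrom (eB0_F (nat_lit 1)) (nat_lit 0) (nat_lit 4) = true := by decide +kernel
theorem eB0_k2_0 : allFrom (eB0_F (nat_lit 2)) (nat_lit 0) (nat_lit 4) = true := by decide +kernel
theorem eB0_k3_0 : allFrom (eB0_F (nat_lit 3)) (nat_lit 0) (nat_lit 4) = true := by decide +kernel
theorem eB0_k4_0 : allFrom (eB0_F (nat_lit 4)) (nat_lit 0) (nat_lit 4) = true := by decide +kernel
theorem eB0_k5_0 : allFrom (eB0_F (nat_lit 5)) (nat_lit 0) (nat_lit 4) = true := by decide +kernel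

theorem eB0_all : Cov eB0_F 4 6 0 := by
  have h := Cov.zero eB0_F 4
  have h := h.blk (b := 4) eB0_k0_0 rfl
  have h := h.next (y := 1) rfl rfl
  have h := h.blk (b := 4) eB0_k1_0 rfl
  have h := h.next (y := 2) rfl rfl
  have h := h.blk (b := 4) eB0_k2_0 rfl
  have h := h.next (y := 3) rfl rfl
  have h := h.blk (b := 4) eB0_k3_0 rfl
  have h := h.next (y := 4) rfl rfl
  have h := h.blk (b := 4) eB0_k4_0 rfl
  have h := h.next (y := 5) rfl rfl
  have h := h.blk (b := 4) eB0_k5_0 rfl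
  have h := h.next (y := 6) rfl rfl
  exact h

theorem eB0 : Enum RB0 [] (gensW 4) 64 :=
  ⟨eB0_cols, eB0_ch, eB0_L, eB0_H, eB0_pb.1, eB0_e.get, [(nat_lit 0), (nat_lit 1), (nat_lit 2), (nat_lit 3), (nat_lit 5), (nat_lit 7)], (nat_lit 14), (nat_lit 4), eB0_rots, eB0_hcs,
    (nat_lit 65), (nat_lit 6), (nat_lit 128), (nat_lit 64), (nat_lit 8192), (nat_lit 8191), (nat_lit 8), (nat_lit 255), (nat_lit 17), (nat_lit 131071), (nat_lit 1), (nat_lit 4),
    fun _ _ => rfl, fun _ => rfl, fun _ _ => rfl, by decide +kernel, eB0_all.1⟩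

theorem pB0 : TB0.Pres RB0 (gensW 4) := ⟨CT.ok_spec TB0_ok, lall_iff.1 TB0_rel, by decide +kernel,
  by decide +kernel, by decide +kernel, eB0.bound (ug_rels _) (bound_nil _)⟩

instance instTB0 : TB0.Grp := pB0.grp


end CF.W2
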