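import Cfsg.Agent.W2.Tab

/-! A Sylow 2-subgroup of `A₈`. -/

set_option autoImplicit false
set_option maxRecDepth 1000000
set_option maxHeartbeats 0
set_option Elab.async false

namespace CF.W2

open CF.Comp CF.Cod

noncomputable def RS64 : List (List Nat) := [[(nat_lit 5), (nat_lit 5)],
  [(nat_lit 1), (nat_lit 1), (nat_lit 3), (nat_lit 3)],
  [(nat_lit 1), (nat_lit 3), (nat_lit 1), (nat_lit 4)],
  [(nat_lit 1), (nat_lit 1), (nat_lit 5), (nat_lit 1), (nat_lit 1), (nat_lit 5)],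
  [(nat_lit 1), (nat_lit 5), (nat_lit 1), (nat_lit 5), (nat_lit 1), (nat_lit 5), (nat_lit 1), (nat_lit 5)],
  [(nat_lit 1), (nat_lit 5), (nat_lit 3), (nat_lit 5), (nat_lit 1), (nat_lit 5), (nat_lit 3), (nat_lit 5)],
  [(nat_lit 3), (nat_lit 5), (nat_lit 3), (nat_lit 5), (nat_lit 3), (nat_lit 5), (nat_lit 3), (nat_lit 5)]]
noncomputable def TS64_c0 : BT (Bx Nat) := (BT.leaf (Bx.mk (nat_lit 0xffef7cefae78df6d74cb3c70bee964aeaa688e2b6c9e682179f4936da5d665855471d44b30928f40d387206143101080)))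
noncomputable def TS64_c1 : BT (Bx Nat) := (BT.leaf (Bx.mk (nat_lit 0xf7cfbfcb3c70bee964efae39db76da82179f5d6d35493aeaa6840fb2d2cc9a724a8e239c7454596155040c2347200181)))
noncomputable def TS64_c2 : BT (Bx Nat) := (BT.leaf (Bx.mk (nat_lit 0xf3dffecf2c31baf925ebbe78df669b8607de597d744d2aaba293d0b6c30b9e62898a335d7111586545431013881c6002)))
noncomputable def TS64_c3 : BT (Bx Nat) := (BT.leaf (Bx.mk (nat_lit 0xebbcb3ffeaaba298a3f7c82179f619e78df6515493d74c70bee34e2ccb6c24a9e696440545d71b6975810843c01881c3)))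
noncomputable def TS64_c4 : BT (Bx Nat) := (BT.leaf (Bx.mk (nat_lit 0xefacf2fbfaeaa688e2f3d8607de658e39db75544d2d35c31baf38d30bb2d2899a79253d115c75a6d65c2043406007204)))
noncomputable def TS64_c5 : BT (Bx Nat) := (BT.leaf (Bx.mk (nat_lit 0xd74b6c9e69648e2ffe75c6da658f7c5d6554efae78df640f38dcf2c70beeaeaa682071a181f7840c205349100c2ca245)))
noncomputable def TS64_w : BT (Bx Nat) := (BT.leaf (Bx.mk (nat_lit 0x541531531531054153053153054151053151054531053531052531051531041531031531005415005315005453005353005253005153004153003153005451005351005251005151004151003151004531003531002531001531000545000535000525000515000415000315000453000353000253000153000451000351000251000151000541000531000511000045000035000025000015000054000053000052000051000041000031000011000005000004000003000002000001000000)))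
noncomputable def TS64_cols : List (BT (Bx Nat)) := [TS64_c0, TS64_c1, TS64_c2, TS64_c3, TS64_c4, TS64_c5, TS64_c5]
noncomputable def TS64_ch (x j : Nat) : Bx Nat := chk TS64_cols x j
noncomputable def TS64_wc (_ j : Nat) : Bx Nat := TS64_w.get j
noncomputable def TS64 : CT := ⟨(nat_lit 64), (nat_lit 6), (nat_lit 63), TS64_ch, (nat_lit 24), (nat_lit 16777215), TS64_wc, (nat_lit 126)⟩
theorem TS64_ok : TS64.ok = true := by decide +kernel
theorem TS64_rel : lall TS64.relOK RS64 = true := by decide +kernel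
noncomputable def eS64_c0 : BT (Bx Nat) := (BT.leaf (Bx.mk (nat_lit 0x0)))
noncomputable def eS64_c1 : BT (Bx Nat) := (BT.leaf (Bx.mk (nat_lit 0x283e22de8cafc728088b3449a10ac9056252b05957bd899eb4a793c4d5d9cae4e57482b7515c3d871eb36a9217d512a47df440f6187acbb0ad5ce6d02935c8a2e4b17156e92a7454bd845eb20c2ad739740a31721ac2a7739440a29f216b2a48851be23d853ae71e81432dc49653510995c0b44255ec0af5845c01c42398510e7098140c421e21040000)))
noncomputable def eS64_c2 : BT (Bx Nat) := (BT.leaf (Bx.mk (nat_lit 0x223d279f04900647e62344119a30c51364bc2f4cd834895ad4c723b391e178e92d726e38635bb486dad38a2225110b4881a43ed2176b4c388d9c46ac9948109b88ad2458e229491534841ad22e22e7116b26360418e2287113a882e0414a223885228839c43ce21d7109408194433109a710ac4259a408d68581014423dc412e2085103c080621060000)))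
noncomputable def eS64_c3 : BT (Bx Nat) := (BT.leaf (Bx.mk (nat_lit 0x24bb229e1aeccca6813c02ddf98eadf75863a97d9540e8dea48b3be3dde9f485f7448d1f7d9040e65ea347d3a4a5c9f4e1296f03957a8b40e4d2728c3b6885a98ec9296273b04a57c0e39ea1f038c49c6b0eba215b038a61c5b0ea2214ea4a68852a8e46070ce51261cf442754939109b724c4425e0704f5037a42c42420702c38761c4c422221080000)))
noncomputable def eS64_c4 : BT (Bx Nat) := (BT.leaf (Bx.mk (nat_lit 0x27bc219db3ad0c666333f09a018cb10656632a4194b5e920646533d299f1f28906428ca0418fb5e6a0632e3393edd38cdcfb70d796818aa4c520626e335885b38cc4c664e32f399835e3e061c930d818638cb6215cd30b818538c9e2150a7a5885334c416f250306718ec42794f37109c6bcbc4261af0703026bc244245c60f0301718444226210a0000)))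
noncomputable def eS64_c5 : BT (Bx Nat) := (BT.leaf (Bx.mk (nat_lit 0x10436821ac10ba085b04288213c109a084b04248211c4302217f041e820ec10720837041a820cc42fa217b0418820bc105a082b10bc885dc42ea217310b8885bc10460821040f8207442d2216710b28858c42c2215f10ac8855c42aa2153040982044101e214510a188504427e080b04048201c100a21291093884941006211b108c8845c422a210c0000)))
noncomputable def eS64_p : BT (Bx Nat) := (BT.leaf (Bx.mk (nat_lit 0xcd85cd45ab85ab45aa05a9c5a985a945a905a8c5a8c4a8c387858745870586c58685864586448643860585c5858585458544854384c484c384c284c16445640563c5638563846383630463036302630162846283628262816245620561c541844183418241814145410540c540854084408340812045204420432042204100000000)))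
noncomputable def eS64_e : BT Nat := BT.leaf (nat_lit 0)
noncomputable def eS64_cols : List (BT (Bx Nat)) := [eS64_c0, eS64_c1, eS64_c2, eS64_c3, eS64_c4, eS64_c5]
noncomputable def eS64_ch (x j : Nat) : Bx Nat := chunkG eS64_cols (nat_lit 1) x j
noncomputable def eS64_L (x : Nat) : Bx (Nat → Nat) := lookG eS64_ch (nat_lit 8) (nat_lit 255) (nat_lit 17) (nat_lit 131071) x
noncomputable def eS64_pc (_ j : Nat) : Bx Nat := eS64_p.get j
noncomputable def eS64_pb : Bx (Nat → Nat) := lookG eS64_pc (nat_lit 8) (nat_lit 255) (nat_lit 16) (nat_lit 65535) (nat_lit 0)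
noncomputable def eS64_rots : BT CW := (BT.node (nat_lit 15) (BT.node (nat_lit 7) (BT.node (nat_lit 3) (BT.node (nat_lit 1) (BT.leaf ⟨[], (nat_lit 1000000), (nat_lit 0), (nat_lit 0), (nat_lit 0)⟩) (BT.node (nat_lit 2) (BT.leaf ⟨[], (nat_lit 1000000), (nat_lit 0), (nat_lit 0), (nat_lit 1)⟩) (BT.leaf ⟨[], (nat_lit 1000000), (nat_lit 0), (nat_lit 0), (nat_lit 2)⟩))) (BT.node (nat_lit 5) (BT.node (nat_lit 4) (BT.leaf ⟨[(nat_lit 2), (nat_lit 1)], (nat_lit 9), (nat_lit 1), (nat_lit 0), (nat_lit 3)⟩) (BT.leaf ⟨[(nat_lit 1), (nat_lit 2)], (nat_lit 9), (nat_lit 0), (nat_lit 0), (nat_lit 3)⟩)) (BT.node (nat_lit 6) (BT.leaf ⟨[(nat_lit 4), (nat_lit 3)], (nat_lit 8), (nat_lit 1), (nat_lit 0), (nat_lit 3)⟩) (BT.leaf ⟨[(nat_lit 3), (nat_lit 4)], (nat_lit 8), (nat_lit 0), (nat_lit 0), (nat_lit 3)⟩)))) (BT.node (nat_lit 11) (BT.node (nat_lit 9) (BT.node (nat_lit 8) (BT.leaf ⟨[(nat_lit 5), (nat_lit 5)], (nat_lit 0), (nat_lit 0),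 (nat_lit 0), (nat_lit 3)⟩) (BT.leaf ⟨[(nat_lit 3), (nat_lit 3), (nat_lit 1), (nat_lit 1)], (nat_lit 1), (nat_lit 2), (nat_lit 0), (nat_lit 3)⟩)) (BT.node (nat_lit 10) (BT.leaf ⟨[(nat_lit 3), (nat_lit 1), (nat_lit 1), (nat_lit 3)], (nat_lit 1), (nat_lit 3), (nat_lit 0), (nat_lit 3)⟩) (BT.leaf ⟨[(nat_lit 1), (nat_lit 4), (nat_lit 1), (nat_lit 3)], (nat_lit 2), (nat_lit 2), (nat_lit 0), (nat_lit 3)⟩))) (BT.node (nat_lit 13) (BT.node (nat_lit 12) (BT.leaf ⟨[(nat_lit 1), (nat_lit 3), (nat_lit 1), (nat_lit 4)], (nat_lit 2), (nat_lit 0), (nat_lit 0), (nat_lit 3)⟩) (BT.leaf ⟨[(nat_lit 2), (nat_lit 3), (nat_lit 2), (nat_lit 4)], (nat_lit 12), (nat_lit 3), (nat_lit 0), (nat_lit 3)⟩)) (BT.node (nat_lit 14) (BT.leaf ⟨[(nat_lit 1), (nat_lit 1), (nat_lit 3), (nat_lit 3)], (nat_lit 1), (nat_lit 0), (nat_lit 0), (nat_lit 3)⟩) (BT.leaf ⟨[(nat_lit 4), (nat_lit 1), (nat_lit 3), (nat_lit 1)], (nat_lit 2), (nat_lit 3), (nat_lit 0),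 (nat_lit 3)⟩))))) (BT.node (nat_lit 22) (BT.node (nat_lit 18) (BT.node (nat_lit 16) (BT.leaf ⟨[(nat_lit 1), (nat_lit 3), (nat_lit 3), (nat_lit 1)], (nat_lit 1), (nat_lit 1), (nat_lit 0), (nat_lit 3)⟩) (BT.node (nat_lit 17) (BT.leaf ⟨[(nat_lit 1), (nat_lit 1), (nat_lit 5), (nat_lit 1), (nat_lit 1), (nat_lit 5)], (nat_lit 3), (nat_lit 0), (nat_lit 0), (nat_lit 3)⟩) (BT.leaf ⟨[(nat_lit 1), (nat_lit 5), (nat_lit 1), (nat_lit 1), (nat_lit 5), (nat_lit 1)], (nat_lit 3), (nat_lit 1), (nat_lit 0), (nat_lit 3)⟩))) (BT.node (nat_lit 20) (BT.node (nat_lit 19) (BT.leaf ⟨[(nat_lit 2), (nat_lit 5), (nat_lit 2), (nat_lit 2), (nat_lit 5), (nat_lit 2)], (nat_lit 13), (nat_lit 2), (nat_lit 0), (nat_lit 3)⟩) (BT.leaf ⟨[(nat_lit 1), (nat_lit 5), (nat_lit 1), (nat_lit 5), (nat_lit 1), (nat_lit 5), (nat_lit 1), (nat_lit 5)], (nat_lit 4), (nat_lit 0), (nat_lit 0), (nat_lit 3)⟩)) (BT.node (nat_lit 21) (BT.leaf ⟨[(nat_lit 1), (nat_lit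 5), (nat_lit 3), (nat_lit 5), (nat_lit 1), (nat_lit 5), (nat_lit 3), (nat_lit 5)], (nat_lit 5), (nat_lit 0), (nat_lit 0), (nat_lit 3)⟩) (BT.leaf ⟨[(nat_lit 3), (nat_lit 5), (nat_lit 1), (nat_lit 5), (nat_lit 3), (nat_lit 5), (nat_lit 1), (nat_lit 5)], (nat_lit 5), (nat_lit 2), (nat_lit 0), (nat_lit 3)⟩)))) (BT.node (nat_lit 26) (BT.node (nat_lit 24) (BT.node (nat_lit 23) (BT.leaf ⟨[(nat_lit 3), (nat_lit 5), (nat_lit 3), (nat_lit 5), (nat_lit 3), (nat_lit 5), (nat_lit 3), (nat_lit 5)], (nat_lit 6), (nat_lit 0), (nat_lit 0), (nat_lit 3)⟩) (BT.leaf ⟨[(nat_lit 2), (nat_lit 2), (nat_lit 5), (nat_lit 2), (nat_lit 2), (nat_lit 5)], (nat_lit 13), (nat_lit 1), (nat_lit 0), (nat_lit 3)⟩)) (BT.node (nat_lit 25) (BT.leaf ⟨[(nat_lit 4), (nat_lit 4), (nat_lit 2), (nat_lit 2)], (nat_lit 11), (nat_lit 0), (nat_lit 0), (nat_lit 3)⟩) (BT.leaf ⟨[(nat_lit 3), (nat_lit 2), (nat_lit 4), (nat_lit 2)], (nat_lit 12), (nat_lit 0), (nat_lit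 0), (nat_lit 3)⟩))) (BT.node (nat_lit 28) (BT.node (nat_lit 27) (BT.leaf ⟨[(nat_lit 4), (nat_lit 2), (nat_lit 2), (nat_lit 4)], (nat_lit 11), (nat_lit 1), (nat_lit 0), (nat_lit 3)⟩) (BT.leaf ⟨[(nat_lit 2), (nat_lit 2), (nat_lit 4), (nat_lit 4)], (nat_lit 11), (nat_lit 2), (nat_lit 0), (nat_lit 3)⟩)) (BT.node (nat_lit 29) (BT.leaf ⟨[(nat_lit 4), (nat_lit 5), (nat_lit 4), (nat_lit 5), (nat_lit 4), (nat_lit 5), (nat_lit 4), (nat_lit 5)], (nat_lit 16), (nat_lit 1), (nat_lit 0), (nat_lit 3)⟩) (BT.leaf ⟨[(nat_lit 2), (nat_lit 4), (nat_lit 2), (nat_lit 3)], (nat_lit 12), (nat_lit 1), (nat_lit 0), (nat_lit 3)⟩))))))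
noncomputable def eS64_hcs : List CW := []
noncomputable def eS64_H (x j : Nat) : Bx (Nat → Nat → Nat) := mkH eS64_L eS64_pb.1 eS64_e.get (lmap CW.w eS64_hcs) (nat_lit 64) (nat_lit 65) (nat_lit 6) (nat_lit 128) (nat_lit 4096) (nat_lit 8191) x (eS64_rots.get j)
noncomputable def eS64_F (x b : Nat) : Bool := blkOK eS64_H eS64_ch (nat_lit 65) (nat_lit 128) (nat_lit 32) (nat_lit 8) (nat_lit 255) (nat_lit 17) (nat_lit 131071) x b

theorem eS64_k0_0 : allFrom (eS64_F (nat_lit 0)) (nat_lit 0) (nat_lit 4) = true := by decide +kernel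
theorem eS64_k1_0 : allFrom (eS64_F (nat_lit 1)) (nat_lit 0) (nat_lit 4) = true := by decide +kernel
theorem eS64_k2_0 : allFrom (eS64_F (nat_lit 2)) (nat_lit 0) (nat_lit 4) = true := by decide +kernel
theorem eS64_k3_0 : allFrom (eS64_F (nat_lit 3)) (nat_lit 0) (nat_lit 4) = true := by decide +kernel
theorem eS64_k4_0 : allFrom (eS64_F (nat_lit 4)) (nat_lit 0) (nat_lit 4) = true := by decide +kernel
theorem eS64_k5_0 : allFrom (eS64_F (nat_lit 5)) (nat_lit 0) (nat_lit 4) = true := by decide +kernel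

theorem eS64_all : Cov eS64_F 4 6 0 := by
  have h := Cov.zero eS64_F 4
  have h := h.blk (b := 4) eS64_k0_0 rfl
  have h := h.next (y := 1) rfl rfl
  have h := h.blk (b := 4) eS64_k1_0 rfl
  have h := h.next (y := 2) rfl rfl
  have h := h.blk (b := 4) eS64_k2_0 rfl
  have h := h.next (y := 3) rfl rfl
  have h := h.blk (b := 4) eS64_k3_0 rfl
  have h := h.next (y := 4) rfl rfl
  have h := h.blk (b := 4) eS64_k4_0 rfl
  have h := h.next (y := 5) rfl rfl
  have h := h.blk (b := 4) eS64_k5_0 rfl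
  have h := h.next (y := 6) rfl rfl
  exact h

theorem eS64 : Enum RS64 [] (gensW 3) 64 :=
  ⟨eS64_cols, eS64_ch, eS64_L, eS64_H, eS64_pb.1, eS64_e.get, [(nat_lit 0), (nat_lit 1), (nat_lit 2), (nat_lit 3), (nat_lit 4), (nat_lit 5)], (nat_lit 4), (nat_lit 3), eS64_rots, eS64_hcs,
    (nat_lit 65), (nat_lit 6), (nat_lit 128), (nat_lit 32), (nat_lit 4096), (nat_lit 8191), (nat_lit 8), (nat_lit 255), (nat_lit 17), (nat_lit 131071), (nat_lit 1), (nat_lit 4),
    fun _ _ => rfl, fun _ => rfl, fun _ _ => rfl, by decide +kernel, eS64_all.1⟩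

theorem pS64 : TS64.Pres RS64 (gensW 3) := ⟨CT.ok_spec TS64_ok, lall_iff.1 TS64_rel, by decide +kernel,
  by decide +kernel, by decide +kernel, eS64.bound (ug_rels _) (bound_nil _)⟩

instance instTS64 : TS64.Grp := pS64.grp


end CF.W2
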