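import Cfsg.Agent.Cod.Gen

/-! Cayley tables of the small groups used for the centralizers with core `2^{1+4}_+`. -/

set_option autoImplicit false
set_option maxRecDepth 1000000
set_option maxHeartbeats 0
set_option Elab.async false

namespace CF.W2

open CF.Comp CF.Cod

noncomputable def RE : List (List Nat) := [[(nat_lit 1), (nat_lit 1), (nat_lit 1)],
  [(nat_lit 1), (nat_lit 3), (nat_lit 1), (nat_lit 3), (nat_lit 1), (nat_lit 3)],
  [(nat_lit 3), (nat_lit 3), (nat_lit 3), (nat_lit 3)],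
  [(nat_lit 3), (nat_lit 3), (nat_lit 1), (nat_lit 4), (nat_lit 4), (nat_lit 2)],
  [(nat_lit 3), (nat_lit 3), (nat_lit 6), (nat_lit 6)],
  [(nat_lit 1), (nat_lit 5), (nat_lit 1), (nat_lit 5), (nat_lit 1), (nat_lit 5)],
  [(nat_lit 3), (nat_lit 5), (nat_lit 4), (nat_lit 6)],
  [(nat_lit 3), (nat_lit 1), (nat_lit 5), (nat_lit 2), (nat_lit 4), (nat_lit 1), (nat_lit 6), (nat_lit 2)],
  [(nat_lit 3), (nat_lit 2), (nat_lit 5), (nat_lit 1), (nat_lit 4), (nat_lit 2), (nat_lit 6), (nat_lit 1)]]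
noncomputable def TE_c0 : BT (Bx Nat) := (BT.node (nat_lit 1) (BT.leaf (Bx.mk (nat_lit 0x7efac5962c19b23ca4ea872e1dba42b11ae3495b34387d5225a9179b4cddaa740ac48d143838b26488881858c0f285cc902a143030804100))) (BT.leaf (Bx.mk (nat_lit 0xbf7aedc9729e3d8b129d2ab528d0853a04cb76a4c88f1abd6873e0cd))))
noncomputable def TE_c1 : BT (Bx Nat) := (BT.node (nat_lit 1) (BT.leaf (Bx.mk (nat_lit 0x72e2edc9322dda26dc935a342ad41cbc6ad18ae74c222d30a4825108410a0270e6c3190a5c2156cd0e0320b962a4a8d09f3460b141e00101))) (BT.leaf (Bx.mk (nat_lit 0x972a9d27ef9d3b66ca3c67af2bd6533d44d8b12c5962c2fde3d0cec1))))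
noncomputable def TE_c2 : BT (Bx Nat) := (BT.node (nat_lit 1) (BT.leaf (Bx.mk (nat_lit 0xb76a9d2b165fbe6c4da12af5a3c65c3960d54327cd38945a3148449f110e091341cc062c14a046ed538f06bd6ab4c911203664b952004002))) (BT.leaf (Bx.mk (nat_lit 0x8b11ebc72e2449a3418b0bb719b29ca6628bf79dbaab525ca847a01d))))
noncomputable def TE_c3 : BT (Bx Nat) := (BT.node (nat_lit 1) (BT.leaf (Bx.mk (nat_lit 0x93219332e64b18b766d587af254ba746950286c68e183d0478b1a22a20245084a55db974e0fa60a1821a56a54024e78e81384c900222c383))) (BT.leaf (Bx.mk (nat_lit 0x830e74c6adda369b3e1405abd62eaf72b5d62c1f3f44910a3bf52f55))))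
noncomputable def TE_c4 : BT (Bx Nat) := (BT.node (nat_lit 1) (BT.leaf (Bx.mk (nat_lit 0x91259b2325cc16b562dd978f65caa5429d11e8070d1650dc6891e2a52a284875441d3876e4d2b0c1419f4ca14a70474f1c02489910030404))) (BT.leaf (Bx.mk (nat_lit 0x870664e6ed5b349f360425eb572cad76bdc60c5fbe48891a1bd56fd4))))
noncomputable def TE_c5 : BT (Bx Nat) := (BT.node (nat_lit 1) (BT.leaf (Bx.mk (nat_lit 0x3680d1f8b12953ab5aa5720547943088b24972458c1d2a42e2eb0cbf7a1c40a7cf11ad42bd9b1061033260093a95004e1e3a008932434485))) (BT.leaf (Bx.mk (nat_lit 0x9d320c385027cd6cd1ab772e2347b17acdf4cad2aaa341d3bbb6ae5b))))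
noncomputable def TE_c6 : BT (Bx Nat) := (BT.node (nat_lit 1) (BT.leaf (Bx.mk (nat_lit 0x406cf9a89169d2a95ead62a40a0f2c90c22952060b1b2e4ac32b8bbe78203897ef50af46b5930080c2b3629c128527009d3c440122638506))) (BT.leaf (Bx.mk (nat_lit 0x993a1c1810a6cf68d9bb570e63c6b37ec5e5699525a145dbab96eeda))))
noncomputable def TE_w : BT (Bx Nat) := (BT.node (nat_lit 1) (BT.leaf (Bx.mk (nat_lit 0x6231052310613105131004250032500415003150026300163002530015300623005230061300513002620016200252001520024200142006320053200332002320013200261001610025100151002410014100631005310033100231001310002600016000250001500024000140006300053000330002300013000620005200042000320006100051000410003100006000050000400003000020000100000))) (BT.leaf (Bx.mk (nat_lit 0x4253132531161311513104253032530415303153026230252301613015130425203252041520315202632016320253201532062320523206132051320425103251041510315102631016310253101531))))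
noncomputable def TE_cols : List (BT (Bx Nat)) := [TE_c0, TE_c1, TE_c2, TE_c3, TE_c4, TE_c5, TE_c6]
noncomputable def TE_ch (x j : Nat) : Bx Nat := chk TE_cols x j
noncomputable def TE_wc (_ j : Nat) : Bx Nat := TE_w.get j
noncomputable def TE : CT := ⟨(nat_lit 96), (nat_lit 7), (nat_lit 127), TE_ch, (nat_lit 20), (nat_lit 1048575), TE_wc, (nat_lit 126)⟩
theorem TE_ok : TE.ok = true := by decide +kernel
theorem TE_rel : lall TE.relOK RE = true := by decide +kernel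
noncomputable def eE_c0 : BT (Bx Nat) := (BT.leaf (Bx.mk (nat_lit 0x0)))
noncomputable def eE_c1 : BT (Bx Nat) := (BT.leaf (Bx.mk (nat_lit 0xc54c3152cc5542154d0540314fd31bb60af1e2b478acd25486951cf5be2d6f4e5584155de2aa71541e2a971538f1c63c71485591156953b2750c4f1e038b7de29f71511e29e71509553a452e600de80374b1ca1c72531dc38b6de294714e1e293714d915d24d74600d680355e28f714c1e28e714b9e28d714b200cf80335cb1278a31c52778a2dc52578a29c52378a25c5218030e00c1514a1e28871471e28771469e28671461e2857145a00b7802d5629d78a11c511802be00ad802ae00a68029200a280282009b80266009780256009078a05c503802080000)))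
noncomputable def eE_c2 : BT (Bx Nat) := (BT.leaf (Bx.mk (nat_lit 0xc24643d15e23e788f5023a43ce4224918928c25238945e232788c4a25e18974e234408cda24f788a9a24d788a4a2602897c823c108ed025660954c24c3092da2437887da24178878e25c2896cc2542094daf59409692240388fda23778851a2357884e00d88035d22486891da22f7883da22d78839a22b7883600d080339221d68899e20c68891e20b68889e20a68881e2098031200c262649a21b78821a2197881da21778819a2157881600b8802d9a22868841e204802c200ae802b200a78029600a380286009c8026a00988025a009168809e2018020c0000)))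
noncomputable def eE_c3 : BT (Bx Nat) := (BT.leaf (Bx.mk (nat_lit 0x1e3c253f10964f25935e3b653ee1e3b5530dcc94e3a540ecc33b305e3ae40ec1e3ad30ebcac5818f74ac5708f7943b250ec4c8bf20f01e3a353e95e3a240e9143e04a55600df4255903ca40f2528b338ed1e39853e69e3975306543dc50f6a00db8036543be50ef523cb40f30c3d43c54a00d3803458c1538e71888e50e3dc58d6304163a150f2111468031e00c530ead439162229438b716254ca67245943bc50eea00bb802e523a06a49d888650e1dc5856326da3ac68ea9a3a978e0e00a868e7da39e78e0a009d68e51a39378e060092802320088802100000)))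
noncomputable def eE_c4 : BT (Bx Nat) := (BT.leaf (Bx.mk (nat_lit 0x16d4478d08524d21f3d6d3878cd96eb778cd4835020d38e34140d0cf23078cb8c32f78cb4c35718d78a35818d7527b151cc927c049cfd6d2578c8ce32478c89235f30d5a00e030d54ae4928d2967b459ccd6d1a78c616e9978c5d235b48d6600dc803690e3d40cf967cc59d2d2e5339f4600d480349ca903b485c78f71c39e30c60c55231c48d1d27c58032200c662a994d1671e2dc70a78c210aab58c45233b48ce600bc802e9a31b58cb1c78771c19e3045aa81632759ca5632a68ca1e30359c79631f68c75e30259c4d631468c49e301802360089802140000)))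
noncomputable def eE_c5 : BT (Bx Nat) := (BT.leaf (Bx.mk (nat_lit 0x884f221352a4272911104334104a4d01933904b7436d524b6728e104ba412e5304754320d0d92a97cb0da2a981e4a7512b1e4a6336ad105244345303b542f1085e1936d04dd31371e49c41285e49b4b68110464431524d34135108564935d04d569361e49151259e4905125504993928d4d975929544cc3a129e48c61235880f8032e00c9320bd2498412b5ca1a32101483e7922184896202e00bf802f508245a8b904a2692c12834512c9e484612158807802ce00b17920da4a8692aa00a979209a49d6927e009e79205a4926925200938023a008a802180000)))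
noncomputable def eE_c6 : BT (Bx Nat) := (BT.leaf (Bx.mk (nat_lit 0x844d2113ce44449b08f2c121b0c844e29141cbb552edce43849ad932b954ce8e4483911cd35a1918086591917d66ac7909cc42b79099245141148e43c390eda45d39171045e2916ca4217907124207906d24454111932d44cd4da455499614bd63915d041679045669579041cb9729095441949a8d664b29125c68d79031c60e8033200ca62eb4e41a42ebd2698498fd043d71a25e4087182a00c0802f9a422498c14ba4490b96633598c5c68579011c606802d200b2590a1e403698a600aa59075e4026987a009f59049e4016984e00948023e008b8021c0000)))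
noncomputable def eE_p : BT (Bx Nat) := (BT.leaf (Bx.mk (nat_lit 0xb084b083af81af418d848d838d448d438d028cc28c818c418b848b838b448b438a828a818a428a4189c689c58986898588c488c38884888387c287c1878287818706870586c686c56604660365c465c36502650164c264c1644664456406640563c263c163826381634263416306630563036302630162c262c162826281624262416206620562036202620141c241c141824181414241414106410541034102410140c640c540c440c3408640854084408320462045204420432042204100000000)))
noncomputable def eE_e : BT Nat := BT.leaf (nat_lit 0)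
noncomputable def eE_cols : List (BT (Bx Nat)) := [eE_c0, eE_c1, eE_c2, eE_c3, eE_c4, eE_c5, eE_c6]
noncomputable def eE_ch (x j : Nat) : Bx Nat := chunkG eE_cols (nat_lit 1) x j
noncomputable def eE_L (x : Nat) : Bx (Nat → Nat) := lookG eE_ch (nat_lit 8) (nat_lit 255) (nat_lit 18) (nat_lit 262143) x
noncomputable def eE_pc (_ j : Nat) : Bx Nat := eE_p.get j
noncomputable def eE_pb : Bx (Nat → Nat) := lookG eE_pc (nat_lit 8) (nat_lit 255) (nat_lit 16) (nat_lit 65535) (nat_lit 0)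
noncomputable def eE_rots : BT CW := (BT.node (nat_lit 22) (BT.node (nat_lit 11) (BT.node (nat_lit 5) (BT.node (nat_lit 2) (BT.node (nat_lit 1) (BT.leaf ⟨[], (nat_lit 1000000), (nat_lit 0), (nat_lit 0), (nat_lit 0)⟩) (BT.leaf ⟨[], (nat_lit 1000000), (nat_lit 0), (nat_lit 0), (nat_lit 1)⟩)) (BT.node (nat_lit 3) (BT.leaf ⟨[], (nat_lit 1000000), (nat_lit 0), (nat_lit 0), (nat_lit 2)⟩) (BT.node (nat_lit 4) (BT.leaf ⟨[(nat_lit 2), (nat_lit 1)], (nat_lit 11), (nat_lit 1), (nat_lit 0), (nat_lit 3)⟩) (BT.leaf ⟨[(nat_lit 1), (nat_lit 2)], (nat_lit 11), (nat_lit 0), (nat_lit 0), (nat_lit 3)⟩)))) (BT.node (nat_lit 8) (BT.node (nat_lit 6) (BT.leaf ⟨[(nat_lit 4), (nat_lit 3)], (nat_lit 10), (nat_lit 1), (nat_lit 0), (nat_lit 3)⟩) (BT.node (nat_lit 7) (BT.leaf ⟨[(nat_lit 3), (nat_lit 4)], (nat_lit 10), (nat_lit 0), (nat_lit 0), (nat_lit 3)⟩) (BT.leaf ⟨[(nat_lit 6), (nat_lit 5)], (nat_lit 9), (nat_lit 1), (nat_lit 0), (nat_lit 3)⟩))) (BT.node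 (nat_lit 9) (BT.leaf ⟨[(nat_lit 5), (nat_lit 6)], (nat_lit 9), (nat_lit 0), (nat_lit 0), (nat_lit 3)⟩) (BT.node (nat_lit 10) (BT.leaf ⟨[(nat_lit 1), (nat_lit 1), (nat_lit 1)], (nat_lit 0), (nat_lit 0), (nat_lit 0), (nat_lit 3)⟩) (BT.leaf ⟨[(nat_lit 3), (nat_lit 3), (nat_lit 3), (nat_lit 3)], (nat_lit 2), (nat_lit 0), (nat_lit 0), (nat_lit 3)⟩))))) (BT.node (nat_lit 16) (BT.node (nat_lit 13) (BT.node (nat_lit 12) (BT.leaf ⟨[(nat_lit 6), (nat_lit 6), (nat_lit 3), (nat_lit 3)], (nat_lit 4), (nat_lit 2), (nat_lit 0), (nat_lit 3)⟩) (BT.leaf ⟨[(nat_lit 6), (nat_lit 3), (nat_lit 3), (nat_lit 6)], (nat_lit 4), (nat_lit 3), (nat_lit 0), (nat_lit 3)⟩)) (BT.node (nat_lit 14) (BT.leaf ⟨[(nat_lit 4), (nat_lit 6), (nat_lit 3), (nat_lit 5)], (nat_lit 6), (nat_lit 2), (nat_lit 0), (nat_lit 3)⟩) (BT.node (nat_lit 15) (BT.leaf ⟨[(nat_lit 4), (nat_lit 5), (nat_lit 3), (nat_lit 6)], (nat_lit 18), (nat_lit 3), (nat_lit 0), (nat_lit 3)⟩) (BT.leaf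 ⟨[(nat_lit 5), (nat_lit 5), (nat_lit 4), (nat_lit 4)], (nat_lit 16), (nat_lit 0), (nat_lit 0), (nat_lit 3)⟩)))) (BT.node (nat_lit 19) (BT.node (nat_lit 17) (BT.leaf ⟨[(nat_lit 3), (nat_lit 6), (nat_lit 4), (nat_lit 5)], (nat_lit 18), (nat_lit 1), (nat_lit 0), (nat_lit 3)⟩) (BT.node (nat_lit 18) (BT.leaf ⟨[(nat_lit 3), (nat_lit 1), (nat_lit 3), (nat_lit 1), (nat_lit 3), (nat_lit 1)], (nat_lit 1), (nat_lit 1), (nat_lit 0), (nat_lit 3)⟩) (BT.leaf ⟨[(nat_lit 2), (nat_lit 3), (nat_lit 3), (nat_lit 1), (nat_lit 4), (nat_lit 4)], (nat_lit 3), (nat_lit 5), (nat_lit 0), (nat_lit 3)⟩))) (BT.node (nat_lit 20) (BT.leaf ⟨[(nat_lit 5), (nat_lit 1), (nat_lit 5), (nat_lit 1), (nat_lit 5), (nat_lit 1)], (nat_lit 5), (nat_lit 1), (nat_lit 0), (nat_lit 3)⟩) (BT.node (nat_lit 21) (BT.leaf ⟨[(nat_lit 4), (nat_lit 2), (nat_lit 4), (nat_lit 2), (nat_lit 4), (nat_lit 2)], (nat_lit 13), (nat_lit 0), (nat_lit 0), (nat_lit 3)⟩) (BT.leaf ⟨[(nat_lit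 1), (nat_lit 4), (nat_lit 4), (nat_lit 2), (nat_lit 3), (nat_lit 3)], (nat_lit 3), (nat_lit 2), (nat_lit 0), (nat_lit 3)⟩)))))) (BT.node (nat_lit 33) (BT.node (nat_lit 27) (BT.node (nat_lit 24) (BT.node (nat_lit 23) (BT.leaf ⟨[(nat_lit 6), (nat_lit 2), (nat_lit 6), (nat_lit 2), (nat_lit 6), (nat_lit 2)], (nat_lit 17), (nat_lit 0), (nat_lit 0), (nat_lit 3)⟩) (BT.leaf ⟨[(nat_lit 3), (nat_lit 2), (nat_lit 4), (nat_lit 4), (nat_lit 1), (nat_lit 3)], (nat_lit 15), (nat_lit 2), (nat_lit 0), (nat_lit 3)⟩)) (BT.node (nat_lit 25) (BT.leaf ⟨[(nat_lit 3), (nat_lit 3), (nat_lit 1), (nat_lit 4), (nat_lit 4), (nat_lit 2)], (nat_lit 3), (nat_lit 0), (nat_lit 0), (nat_lit 3)⟩) (BT.node (nat_lit 26) (BT.leaf ⟨[(nat_lit 4), (nat_lit 1), (nat_lit 3), (nat_lit 3), (nat_lit 2), (nat_lit 4)], (nat_lit 15), (nat_lit 5), (nat_lit 0), (nat_lit 3)⟩) (BT.leaf ⟨[(nat_lit 5), (nat_lit 4), (nat_lit 4), (nat_lit 5)], (nat_lit 16), (nat_lit 1), (nat_lit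 0), (nat_lit 3)⟩)))) (BT.node (nat_lit 30) (BT.node (nat_lit 28) (BT.leaf ⟨[(nat_lit 4), (nat_lit 4), (nat_lit 5), (nat_lit 5)], (nat_lit 16), (nat_lit 2), (nat_lit 0), (nat_lit 3)⟩) (BT.node (nat_lit 29) (BT.leaf ⟨[(nat_lit 4), (nat_lit 2), (nat_lit 3), (nat_lit 3), (nat_lit 1), (nat_lit 4)], (nat_lit 3), (nat_lit 4), (nat_lit 0), (nat_lit 3)⟩) (BT.leaf ⟨[(nat_lit 2), (nat_lit 4), (nat_lit 2), (nat_lit 4), (nat_lit 2), (nat_lit 4)], (nat_lit 13), (nat_lit 1), (nat_lit 0), (nat_lit 3)⟩))) (BT.node (nat_lit 31) (BT.leaf ⟨[(nat_lit 3), (nat_lit 1), (nat_lit 4), (nat_lit 4), (nat_lit 2), (nat_lit 3)], (nat_lit 3), (nat_lit 1), (nat_lit 0), (nat_lit 3)⟩) (BT.node (nat_lit 32) (BT.leaf ⟨[(nat_lit 5), (nat_lit 3), (nat_lit 6), (nat_lit 4)], (nat_lit 18), (nat_lit 0), (nat_lit 0), (nat_lit 3)⟩) (BT.leaf ⟨[(nat_lit 5), (nat_lit 4), (nat_lit 6), (nat_lit 3)], (nat_lit 6), (nat_lit 1), (nat_lit 0), (nat_lit 3)⟩))))) (BT.node (nat_lit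 38) (BT.node (nat_lit 35) (BT.node (nat_lit 34) (BT.leaf ⟨[(nat_lit 3), (nat_lit 3), (nat_lit 6), (nat_lit 6)], (nat_lit 4), (nat_lit 0), (nat_lit 0), (nat_lit 3)⟩) (BT.leaf ⟨[(nat_lit 1), (nat_lit 3), (nat_lit 1), (nat_lit 3), (nat_lit 1), (nat_lit 3)], (nat_lit 1), (nat_lit 0), (nat_lit 0), (nat_lit 3)⟩)) (BT.node (nat_lit 36) (BT.leaf ⟨[(nat_lit 4), (nat_lit 5), (nat_lit 5), (nat_lit 4)], (nat_lit 16), (nat_lit 3), (nat_lit 0), (nat_lit 3)⟩) (BT.node (nat_lit 37) (BT.leaf ⟨[(nat_lit 6), (nat_lit 3), (nat_lit 5), (nat_lit 4)], (nat_lit 6), (nat_lit 3), (nat_lit 0), (nat_lit 3)⟩) (BT.leaf ⟨[(nat_lit 6), (nat_lit 4), (nat_lit 5), (nat_lit 3)], (nat_lit 18), (nat_lit 2), (nat_lit 0), (nat_lit 3)⟩)))) (BT.node (nat_lit 41) (BT.node (nat_lit 39) (BT.leaf ⟨[(nat_lit 1), (nat_lit 6), (nat_lit 2), (nat_lit 3), (nat_lit 1), (nat_lit 5), (nat_lit 2), (nat_lit 4)], (nat_lit 7), (nat_lit 5), (nat_lit 0), (nat_lit 3)⟩) (BT.node (nat_lit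 40) (BT.leaf ⟨[(nat_lit 1), (nat_lit 6), (nat_lit 2), (nat_lit 4), (nat_lit 1), (nat_lit 5), (nat_lit 2), (nat_lit 3)], (nat_lit 19), (nat_lit 4), (nat_lit 0), (nat_lit 3)⟩) (BT.leaf ⟨[(nat_lit 1), (nat_lit 3), (nat_lit 2), (nat_lit 5), (nat_lit 1), (nat_lit 4), (nat_lit 2), (nat_lit 6)], (nat_lit 8), (nat_lit 7), (nat_lit 0), (nat_lit 3)⟩))) (BT.node (nat_lit 42) (BT.leaf ⟨[(nat_lit 1), (nat_lit 4), (nat_lit 2), (nat_lit 5), (nat_lit 1), (nat_lit 3), (nat_lit 2), (nat_lit 6)], (nat_lit 20), (nat_lit 6), (nat_lit 0), (nat_lit 3)⟩) (BT.node (nat_lit 43) (BT.leaf ⟨[(nat_lit 1), (nat_lit 5), (nat_lit 1), (nat_lit 5), (nat_lit 1), (nat_lit 5)], (nat_lit 5), (nat_lit 0), (nat_lit 0), (nat_lit 3)⟩) (BT.leaf ⟨[(nat_lit 3), (nat_lit 5), (nat_lit 4), (nat_lit 6)], (nat_lit 6), (nat_lit 0), (nat_lit 0), (nat_lit 3)⟩)))))))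
noncomputable def eE_hcs : List CW := []
noncomputable def eE_H (x j : Nat) : Bx (Nat → Nat → Nat) := mkH eE_L eE_pb.1 eE_e.get (lmap CW.w eE_hcs) (nat_lit 96) (nat_lit 97) (nat_lit 7) (nat_lit 128) (nat_lit 8192) (nat_lit 8191) x (eE_rots.get j)
noncomputable def eE_F (x b : Nat) : Bool := blkOK eE_H eE_ch (nat_lit 97) (nat_lit 128) (nat_lit 64) (nat_lit 8) (nat_lit 255) (nat_lit 18) (nat_lit 262143) x b

theorem eE_k0_0 : allFrom (eE_F (nat_lit 0)) (nat_lit 0) (nat_lit 4) = true := by decide +kernel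
theorem eE_k1_0 : allFrom (eE_F (nat_lit 1)) (nat_lit 0) (nat_lit 4) = true := by decide +kernel
theorem eE_k2_0 : allFrom (eE_F (nat_lit 2)) (nat_lit 0) (nat_lit 4) = true := by decide +kernel
theorem eE_k3_0 : allFrom (eE_F (nat_lit 3)) (nat_lit 0) (nat_lit 4) = true := by decide +kernel
theorem eE_k4_0 : allFrom (eE_F (nat_lit 4)) (nat_lit 0) (nat_lit 4) = true := by decide +kernel
theorem eE_k5_0 : allFrom (eE_F (nat_lit 5)) (nat_lit 0) (nat_lit 4) = true := by decide +kernel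
theorem eE_k6_0 : allFrom (eE_F (nat_lit 6)) (nat_lit 0) (nat_lit 4) = true := by decide +kernel

theorem eE_all : Cov eE_F 4 7 0 := by
  have h := Cov.zero eE_F 4
  have h := h.blk (b := 4) eE_k0_0 rfl
  have h := h.next (y := 1) rfl rfl
  have h := h.blk (b := 4) eE_k1_0 rfl
  have h := h.next (y := 2) rfl rfl
  have h := h.blk (b := 4) eE_k2_0 rfl
  have h := h.next (y := 3) rfl rfl
  have h := h.blk (b := 4) eE_k3_0 rfl
  have h := h.next (y := 4) rfl rfl
  have h := h.blk (b := 4) eE_k4_0 rfl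
  have h := h.next (y := 5) rfl rfl
  have h := h.blk (b := 4) eE_k5_0 rfl
  have h := h.next (y := 6) rfl rfl
  have h := h.blk (b := 4) eE_k6_0 rfl
  have h := h.next (y := 7) rfl rfl
  exact h

theorem eE : Enum RE [] (gensW 3) 96 :=
  ⟨eE_cols, eE_ch, eE_L, eE_H, eE_pb.1, eE_e.get, [(nat_lit 0), (nat_lit 1), (nat_lit 2), (nat_lit 3), (nat_lit 4), (nat_lit 5), (nat_lit 6)], (nat_lit 0), (nat_lit 3), eE_rots, eE_hcs,
    (nat_lit 97), (nat_lit 7), (nat_lit 128), (nat_lit 64), (nat_lit 8192), (nat_lit 8191), (nat_lit 8), (nat_lit 255), (nat_lit 18), (nat_lit 262143), (nat_lit 1), (nat_lit 4),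
    fun _ _ => rfl, fun _ => rfl, fun _ _ => rfl, by decide +kernel, eE_all.1⟩

theorem pE : TE.Pres RE (gensW 3) := ⟨CT.ok_spec TE_ok, lall_iff.1 TE_rel, by decide +kernel,
  by decide +kernel, by decide +kernel, eE.bound (ug_rels _) (bound_nil _)⟩

instance instTE : TE.Grp := pE.grp

noncomputable def RH1 : List (List Nat) := [[(nat_lit 1), (nat_lit 1), (nat_lit 1)],
  [(nat_lit 1), (nat_lit 3), (nat_lit 1), (nat_lit 3), (nat_lit 1), (nat_lit 3)],
  [(nat_lit 3), (nat_lit 3), (nat_lit 3), (nat_lit 3)],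
  [(nat_lit 3), (nat_lit 3), (nat_lit 1), (nat_lit 4), (nat_lit 4), (nat_lit 2)],
  [(nat_lit 3), (nat_lit 3), (nat_lit 6), (nat_lit 6)],
  [(nat_lit 1), (nat_lit 5), (nat_lit 1), (nat_lit 5), (nat_lit 1), (nat_lit 5)],
  [(nat_lit 3), (nat_lit 5), (nat_lit 4), (nat_lit 6)],
  [(nat_lit 3), (nat_lit 1), (nat_lit 5), (nat_lit 2), (nat_lit 4), (nat_lit 1), (nat_lit 6), (nat_lit 2)],
  [(nat_lit 3), (nat_lit 2), (nat_lit 5), (nat_lit 1), (nat_lit 4), (nat_lit 2), (nat_lit 6), (nat_lit 1)],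
  [(nat_lit 7), (nat_lit 1), (nat_lit 8), (nat_lit 1)],
  [(nat_lit 7), (nat_lit 7)],
  [(nat_lit 7), (nat_lit 3), (nat_lit 8), (nat_lit 3)],
  [(nat_lit 7), (nat_lit 5), (nat_lit 8), (nat_lit 5)]]
noncomputable def TH1_c0 : BT (Bx Nat) := (BT.node (nat_lit 1) (BT.leaf (Bx.mk (nat_lit 0x51552a39532d3c4d2130444946232736542b3a502e3d4c2231414a47322837200a0f1d0b101a080d17161514090e111b1e12180c1c1f13190705060304010200))) (BT.node (nat_lit 2) (BT.leaf (Bx.mk (nat_lit 0x846a7d7c7b64936077915d747372908f5b6e6d826b7e6968678a887a639261788e5e755c6f5a59588c8d3e2f3b403f2c434238294b253448243345354f4e2652))) (BT.leaf (Bx.mk (nat_lit 0xbdbcbfbe9b99aaabb3b2a5a4b7b6a7a6afa3ada1b8b99d9cb1b0b5b4aea2aca09f9ea9a8bb9aba988b89878579627671705f5657976696659580947f836c8186)))))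
noncomputable def TH1_c1 : BT (Bx Nat) := (BT.node (nat_lit 1) (BT.leaf (Bx.mk (nat_lit 0x8483103d810f3a7b0e37727774140d316c0b2e6a0a2b6409285b605d32082255061f53051c4d04194449462303130c3c393630072d2a2721111e1b1812000201))) (BT.node (nat_lit 2) (BT.leaf (Bx.mk (nat_lit 0x563b8a887a38af3478ad33755c6f6665358c8d6b2f67403f2ca09f6329a32561a1245e45584f4e269a985420506e6d1d908f4c1a93164a91154773417d7c1786))) (BT.leaf (Bx.mk (nat_lit 0xa5a49b999594a8a9b1b08785bdbc8b89ae79ac76bfbe9796b5b4abaaa2629e71705fbbbab380b27fb8b99d9c924b8e5a59485152b743b642a769a668823e7e57)))))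
noncomputable def TH1_c2 : BT (Bx Nat) := (BT.node (nat_lit 1) (BT.leaf (Bx.mk (nat_lit 0x68823c107e390f7a360e6f787523300d6b2d0b672a0a63270958615e142108541e06501b054c1804414a47321203073d3a3731112e2b28220c1f1c1913010002))) (BT.node (nat_lit 2) (BT.leaf (Bx.mk (nat_lit 0x98814342387bae7734ac74334535a09f7252512f6c2c86846a71702964a260259e5d247326908f5b807f20551d8c8d535a591a4d9249168e46155c178a884469))) (BT.leaf (Bx.mk (nat_lit 0xabaab3b29d9c96978b89a7a69b99b7b679af76ada5a4b8b98785bfbe62a35f6665a19594bd57bc56a9a8bbba4b93484f4e916d6eb17db07cb540b43f3e833b9a)))))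
noncomputable def TH1_c3 : BT (Bx Nat) := (BT.node (nat_lit 1) (BT.leaf (Bx.mk (nat_lit 0x7176807d797f7c731822110f100e12285f69666268655c36130c0a0b09301948524f4b514e452731070506042137383433023229252401231a161500140d0803))) (BT.node (nat_lit 2) (BT.leaf (Bx.mk (nat_lit 0x3db1393c41643e8a983b889a354c403f5b595aa6a4a72b2ea52a2d6f4d2fa0842c9f86267a6e6d4442439694971c1f951b1e587b20908d1d8f8c176357567270))) (BT.leaf (Bx.mk (nat_lit 0xa3a1acae9391928eafad9ea28381827eb6bdb7bc85879d9c6c6a6b67beb5bf5e61b4a8a98b77897455535450bab8bb474ab9464999759b78ab60aa5db2b0b33a)))))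
noncomputable def TH1_c4 : BT (Bx Nat) := (BT.node (nat_lit 1) (BT.leaf (Bx.mk (nat_lit 0x70797f7c76807d11122873100f0d18226268655f69660c30195c0b0a0836134b514e48524f0721374506050327313533343202262425230117151614000e0904))) (BT.node (nat_lit 2) (BT.leaf (Bx.mk (nat_lit 0x3ab03c394c5b3b889a3e8a9838413f40645a59a7a5a62e2ba42d2a7a442c9f862fa084296f6d6e4d43429795961f1c941e1b63721d8f8c20908d1a5856577b71))) (BT.leaf (Bx.mk (nat_lit 0xa1a3aeac91938e92adafa29e81837e82b7bcb6bd87859c9d6a6c676bbfb4be615eb5a9a889748b7753555054bbb9ba4a47b849469b789975aa5dab60b3b1b23d)))))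
noncomputable def TH1_c5 : BT (Bx Nat) := (BT.node (nat_lit 1) (BT.leaf (Bx.mk (nat_lit 0x18731e2b111b2e76716e790d0e10706d5c3c1c0c391f5f5a576208090b5956452d3a072a3d4843404b030406423f3e023234332f0123252420001416150f0a05))) (BT.node (nat_lit 2) (BT.leaf (Bx.mk (nat_lit 0x4e6a6869aaa8388c9f358da03bab3137a930367e55827d7c5351529c99299a8f2698902c9d22289b212767836b6665817f8089851a868817848a1d8b13198712))) (BT.leaf (Bx.mk (nat_lit 0xacaea3a19ea2adaf8e9293919495a7a6b9bfb8be7b727a6fb0b19796bcbbbd7774ba645b635e5861a4a5b3b2b4b7b5605db678754d4944464c47414a506c544f)))))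
noncomputable def TH1_c6 : BT (Bx Nat) := (BT.node (nat_lit 1) (BT.leaf (Bx.mk (nat_lit 0x12111b2e731e2b79706d760e0d0f716e0c391f5c3c1c6259565f09080a5a57072a3d452d3a4b423f4804030543403b320233342c230124251d14001516100b06))) (BT.node (nat_lit 2) (BT.leaf (Bx.mk (nat_lit 0x4f6c6968aba9358da0388c9f3eaa3731a8363082537e7c7d5552519d9b269890299a8f2f9c28229927216b8167656683807f8b8717848a1a8688208919138518))) (BT.leaf (Bx.mk (nat_lit 0xaeaca1a3a29eafad928e91939594a6a7b8beb9bf727b6f7ab1b09697bdbabc7477bb5b645861635ea5a4b2b3b5b6b45d60b7757844464d49414a4c47546a504e)))))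
noncomputable def TH1_c7 : BT (Bx Nat) := (BT.node (nat_lit 1) (BT.leaf (Bx.mk (nat_lit 0x851083820f817e0e7b7a0d797673726f0b6c6b0a6a6709646308625f5c5b58065554055350044d4c034b48454441023e3b3835012f2c292600201d1a17110c07))) (BT.node (nat_lit 2) (BT.leaf (Bx.mk (nat_lit 0xb239b1b0373634afae33adac3231abaa30a9a82e2d2ba7a62aa5a4282725a3a224a19e23229d9c219b991f1e1c97961b9594191816939215918e14138b891287))) (BT.leaf (Bx.mk (nat_lit 0xa09f9a98908f8d8c8a888684807f7d7c7877757471706e6d6968666561605ebfbe5d5a5957bd56bc52514f4e4a4947bbba46b9b843b742b640b53fb43d3c3ab3)))))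
noncomputable def TH1_w : BT (Bx Nat) := (BT.node (nat_lit 1) (BT.leaf (Bx.mk (nat_lit 0x513000762000262000162000752000252000152000742000242000142000732000632000532000332000232000132000761000261000161000751000251000151000741000241000141000731000631000531000331000231000131000076000026000016000075000025000015000074000024000014000073000063000053000033000023000013000072000062000052000042000032000071000061000051000041000031000007000006000005000004000003000002000001000000))) (BT.node (nat_lit 2) (BT.leaf (Bx.mk (nat_lit 0x3252007152004152003152007242007142007632002632001632007532002532001532007332007232006232005232007132006132005132007261007161007251004251003251007151004151003151007241007141007631002631001631007531002531001531007331007231006231005231007131006131005131000726000716000725000425000325000715000415000315000724000714000763000263000163000753000253000153000733000723000623000523000713000613))) (BT.leaf (Bx.mk (nat_lit 0x742531732531716131715131074253073253074153073153072623072523071613071513074252073252074152073152072632071632072532071532076232075232076132075132074251073251074151073151072631071631072531042531032531071531076231075231076131016131075131015131007425007325007415007315007263007163007253004253003253007153004153003153007623002623007523002523007613001613007513001513007262007162007252004252)))))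
noncomputable def TH1_cols : List (BT (Bx Nat)) := [TH1_c0, TH1_c1, TH1_c2, TH1_c3, TH1_c4, TH1_c5, TH1_c6, TH1_c7, TH1_c7]
noncomputable def TH1_ch (x j : Nat) : Bx Nat := chk TH1_cols x j
noncomputable def TH1_wc (_ j : Nat) : Bx Nat := TH1_w.get j
noncomputable def TH1 : CT := ⟨(nat_lit 192), (nat_lit 8), (nat_lit 255), TH1_ch, (nat_lit 24), (nat_lit 16777215), TH1_wc, (nat_lit 510)⟩
theorem TH1_ok : TH1.ok = true := by decide +kernel
theorem TH1_rel : lall TH1.relOK RH1 = true := by decide +kernel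
noncomputable def eH1_c0 : BT (Bx Nat) := (BT.leaf (Bx.mk (nat_lit 0x0)))
noncomputable def eH1_c1 : BT (Bx Nat) := (BT.leaf (Bx.mk (nat_lit 0x1cca638b4af3271e64d24c9638b2a22ea485d51cbb241762f3221e64318bbe2177a832312645305af798f4c16b5e63b98bc03177e53260664ba4bb66976a732b0e655b05a3798c6c167ce5b91cb71798c082ef0c5dd9ccb439702532cca5c0305b949974a3279064eb059379898c163d25ad9cb5a79892aad49a2a9b85b880a88e16de02a1a8ca8516d4e329dc5b4b05837987ec15fd19ac1b3577987882e2d25c4b057b79872e16c2029abcb7970b5d014d1e5bb28b5d60ae08ad9d15b33cc362971a32e3982b63cc3060ad0bbd05f8203cc2d457428168182b23cc2a70b4901499e5b1385a280a4af2d7d62a3305595e4a09c53de613c419b88332c1555e610b0551356de4adb9e60f2ab9140b20c1535e60db859480a2ef2d2dc2c94051679690e31d182a12737e566faf306220c3c418570b0901445e59f3858280a20f2cedc2be4050f79670e15ce20bc441757bc2b01439e5993856d80a18f2cbdc2b5c050b79658e159602853cb2970ab91058620af2cb3380a12f2c8dc2ab4050779640e155202833cb1d70a9d01415e58d38545882951051d82924050479628c1436209ec413a8826f104c5e6044412e88257104a22091385128823f10472208cc411380a02f2c0e208100000)))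
noncomputable def eH1_c2 : BT (Bx Nat) := (BT.leaf (Bx.mk (nat_lit 0x144ac28956512d062599c49e2893a8125da6cc3cd8c79b14812a182539849c20934612e0e25bbcd7a69d60f35dda757184a63094a312e4225d244886890c6130106dfbcd6369d48f3580e233a666669d4491258e24ab84be808b0e12f6022b904aa10952812f106ddbcd4c69d28f352522282664f69d24211b882379c4b2388fc812c5023eb84b680882e12d602203cd3f69d08f34f0c24d9049969d04811112221bcd3969cf8e12bdc23c404357095ae11d6021a3444679a6c61284c25034e73288a631149e69834e6d79a5a9121da242b4e6b388e4711c5e69534e6570946e118602133849f708bd01095223a3cd274092261241a72e1c48128900f3485a72b3cd1e74d1a91239a72a2845b408b4f346da72738493708950105dc247b84478082cc3575e68c4418b88312d391542353846970906e10f60208b847f7087501041c23db84378081ee11c220bcc417650848e10c602073846c7085d01031c2343842b80816e1191c2144040a708b31058a20afb5b157084501025c22ab841f8080ee1145c20e404067089ae10660202b84428829710521c219b841380808f3422209f4413b88271104c9a7094412f88259104a62091b840d8824110476208d441147080501006208180000)))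
noncomputable def eH1_c3 : BT (Bx Nat) := (BT.leaf (Bx.mk (nat_lit 0x287a47a94411eb463d7a87947a924a1e4dea47954b02a95c8527d2a51987847a9047520dea3f9d4b72297c652e08a5ea078648f1081e7903cea876d7a8d6851b1ea34294bf3a96ce1f0203afae7623a96a41ea4ca552878c2e8f0a1e28ba3aa87567a8a8a1d55ea28a94bb52972e1ef203a42e74b70f7501d1d70251c79a3b4ec952710d3ca87ac442c2a1ead10af207b330f62e1ed2039da473e70f6501ce8e39eb474230ecad1cfcd0459079968e786822443cdbd4366a89ab1d0563a02945c3acb451d6d4a53a07a570f5101cb17397b87a680e5691cb963b82474e68e60b1e854d42b472d8834096a1dea139c77b48ede91db98a22a964340e88a525d4a4ab879880e3ab9c81c3cb4071c5c03ee51658a3e3472158f22b1e39a38f441908831af506143b22c75858eaec51cd43b8a4772528ee71e05153f3147a88301105f5ca3a3601940e46f5049ab082c71179e1ed804d8394a946058ed49a99d8a31c4169882cce5174e39bac7147a81ad582d63863cf0a5c262f68694a24ac75358ea0c513220a94414f7288ca1ca1cd193d4086ac0cb1c1de782b612270e70e1ce5c39ab873480e07104cdc3953872670e4b01c0a20923871b70e2ee1c5a0380c41158821d10426208200000)))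
noncomputable def eH1_c4 : BT (Bx Nat) := (BT.leaf (Bx.mk (nat_lit 0x3d7a248d4831abc6356bd79248d28f5e3d2349946ae30d6061a8cc34fbd7824af08f5dfcebc1906b822f7a41adc4bdf2d7885af0c51a74abcf3d76b48cdaf5da12bb62d7c040d6ae1afd91314065f38d6c95ea92bd4a068a1d8ea85e30a9bc3d75448cacf5d45232aad7bc5af74e1aed9125c064870d72c952a0323ad79c28cf2b5e68a33b297ab40cbc95eb123309d7b430d64e1acd161f4063b70d62718f6031d2c64d42eb8b18f0e3449069b48c7e61a2c834cb463958c84a4d016920b1765526b6a49696bd41c6a670d4ec88be0316386a540c5d018acebbdad74558c5aa1a80e343a46308834271a15a31524670348dc619bda3273134462486b5e616bcb386976444101875c34ab251f80c38a5d918339ac61e50d20a1a352310c41918831cd186d632ca645748cb0e5df189b93127172ef4a920109beb977788303105f9eb893dd1344452e19d1e988bd21080c1cd18654311b976350cd2a4d99cbb04416a882cef5c35ae98ae21a70cbaf4c31e905c06094ba6ec1851cba62865250c9ee5d2620a9c41507ae10e1889831c386467a60ef481a030231d2860c64e18d9891a3063570c670180dc313b122560c4ce18920301386186242cc185dc30ac06018821f1042a208280000)))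
noncomputable def eH1_c5 : BT (Bx Nat) := (BT.leaf (Bx.mk (nat_lit 0x158ad2b15e8629104d11899f19346562b8cc583498f493268625104c9209954932c862a111d3949ba23180326e48c5fa897c7b0e6761edec38298b14b1648626111cbb98bd43178962f8aabc155753317666195ec2e29864538bef6165ee31298a54b14c826d104d9b98b541370926d934309e85e4316e625e484bb2584e49294f611531a3a894d51290f6109ee25b4951330dab615524a82494f412d6aa1a574b5289ab33152d24e4f4c699ca07b06c6a638ce50b493c71359024c9649c389aa8126278cdd64bfa1856393069a1f934bea0954550a4ba54d04cea589a692549566c84c83d8274933272645a496b899e81246924a5c4ce4092254650e61a104c22496c4d0ce9a5994c412898049302a262944c33491b4ab0ea2625ec0c2498571316d2479c4c64091459234e26220489ac919630e89247d04963d8125c638c24bd8c3bac97242adee25ea04873490f6aa23105c620b73185d3aa7aa2475ec06a493a7b840c6180eaadad558712c702425a4853550c882b51055d8c232552e63876f60212495b893e63092a551164a0b894c81208d2415aa83c414388280e24fe0481b89337126b104d1c4984090271248e249a2092b892181202e2455c48bc4116882211042e208300000)))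
noncomputable def eH1_c6 : BT (Bx Nat) := (BT.leaf (Bx.mk (nat_lit 0xc8af1915a82289a4521c8a32913e666c08cd7259933911ea6649a44a259964b32a8229d2454148b92117e422e884603d9735b2f8f65c0a43d9c8b2391628225d244c1c8be23376966f4a43a948783b378f65712cb2bd959410c48219148af9c8a63914aa66cd2cda1c8b65336e966d516af1516173370521d8c43cbd9457be8eb65396fa53d94241096b653548a425955432d69214556a7aee50632da821a90434ad9ac31154f64d8f747108a1590725423484502c83f71156c44e20419388a93906f020c4a441a99544b2fea21f5243f34856410a682148a44f2489c7b24ee22650448ac82a491366224164183889d310530208dc44d2882881044721b1444125968510cc9219dccc22ad8155d00822316cc43d9187110aa422d640dadf8741112b2085c4452481a81028e2219888cc08137b224f7c70c417b99745903ea44b1ccbd31071310dce21dde887c080e7a021105ca20b7bd90d6be7482081ccaea5f3d5223ae658d482d24857710c0f442a0404bd00b882b710561ec843882b5207ce65196f972883b73298c410d8820388497a20b02011e8034414488282e20f18419c080372069104d5c416b082481004e409620933881e6102b02005c80b441178822310432208380000)))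
noncomputable def eH1_c7 : BT (Bx Nat) := (BT.leaf (Bx.mk (nat_lit 0x40aa18154102a6e054cc0a918152102a3a0546c0a8b8151302a1e0542c0a8181501029fa053ec0a79814f1029da053ac0a72814e3029be053740a6a814d30299e053340a62814c30297e20e0441bf814bd0296e052d40a588837d0295e20dec0a53814a5029420527c0a4b814950292220de441bb8148f106ea20dcc0a44883710290e20dbc0a418836d0290220dac0a3e8147b028ee20da441b381475106ca20d8c0a388146f028d620d8441af81469106ba20d6c0a3381465106b220d5c0a3188355106a60517c0a2e81459106a220d3c0a2b8834d106960514c0a288144d1069220d1c0a25883451067e051240a238833d1067605114419c8833502882050fc0a1d883311065e050e441968832b0286a050cc0a17883291064e050b441928831f02856050a4418c883150284e20c444186814231061220c1c0a1088305105fe0507c417c882f70283a20bd44177882e9105ce20b840a0c882db105b20505c416b882d10282a20b2c4164814131058e20b04415d882b9105660503c4156882ab0281a20aa441518140b1053a20a6c0a04882991052620a344145882850280e209fc413c88273104da0501441308825b104aa2093c0a01882431047a208dc41188822510436208400000)))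
noncomputable def eH1_p : BT (Bx Nat) := (BT.leaf (Bx.mk (nat_lit 0x1a847d403e9b1f4c8f6447b203d8e1ec68f62c7b123d871ec28f6047b003d7e1ebe8f5e47af03d761eba8f5c87ae23d6f1eb70f5a87ad23d671eb30f5887ac23d5f1eaf8957c3abc3d5b1ead0f5607ab00d571eab8314c78a43c501e278f12c78943c481e2409120388e3c47122387110788814431e218510478820c401e20030f8787a3c3b1e1d890ec38743c3a121d070e0786e3c351e1a850d418683c340a1a030cc78643c321a190b0c47862343116178f0b878583c2c1216070ac7856242b0e148f0a0784c3c260a1303094784a142506120f08c7846342316110f08868442b201d8f8ec74763a231d0d8e0ec7046381b1a1d8c8ec5c762e1317058b0ec58262c0b151d8a0ec5066282b131d898cc4c56223b11098882c407620131005878ec3c261e0b0e1d870cc38561c1b0e098702c307618130c05858ec2c26160b0a1d8504c2816123b0919848ac243612130905038e81c240e0a061d0304818140a3a050902828107408320415020681024080a031d018c80c540622030d010e80864042a0211010640472023101148088404320211010400000000)))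
noncomputable def eH1_e : BT Nat := BT.leaf (nat_lit 0)
noncomputable def eH1_cols : List (BT (Bx Nat)) := [eH1_c0, eH1_c1, eH1_c2, eH1_c3, eH1_c4, eH1_c5, eH1_c6, eH1_c7]
noncomputable def eH1_ch (x j : Nat) : Bx Nat := chunkG eH1_cols (nat_lit 1) x j
noncomputable def eH1_L (x : Nat) : Bx (Nat → Nat) := lookG eH1_ch (nat_lit 8) (nat_lit 255) (nat_lit 19) (nat_lit 524287) x
noncomputable def eH1_pc (_ j : Nat) : Bx Nat := eH1_p.get j
noncomputable def eH1_pb : Bx (Nat → Nat) := lookG eH1_pc (nat_lit 8) (nat_lit 255) (nat_lit 17) (nat_lit 131071) (nat_lit 0)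
noncomputable def eH1_rots : BT CW := (BT.node (nat_lit 26) (BT.node (nat_lit 13) (BT.node (nat_lit 6) (BT.node (nat_lit 3) (BT.node (nat_lit 1) (BT.leaf ⟨[], (nat_lit 1000000), (nat_lit 0), (nat_lit 0), (nat_lit 0)⟩) (BT.node (nat_lit 2) (BT.leaf ⟨[], (nat_lit 1000000), (nat_lit 0), (nat_lit 0), (nat_lit 1)⟩) (BT.leaf ⟨[], (nat_lit 1000000), (nat_lit 0), (nat_lit 0), (nat_lit 2)⟩))) (BT.node (nat_lit 4) (BT.leaf ⟨[(nat_lit 2), (nat_lit 1)], (nat_lit 16), (nat_lit 1), (nat_lit 0), (nat_lit 3)⟩) (BT.node (nat_lit 5) (BT.leaf ⟨[(nat_lit 1), (nat_lit 2)], (nat_lit 16), (nat_lit 0), (nat_lit 0), (nat_lit 3)⟩) (BT.leaf ⟨[(nat_lit 4), (nat_lit 3)], (nat_lit 15), (nat_lit 1), (nat_lit 0), (nat_lit 3)⟩)))) (BT.node (nat_lit 9) (BT.node (nat_lit 7) (BT.leaf ⟨[(nat_lit 3), (nat_lit 4)], (nat_lit 15), (nat_lit 0), (nat_lit 0), (nat_lit 3)⟩) (BT.node (nat_lit 8) (BT.leaf ⟨[(nat_lit 6), (nat_lit 5)], (nat_lit 14), (nat_lit 1), (nat_lit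 0), (nat_lit 3)⟩) (BT.leaf ⟨[(nat_lit 5), (nat_lit 6)], (nat_lit 14), (nat_lit 0), (nat_lit 0), (nat_lit 3)⟩))) (BT.node (nat_lit 11) (BT.node (nat_lit 10) (BT.leaf ⟨[(nat_lit 7), (nat_lit 7)], (nat_lit 10), (nat_lit 0), (nat_lit 0), (nat_lit 3)⟩) (BT.leaf ⟨[(nat_lit 1), (nat_lit 1), (nat_lit 1)], (nat_lit 0), (nat_lit 0), (nat_lit 0), (nat_lit 3)⟩)) (BT.node (nat_lit 12) (BT.leaf ⟨[(nat_lit 1), (nat_lit 7), (nat_lit 1), (nat_lit 7)], (nat_lit 9), (nat_lit 1), (nat_lit 0), (nat_lit 3)⟩) (BT.leaf ⟨[(nat_lit 2), (nat_lit 7), (nat_lit 2), (nat_lit 7)], (nat_lit 26), (nat_lit 0), (nat_lit 0), (nat_lit 3)⟩))))) (BT.node (nat_lit 19) (BT.node (nat_lit 16) (BT.node (nat_lit 14) (BT.leaf ⟨[(nat_lit 2), (nat_lit 2), (nat_lit 2)], (nat_lit 17), (nat_lit 0), (nat_lit 0), (nat_lit 3)⟩) (BT.node (nat_lit 15) (BT.leaf ⟨[(nat_lit 3), (nat_lit 3), (nat_lit 3), (nat_lit 3)], (nat_lit 2), (nat_lit 0), (nat_lit 0), (nat_lit 3)⟩) (BT.leaf ⟨[(nat_lit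 6), (nat_lit 6), (nat_lit 3), (nat_lit 3)], (nat_lit 4), (nat_lit 2), (nat_lit 0), (nat_lit 3)⟩))) (BT.node (nat_lit 17) (BT.leaf ⟨[(nat_lit 6), (nat_lit 3), (nat_lit 3), (nat_lit 6)], (nat_lit 4), (nat_lit 3), (nat_lit 0), (nat_lit 3)⟩) (BT.node (nat_lit 18) (BT.leaf ⟨[(nat_lit 4), (nat_lit 6), (nat_lit 3), (nat_lit 5)], (nat_lit 6), (nat_lit 2), (nat_lit 0), (nat_lit 3)⟩) (BT.leaf ⟨[(nat_lit 4), (nat_lit 5), (nat_lit 3), (nat_lit 6)], (nat_lit 23), (nat_lit 3), (nat_lit 0), (nat_lit 3)⟩)))) (BT.node (nat_lit 22) (BT.node (nat_lit 20) (BT.leaf ⟨[(nat_lit 3), (nat_lit 7), (nat_lit 3), (nat_lit 7)], (nat_lit 11), (nat_lit 1), (nat_lit 0), (nat_lit 3)⟩) (BT.node (nat_lit 21) (BT.leaf ⟨[(nat_lit 5), (nat_lit 5), (nat_lit 4), (nat_lit 4)], (nat_lit 21), (nat_lit 0), (nat_lit 0), (nat_lit 3)⟩) (BT.leaf ⟨[(nat_lit 3), (nat_lit 6), (nat_lit 4), (nat_lit 5)], (nat_lit 23), (nat_lit 1), (nat_lit 0), (nat_lit 3)⟩))) (BT.node (nat_lit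 24) (BT.node (nat_lit 23) (BT.leaf ⟨[(nat_lit 4), (nat_lit 7), (nat_lit 4), (nat_lit 7)], (nat_lit 28), (nat_lit 0), (nat_lit 0), (nat_lit 3)⟩) (BT.leaf ⟨[(nat_lit 5), (nat_lit 7), (nat_lit 5), (nat_lit 7)], (nat_lit 12), (nat_lit 1), (nat_lit 0), (nat_lit 3)⟩)) (BT.node (nat_lit 25) (BT.leaf ⟨[(nat_lit 6), (nat_lit 7), (nat_lit 6), (nat_lit 7)], (nat_lit 29), (nat_lit 0), (nat_lit 0), (nat_lit 3)⟩) (BT.leaf ⟨[(nat_lit 3), (nat_lit 1), (nat_lit 3), (nat_lit 1), (nat_lit 3), (nat_lit 1)], (nat_lit 1), (nat_lit 1), (nat_lit 0), (nat_lit 3)⟩)))))) (BT.node (nat_lit 39) (BT.node (nat_lit 32) (BT.node (nat_lit 29) (BT.node (nat_lit 27) (BT.leaf ⟨[(nat_lit 2), (nat_lit 3), (nat_lit 3), (nat_lit 1), (nat_lit 4), (nat_lit 4)], (nat_lit 3), (nat_lit 5), (nat_lit 0), (nat_lit 3)⟩) (BT.node (nat_lit 28) (BT.leaf ⟨[(nat_lit 5), (nat_lit 1), (nat_lit 5), (nat_lit 1), (nat_lit 5), (nat_lit 1)], (nat_lit 5), (nat_lit 1), (nat_lit 0), (nat_lit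 3)⟩) (BT.leaf ⟨[(nat_lit 4), (nat_lit 2), (nat_lit 4), (nat_lit 2), (nat_lit 4), (nat_lit 2)], (nat_lit 18), (nat_lit 0), (nat_lit 0), (nat_lit 3)⟩))) (BT.node (nat_lit 30) (BT.leaf ⟨[(nat_lit 1), (nat_lit 4), (nat_lit 4), (nat_lit 2), (nat_lit 3), (nat_lit 3)], (nat_lit 3), (nat_lit 2), (nat_lit 0), (nat_lit 3)⟩) (BT.node (nat_lit 31) (BT.leaf ⟨[(nat_lit 6), (nat_lit 2), (nat_lit 6), (nat_lit 2), (nat_lit 6), (nat_lit 2)], (nat_lit 22), (nat_lit 0), (nat_lit 0), (nat_lit 3)⟩) (BT.leaf ⟨[(nat_lit 3), (nat_lit 2), (nat_lit 4), (nat_lit 4), (nat_lit 1), (nat_lit 3)], (nat_lit 20), (nat_lit 2), (nat_lit 0), (nat_lit 3)⟩)))) (BT.node (nat_lit 35) (BT.node (nat_lit 33) (BT.leaf ⟨[(nat_lit 3), (nat_lit 3), (nat_lit 1), (nat_lit 4), (nat_lit 4), (nat_lit 2)], (nat_lit 3), (nat_lit 0), (nat_lit 0), (nat_lit 3)⟩) (BT.node (nat_lit 34) (BT.leaf ⟨[(nat_lit 4), (nat_lit 1), (nat_lit 3), (nat_lit 3), (nat_lit 2), (nat_lit 4)], (nat_lit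 20), (nat_lit 5), (nat_lit 0), (nat_lit 3)⟩) (BT.leaf ⟨[(nat_lit 5), (nat_lit 4), (nat_lit 4), (nat_lit 5)], (nat_lit 21), (nat_lit 1), (nat_lit 0), (nat_lit 3)⟩))) (BT.node (nat_lit 37) (BT.node (nat_lit 36) (BT.leaf ⟨[(nat_lit 4), (nat_lit 4), (nat_lit 5), (nat_lit 5)], (nat_lit 21), (nat_lit 2), (nat_lit 0), (nat_lit 3)⟩) (BT.leaf ⟨[(nat_lit 4), (nat_lit 2), (nat_lit 3), (nat_lit 3), (nat_lit 1), (nat_lit 4)], (nat_lit 3), (nat_lit 4), (nat_lit 0), (nat_lit 3)⟩)) (BT.node (nat_lit 38) (BT.leaf ⟨[(nat_lit 2), (nat_lit 4), (nat_lit 2), (nat_lit 4), (nat_lit 2), (nat_lit 4)], (nat_lit 18), (nat_lit 1), (nat_lit 0), (nat_lit 3)⟩) (BT.leaf ⟨[(nat_lit 3), (nat_lit 1), (nat_lit 4), (nat_lit 4), (nat_lit 2), (nat_lit 3)], (nat_lit 3), (nat_lit 1), (nat_lit 0), (nat_lit 3)⟩))))) (BT.node (nat_lit 45) (BT.node (nat_lit 42) (BT.node (nat_lit 40) (BT.leaf ⟨[(nat_lit 5), (nat_lit 3), (nat_lit 6), (nat_lit 4)], (nat_lit 23), (nat_lit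 0), (nat_lit 0), (nat_lit 3)⟩) (BT.node (nat_lit 41) (BT.leaf ⟨[(nat_lit 5), (nat_lit 4), (nat_lit 6), (nat_lit 3)], (nat_lit 6), (nat_lit 1), (nat_lit 0), (nat_lit 3)⟩) (BT.leaf ⟨[(nat_lit 3), (nat_lit 3), (nat_lit 6), (nat_lit 6)], (nat_lit 4), (nat_lit 0), (nat_lit 0), (nat_lit 3)⟩))) (BT.node (nat_lit 43) (BT.leaf ⟨[(nat_lit 1), (nat_lit 3), (nat_lit 1), (nat_lit 3), (nat_lit 1), (nat_lit 3)], (nat_lit 1), (nat_lit 0), (nat_lit 0), (nat_lit 3)⟩) (BT.node (nat_lit 44) (BT.leaf ⟨[(nat_lit 4), (nat_lit 5), (nat_lit 5), (nat_lit 4)], (nat_lit 21), (nat_lit 3), (nat_lit 0), (nat_lit 3)⟩) (BT.leaf ⟨[(nat_lit 6), (nat_lit 3), (nat_lit 5), (nat_lit 4)], (nat_lit 6), (nat_lit 3), (nat_lit 0), (nat_lit 3)⟩)))) (BT.node (nat_lit 48) (BT.node (nat_lit 46) (BT.leaf ⟨[(nat_lit 6), (nat_lit 4), (nat_lit 5), (nat_lit 3)], (nat_lit 23), (nat_lit 2), (nat_lit 0), (nat_lit 3)⟩) (BT.node (nat_lit 47) (BT.leaf ⟨[(nat_lit 1), (nat_lit 6),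 (nat_lit 2), (nat_lit 3), (nat_lit 1), (nat_lit 5), (nat_lit 2), (nat_lit 4)], (nat_lit 7), (nat_lit 5), (nat_lit 0), (nat_lit 3)⟩) (BT.leaf ⟨[(nat_lit 1), (nat_lit 6), (nat_lit 2), (nat_lit 4), (nat_lit 1), (nat_lit 5), (nat_lit 2), (nat_lit 3)], (nat_lit 24), (nat_lit 4), (nat_lit 0), (nat_lit 3)⟩))) (BT.node (nat_lit 50) (BT.node (nat_lit 49) (BT.leaf ⟨[(nat_lit 1), (nat_lit 3), (nat_lit 2), (nat_lit 5), (nat_lit 1), (nat_lit 4), (nat_lit 2), (nat_lit 6)], (nat_lit 8), (nat_lit 7), (nat_lit 0), (nat_lit 3)⟩) (BT.leaf ⟨[(nat_lit 1), (nat_lit 4), (nat_lit 2), (nat_lit 5), (nat_lit 1), (nat_lit 3), (nat_lit 2), (nat_lit 6)], (nat_lit 25), (nat_lit 6), (nat_lit 0), (nat_lit 3)⟩)) (BT.node (nat_lit 51) (BT.leaf ⟨[(nat_lit 1), (nat_lit 5), (nat_lit 1), (nat_lit 5), (nat_lit 1), (nat_lit 5)], (nat_lit 5), (nat_lit 0), (nat_lit 0), (nat_lit 3)⟩) (BT.leaf ⟨[(nat_lit 3), (nat_lit 5), (nat_lit 4), (nat_lit 6)], (nat_lit 6), (nat_lit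 0), (nat_lit 0), (nat_lit 3)⟩)))))))
noncomputable def eH1_hcs : List CW := []
noncomputable def eH1_H (x j : Nat) : Bx (Nat → Nat → Nat) := mkH eH1_L eH1_pb.1 eH1_e.get (lmap CW.w eH1_hcs) (nat_lit 192) (nat_lit 193) (nat_lit 8) (nat_lit 256) (nat_lit 16384) (nat_lit 16383) x (eH1_rots.get j)
noncomputable def eH1_F (x b : Nat) : Bool := blkOK eH1_H eH1_ch (nat_lit 193) (nat_lit 256) (nat_lit 64) (nat_lit 8) (nat_lit 255) (nat_lit 19) (nat_lit 524287) x b

theorem eH1_k0_0 : allFrom (eH1_F (nat_lit 0)) (nat_lit 0) (nat_lit 4) = true := by decide +kernel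
theorem eH1_k1_0 : allFrom (eH1_F (nat_lit 1)) (nat_lit 0) (nat_lit 4) = true := by decide +kernel
theorem eH1_k2_0 : allFrom (eH1_F (nat_lit 2)) (nat_lit 0) (nat_lit 4) = true := by decide +kernel
theorem eH1_k3_0 : allFrom (eH1_F (nat_lit 3)) (nat_lit 0) (nat_lit 4) = true := by decide +kernel
theorem eH1_k4_0 : allFrom (eH1_F (nat_lit 4)) (nat_lit 0) (nat_lit 4) = true := by decide +kernel
theorem eH1_k5_0 : allFrom (eH1_F (nat_lit 5)) (nat_lit 0) (nat_lit 4) = true := by decide +kernel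
theorem eH1_k6_0 : allFrom (eH1_F (nat_lit 6)) (nat_lit 0) (nat_lit 4) = true := by decide +kernel
theorem eH1_k7_0 : allFrom (eH1_F (nat_lit 7)) (nat_lit 0) (nat_lit 4) = true := by decide +kernel

theorem eH1_all : Cov eH1_F 4 8 0 := by
  have h := Cov.zero eH1_F 4
  have h := h.blk (b := 4) eH1_k0_0 rfl
  have h := h.next (y := 1) rfl rfl
  have h := h.blk (b := 4) eH1_k1_0 rfl
  have h := h.next (y := 2) rfl rfl
  have h := h.blk (b := 4) eH1_k2_0 rfl
  have h := h.next (y := 3) rfl rfl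
  have h := h.blk (b := 4) eH1_k3_0 rfl
  have h := h.next (y := 4) rfl rfl
  have h := h.blk (b := 4) eH1_k4_0 rfl
  have h := h.next (y := 5) rfl rfl
  have h := h.blk (b := 4) eH1_k5_0 rfl
  have h := h.next (y := 6) rfl rfl
  have h := h.blk (b := 4) eH1_k6_0 rfl
  have h := h.next (y := 7) rfl rfl
  have h := h.blk (b := 4) eH1_k7_0 rfl
  have h := h.next (y := 8) rfl rfl
  exact h

theorem eH1 : Enum RH1 [] (gensW 4) 192 :=
  ⟨eH1_cols, eH1_ch, eH1_L, eH1_H, eH1_pb.1, eH1_e.get, [(nat_lit 0), (nat_lit 1), (nat_lit 2), (nat_lit 3), (nat_lit 4), (nat_lit 5), (nat_lit 6), (nat_lit 7)], (nat_lit 8), (nat_lit 4), eH1_rots, eH1_hcs,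
    (nat_lit 193), (nat_lit 8), (nat_lit 256), (nat_lit 64), (nat_lit 16384), (nat_lit 16383), (nat_lit 8), (nat_lit 255), (nat_lit 19), (nat_lit 524287), (nat_lit 1), (nat_lit 4),
    fun _ _ => rfl, fun _ => rfl, fun _ _ => rfl, by decide +kernel, eH1_all.1⟩

theorem pH1 : TH1.Pres RH1 (gensW 4) := ⟨CT.ok_spec TH1_ok, lall_iff.1 TH1_rel, by decide +kernel,
  by decide +kernel, by decide +kernel, eH1.bound (ug_rels _) (bound_nil _)⟩

instance instTH1 : TH1.Grp := pH1.grp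

noncomputable def RH2 : List (List Nat) := [[(nat_lit 1), (nat_lit 1), (nat_lit 1)],
  [(nat_lit 1), (nat_lit 3), (nat_lit 1), (nat_lit 3), (nat_lit 1), (nat_lit 3)],
  [(nat_lit 3), (nat_lit 3), (nat_lit 3), (nat_lit 3)],
  [(nat_lit 3), (nat_lit 3), (nat_lit 1), (nat_lit 4), (nat_lit 4), (nat_lit 2)],
  [(nat_lit 3), (nat_lit 3), (nat_lit 6), (nat_lit 6)],
  [(nat_lit 1), (nat_lit 5), (nat_lit 1), (nat_lit 5), (nat_lit 1), (nat_lit 5)],
  [(nat_lit 3), (nat_lit 5), (nat_lit 4), (nat_lit 6)],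
  [(nat_lit 3), (nat_lit 1), (nat_lit 5), (nat_lit 2), (nat_lit 4), (nat_lit 1), (nat_lit 6), (nat_lit 2)],
  [(nat_lit 3), (nat_lit 2), (nat_lit 5), (nat_lit 1), (nat_lit 4), (nat_lit 2), (nat_lit 6), (nat_lit 1)],
  [(nat_lit 7), (nat_lit 1), (nat_lit 8), (nat_lit 1)],
  [(nat_lit 7), (nat_lit 7)],
  [(nat_lit 7), (nat_lit 3), (nat_lit 8), (nat_lit 5)],
  [(nat_lit 7), (nat_lit 5), (nat_lit 8), (nat_lit 3)]]
noncomputable def TH2_c0 : BT (Bx Nat) := (BT.node (nat_lit 1) (BT.leaf (Bx.mk (nat_lit 0x514d2a39442d3c5521305349462327364c2b3a412e3d542231504a473228371a0a0f170b1020080d1d161514090e111b1e12180c1c1f13190705060304010200))) (BT.node (nat_lit 2) (BT.leaf (Bx.mk (nat_lit 0x845b7d7c836c936077915d747381908f6a6e6d7a636f6968588a88826b9261788e5e755c7e5a59678c8d382935403f2643423e2f4b2534482433453b4f4e2c52))) (BT.leaf (Bx.mk (nat_lit 0xbfbebdbca5a4b2b3abaa9b99b8b99d9cafa3ada1b7b6a7a6a9a8bbbaaea2aca09f9eb1b0b59ab4989796959479627671705f56578b6689658780857f7b647286)))))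
noncomputable def TH2_c1 : BT (Bx Nat) := (BT.node (nat_lit 1) (BT.leaf (Bx.mk (nat_lit 0x8483103d810f3a7b0e37727774140d316c0b2e6a0a2b6409285b605d32082255061f53051c4d04194449462303130c3c393630072d2a2721111e1b1812000201))) (BT.node (nat_lit 2) (BT.leaf (Bx.mk (nat_lit 0x563b8a887a38af3478ad33755c6f6665358c8d6b2f67403f2ca09f6329a32561a1245e45584f4e269a985420506e6d1d908f4c1a93164a91154773417d7c1786))) (BT.leaf (Bx.mk (nat_lit 0xa5a49b999594a8a9b1b08785bdbc8b89ae79ac76bfbe9796b5b4abaaa2629e71705fbbbab380b27fb8b99d9c924b8e5a59485152b743b642a769a668823e7e57)))))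
noncomputable def TH2_c2 : BT (Bx Nat) := (BT.node (nat_lit 1) (BT.leaf (Bx.mk (nat_lit 0x68823c107e390f7a360e6f787523300d6b2d0b672a0a63270958615e142108541e06501b054c1804414a47321203073d3a3731112e2b28220c1f1c1913010002))) (BT.node (nat_lit 2) (BT.leaf (Bx.mk (nat_lit 0x98814342387bae7734ac74334535a09f7252512f6c2c86846a71702964a260259e5d247326908f5b807f20551d8c8d535a591a4d9249168e46155c178a884469))) (BT.leaf (Bx.mk (nat_lit 0xabaab3b29d9c96978b89a7a69b99b7b679af76ada5a4b8b98785bfbe62a35f6665a19594bd57bc56a9a8bbba4b93484f4e916d6eb17db07cb540b43f3e833b9a)))))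
noncomputable def TH2_c3 : BT (Bx Nat) := (BT.node (nat_lit 1) (BT.leaf (Bx.mk (nat_lit 0x7173807d117f7c761822790f100e12285c69660c68655f3613620a0b09301945524f07514e4827314b05060421373e343302322f2524012320161500140d0803))) (BT.node (nat_lit 2) (BT.leaf (Bx.mk (nat_lit 0x3d6a393caaa8388a9835889a3bab403fa9595a7e55822b2e532a2d9c9929a084269f862c9d6e6d9b424367836b1c1f811b1e89851a908d178f8c1d8b57568770))) (BT.leaf (Bx.mk (nat_lit 0xacaea3a19ea2adaf8e9293919495a7a6b9bfb8be7b727a6fb0b19796bcbbbd5e61ba645b63775874a4a5b3b2b4b7b5474ab646494d7544784c60415d506c543a)))))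
noncomputable def TH2_c4 : BT (Bx Nat) := (BT.node (nat_lit 1) (BT.leaf (Bx.mk (nat_lit 0x70117f7c73807d79122876100f0d18220c68655c69666230195f0b0a08361307514e45524f4b21374806050327313b333432022c242523011d151614000e0904))) (BT.node (nat_lit 2) (BT.leaf (Bx.mk (nat_lit 0x3a6c3c39aba935889a388a983eaa3f40a85a5982537e2e2b552d2a9d9b269f8629a0842f9c6d6e9943426b81671f1c831e1b8b87178f8c1a908d208956578571))) (BT.leaf (Bx.mk (nat_lit 0xaeaca1a3a29eafad928e91939594a6a7b8beb9bf727b6f7ab1b09697bdbabc615ebb5b6458746377a5a4b2b3b5b6b44a47b7494644784d75415d4c60546a503d)))))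
noncomputable def TH2_c5 : BT (Bx Nat) := (BT.node (nat_lit 1) (BT.leaf (Bx.mk (nat_lit 0x18761e2b791b2e73716e110d0e10706d5f3c1c62391f5c5a570c08090b5956482d3a4b2a3d45434007030406423f380232343329012325241a001416150f0a05))) (BT.node (nat_lit 2) (BT.leaf (Bx.mk (nat_lit 0x4eb1686941643e8c9f3b8da0354c31375b3036a6a4a77d7ca551526f4d2f9a8f2c9890267a22284421279694976665957f80587b2086881d848a176313197212))) (BT.leaf (Bx.mk (nat_lit 0xa3a1acae9391928eafad9ea28381827eb6bdb7bc85879d9c6c6a6b67beb5bf7774b4a8a98b5e896155535450bab8bb605db9787599499b46ab47aa4ab2b0b34f)))))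
noncomputable def TH2_c6 : BT (Bx Nat) := (BT.node (nat_lit 1) (BT.leaf (Bx.mk (nat_lit 0x12791b2e761e2b11706d730e0d0f716e62391f5f3c1c0c59565c09080a5a574b2a3d482d3a07423f450403054340353202333426230124251714001516100b06))) (BT.node (nat_lit 2) (BT.leaf (Bx.mk (nat_lit 0x4fb069684c5b3b8da03e8c9f38413731643630a7a5a67c7da452517a442c98902f9a8f296f28224d2721979596656694807f63721d848a2086881a5819137b18))) (BT.leaf (Bx.mk (nat_lit 0xa1a3aeac91938e92adafa29e81837e82b7bcb6bd87859c9d6a6c676bbfb4be7477b5a9a889618b5e53555054bbb9ba5d60b875789b469949aa4aab47b3b1b24e)))))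
noncomputable def TH2_c7 : BT (Bx Nat) := (BT.node (nat_lit 1) (BT.leaf (Bx.mk (nat_lit 0x851083820f817e0e7b7a0d797673726f0b6c6b0a6a6709646308625f5c5b58065554055350044d4c034b48454441023e3b3835012f2c292600201d1a17110c07))) (BT.node (nat_lit 2) (BT.leaf (Bx.mk (nat_lit 0xb239b1b0373634afae33adac3231abaa30a9a82e2d2ba7a62aa5a4282725a3a224a19e23229d9c219b991f1e1c97961b9594191816939215918e14138b891287))) (BT.leaf (Bx.mk (nat_lit 0xa09f9a98908f8d8c8a888684807f7d7c7877757471706e6d6968666561605ebfbe5d5a5957bd56bc52514f4e4a4947bbba46b9b843b742b640b53fb43d3c3ab3)))))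
noncomputable def TH2_w : BT (Bx Nat) := (BT.node (nat_lit 1) (BT.leaf (Bx.mk (nat_lit 0x513000762000262000162000752000252000152000742000242000142000732000632000532000332000232000132000761000261000161000751000251000151000741000241000141000731000631000531000331000231000131000076000026000016000075000025000015000074000024000014000073000063000053000033000023000013000072000062000052000042000032000071000061000051000041000031000007000006000005000004000003000002000001000000))) (BT.node (nat_lit 2) (BT.leaf (Bx.mk (nat_lit 0x3252007152004152003152007242007142007632002632001632007532002532001532007332007232006232005232007132006132005132007261007161007251004251003251007151004151003151007241007141007631002631001631007531002531001531007331007231006231005231007131006131005131000726000716000725000425000325000715000415000315000724000714000763000263000163000753000253000153000733000723000623000523000713000613))) (BT.leaf (Bx.mk (nat_lit 0x742531732531716131715131074253073253074153073153072623072523071613071513074252073252074152073152072632071632072532071532076232075232076132075132074251073251074151073151072631071631072531042531032531071531076231075231076131016131075131015131007425007325007415007315007263007163007253004253003253007153004153003153007623002623007523002523007613001613007513001513007262007162007252004252)))))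
noncomputable def TH2_cols : List (BT (Bx Nat)) := [TH2_c0, TH2_c1, TH2_c2, TH2_c3, TH2_c4, TH2_c5, TH2_c6, TH2_c7, TH2_c7]
noncomputable def TH2_ch (x j : Nat) : Bx Nat := chk TH2_cols x j
noncomputable def TH2_wc (_ j : Nat) : Bx Nat := TH2_w.get j
noncomputable def TH2 : CT := ⟨(nat_lit 192), (nat_lit 8), (nat_lit 255), TH2_ch, (nat_lit 24), (nat_lit 16777215), TH2_wc, (nat_lit 510)⟩
theorem TH2_ok : TH2.ok = true := by decide +kernel
theorem TH2_rel : lall TH2.relOK RH2 = true := by decide +kernel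
noncomputable def eH2_c0 : BT (Bx Nat) := (BT.leaf (Bx.mk (nat_lit 0x0)))
noncomputable def eH2_c1 : BT (Bx Nat) := (BT.leaf (Bx.mk (nat_lit 0x24ca648b4b13272264d2cc9648b2a42ea4c5d524bb23976313222264320bbe3177aa32310645385af898f4e16b6263ba0bc03177e73260a64ba0bb67976a932b0e655b85a3898c6e167d25b91cb71898c0a2ef105dda4cb449702732cce5c0385b959974c3279464eb859389898e163d65ada4b5a89892cb549e2a9c05b890a89016de42a1a4ca8496d50329e05b4b85838987ee15fd5aac2355789878a2e2d05c4b857b89873016c2429ac4b7980b5d214d225bb30b5d70ae0ab59d16b344c363971a52e39c2b644c3070ad0ac506392044c2d55b42a1681c2b244c2a80b492149a25b1405a290a4b12d7da2a3385596e8a0bcd3e2613cc19b98332e15562610b855145ade6b5ba260f32d9150b20e1536260dc059490a2f12d2e02c94851689691031d1c2a12f57e4eafb1306260c3cc18580b0921446259f4058290a2112cee02be4850f89671015ce60bc4c1758bc2b2143a25994056d90a1912cbe02b5c850b8965901596428544b2980ab93058660af34b3390a1312c8e02ab485078964101552428344b1d80a9d21416258d40545982953051dc2924850489628e1436609ecc13a9826f304c626044c12e98257304a26091405129823f30472608ccc11390a0312c0e608100000)))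
noncomputable def eH2_c2 : BT (Bx Nat) := (BT.leaf (Bx.mk (nat_lit 0x1c4ac28956712d0a259a449e3893aa125de6cc44d8c89b14712a1c253a049c30934812e0c25bc4d7a79d61135dde757204a63094a512e4625d204887890c8130146dfc4d6379d49135812233ae76679d44b1259224ac04be908b1012f6422b984aa20952a12f146ddc4d4c79d291352562282e74f79d24411b8c237a44b2488fc712c4e23ec04b690883012d6422044d3f79d09134f1024d9849979d04a11110221c4d3979cf9012be023c484358095b011d6421a3c44689a6c81284c2503ce73388a65114a26983ce6d89a5a8121de242bce6b488e4711c626953ce65809470118642134049f808bd21095623a44d275092281241e72e244813890113485e72b44d1e84f1ab1239e72a3045b508b51346de72740493808952105e0247c04479082ce3576268c4c18b98312f391522354046980907010f64208c047f8087521042023dc04379081f011c260bccc17660849010c642074046c8085d2103202344042b908170119202144840a808b33058a60afbdb158084521026022ac041f9080f01146020e484068089b010664202c044298297305220219c04139080913422609f4c13b98271304c9e7094c12f98259304a66091c040d9824130476608d4c1148080521006608180000)))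
noncomputable def eH2_c3 : BT (Bx Nat) := (BT.leaf (Bx.mk (nat_lit 0x1d8ad2b15ea629143d11479f10f46762b8ac583c78f58f267625143c92879558f2ca62a15653907ba2318021ee4cc5fb077c8b0e6961ee2c38318b15b164a6261564bc18bd53178b62fa43afb68622b176861962c2e318642ecf116164fb3ab18a55b14ca1ed143d9c18b550f70862da43a43684b5316f21d1db0252d84e4b4ed16114ed3cac74d3c4c316108f12f3c751430dad6156439dac73e50ed721ce9239eb07ab43152f1ce4d045907998b06c6822443cdbc73c80f58d1d05a3a0407aa4acb471d6da3bfa985648f0721cb1b417a875490e56b1cb943cead89a78e54d1e858d42c58279834086a1de396c079e58edeb1dba03ce3164350e89061a143c22c76c90e3ada0818c414871c6c03ec1e2983c33c71b68f22d1e3a2c0c4c1909831af1c7a03c63475868eaf01e2123b8ac772730e891e0555bf4581298301305f5cc3bbe01950e4701de9eb083471189e1ef804dc394b985d68ed4bad9e2c06cc169982cce6181239bb471480ec6f582da38644f0a6c46316869cc233475368ea11602260a94c14f73092c1ca20d194074c7ac0cd1c1e2782be22280e7101cfe039ac073490e07304ce03984072680e4b21c0a60924072180e2f01c5a4380cc1159821d30426608200000)))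
noncomputable def eH2_c4 : BT (Bx Nat) := (BT.leaf (Bx.mk (nat_lit 0xc6af28d5aa1a89e352246a320d3e566c06cd72d99348d1e71a49e34a2d9965b32aa1a9d6354106b920d7e61ae8c360459736b2f9165c0e33da46b248d62a1a5d634c246be1b376b66f5d1b14865f33379165716cb2c59591dceaa1990a9bc246a648d4ac66cd6cda186b66336eb66d5d1a5c864883370e992a4323c594528cf2d6538a33b4594238cbcd65356330ad955532d6b1945571f4863b732da918f6431d359ac40d55164d8c3449069b68c7281a2cc34cb463f80d56c4d014920c06a9626b6c4968e341b19545b2fee8cbe43163c65650c5d218ace34f2c69c8b24ec1a80c343b462a9834261a15a3184069d44adc819be034d3934472486919b183412d96874641218760cc23a61f90c38a1a3190c44591860d20c1a35a30dcc1919831cd188603452e55758cb101a19c9b9392718b224c960149bec197498303305fa0cbd45d1354653019de2988c521090c1cf18658311c590d60cd2c4d9a0caecc16a982cf0658dee98b631a80cc114c322905c86095ba6ee18522c843065260c9f0651a60a9cc1508329901889c31c406498a60f1481a430239d2870c65018f1c91a3863580c672180e0316b922570c4d0189243014061e7242ce185e030ac86019821f3042a608280000)))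
noncomputable def eH2_c5 : BT (Bx Nat) := (BT.leaf (Bx.mk (nat_lit 0x309a48a944126b464d7b09948a924c264e2a47954b02a95c7527d6a51a09848a9049520e2a3f994b72297c852e0ca5ea898641310a267944ceb096d8a8d6a51b22a34314bf3296d02700aabc1d5753296a626a50a553098c638bec262a2e31309568a8a8c25562a28b14bb62973026f174b09a95e81374525e464bb2499a59294b52717223b09ac4b890c26ae2e25a89b341363026d164a82c94f81364ca5a5b5353c942412caf24fcd54699ca0792788aa390e50c54367a89b224c9a49c3145c91262990dd8a53a89a581350ba5f9753ec09a6652a4da94da4b82c94e79260b566c64c83c92d59332626462a13a497b91246b24a5ca22c892264850c525d8a4ac09985d2ceba99a04cb309805930305165ca3e3c92142b0ec2625e48f2c985813171506184b24891469234e51ce4489b4919628eeb247d44963947a6c838e24be0a3a3497252adf1504a44873c90f7aa23305c660b7314604aa7ac2475ca31ac93a8b841051752aadb55588a81b22425e4853d50c982b53055d8a24ad52e73876e51316495c093e8288cc551144a0c540891208f2415ea83cc14398281024e64481c09338126b304d2049548902812490249a6092c091b9120302456048bcc116982213042e608300000)))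
noncomputable def eH2_c6 : BT (Bx Nat) := (BT.leaf (Bx.mk (nat_lit 0x457a259148322bca456c57925912915e3d64499c8ae291605228ca44fc57825af0915dfd2bc1908b822f7a422dc4bdf357886af0c72274ebcf4576b590db15da16bb6357c05116b022fce43a948783116cb5ea96bd4a888a510c4a5e3188afc5754590ad15d45642ab57bc6af75022ecf7af1116181172721d8a43cb579c8be8ed5e69afa5257ab39096b5eb188a4257b441165022cd97a7b705081162a21a94434b484d52eb8d20f0d847108a15907e44234c4503c83969084e44e24419397654906f220c5abd4248a68114ec21f5643f408a5510a6a21492bbdb57456905b022654448ac8305913652241e4152c870410532208de4273082891044d5e61abcb40897610ccb219e044ab2f8166100c5d91c439b481e8110ac422d6410a088751112f206da42cac81a9102905df16b8cc881382ef517c710417c17776903ec44b22b8939071410dd021d22887c880e8a021305ca60b7c17637be74a20820bb02df3d6223b15c35882d2c857810bb1442a4404c500b982b7305620ba64082b6207d05d25af973083b8ae10e410dc820408468a20b2201228034c14498283020d9c419c880382069304d60413b882491005040966093408187102b22006080b4c1179822330432608380000)))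
noncomputable def eH2_c7 : BT (Bx Nat) := (BT.leaf (Bx.mk (nat_lit 0x48aa19154122a6e454cc8a919152122a3a4546c8a8b9151322a1e4542c8a8191501229fa453ec8a79914f1229da453ac8a72914e3229be453748a6a914d32299e453348a62914c32297e60e04c1bf914bd2296e452d48a589837d2295e60dec8a53914a5229424527c8a4b914952292260de4c1bb9148f306ea60dcc8a44983712290e60dbc8a419836d2290260dac8a3e9147b228ee60da4c1b391475306ca60d8c8a389146f228d660d84c1af91469306ba60d6c8a3391465306b260d5c8a3198355306a64517c8a2e91459306a260d3c8a2b9834d306964514c8a289144d3069260d1c8a25983453067e451248a239833d3067645114c19c9833522882450fc8a1d983313065e450e4c1969832b2286a450cc8a17983293064e450b4c1929831f22856450a4c18c983152284e60c44c186914233061260c1c8a1098305305fe4507cc17c982f72283a60bd4c177982e9305ce60b848a0c982db305b24505cc16b982d12282a60b2cc164914133058e60b04c15d982b9305664503cc156982ab2281a60aa4c1519140b3053a60a6c8a04982993052660a34c145982852280e609fcc13c98273304da45014c1309825b304aa6093c8a01982433047a608dcc1189822530436608400000)))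
noncomputable def eH2_p : BT (Bx Nat) := (BT.leaf (Bx.mk (nat_lit 0x1a847d403e9b1f4c8f6447b203d8e1ec68f62c7b123d871ec28f6047b003d7e1ebe8f5e47af03d761eba8f5c87ae23d6f1eb70f5a87ad23d671eb30f5887ac23d5f1eaf8957c3abc3d5b1ead0f5607ab00d571eab8314c78a43c501e278f12c78943c481e2409120388e3c47122387110788814431e218510478820c401e20030f8787a3c3b1e1d890ec38743c3a121d070e0786e3c351e1a850d418683c340a1a030cc78643c321a190b0c47862343116178f0b878583c2c1216070ac7856242b0e148f0a0784c3c260a1303094784a142506120f08c7846342316110f08868442b201d8f8ec74763a231d0d8e0ec7046381b1a1d8c8ec5c762e1317058b0ec58262c0b151d8a0ec5066282b131d898cc4c56223b11098882c407620131005878ec3c261e0b0e1d870cc38561c1b0e098702c307618130c05858ec2c26160b0a1d8504c2816123b0919848ac243612130905038e81c240e0a061d0304818140a3a050902828107408320415020681024080a031d018c80c540622030d010e80864042a0211010640472023101148088404320211010400000000)))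
noncomputable def eH2_e : BT Nat := BT.leaf (nat_lit 0)
noncomputable def eH2_cols : List (BT (Bx Nat)) := [eH2_c0, eH2_c1, eH2_c2, eH2_c3, eH2_c4, eH2_c5, eH2_c6, eH2_c7]
noncomputable def eH2_ch (x j : Nat) : Bx Nat := chunkG eH2_cols (nat_lit 1) x j
noncomputable def eH2_L (x : Nat) : Bx (Nat → Nat) := lookG eH2_ch (nat_lit 8) (nat_lit 255) (nat_lit 19) (nat_lit 524287) x
noncomputable def eH2_pc (_ j : Nat) : Bx Nat := eH2_p.get j
noncomputable def eH2_pb : Bx (Nat → Nat) := lookG eH2_pc (nat_lit 8) (nat_lit 255) (nat_lit 17) (nat_lit 131071) (nat_lit 0)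
noncomputable def eH2_rots : BT CW := (BT.node (nat_lit 27) (BT.node (nat_lit 13) (BT.node (nat_lit 6) (BT.node (nat_lit 3) (BT.node (nat_lit 1) (BT.leaf ⟨[], (nat_lit 1000000), (nat_lit 0), (nat_lit 0), (nat_lit 0)⟩) (BT.node (nat_lit 2) (BT.leaf ⟨[], (nat_lit 1000000), (nat_lit 0), (nat_lit 0), (nat_lit 1)⟩) (BT.leaf ⟨[], (nat_lit 1000000), (nat_lit 0), (nat_lit 0), (nat_lit 2)⟩))) (BT.node (nat_lit 4) (BT.leaf ⟨[(nat_lit 2), (nat_lit 1)], (nat_lit 16), (nat_lit 1), (nat_lit 0), (nat_lit 3)⟩) (BT.node (nat_lit 5) (BT.leaf ⟨[(nat_lit 1), (nat_lit 2)], (nat_lit 16), (nat_lit 0), (nat_lit 0), (nat_lit 3)⟩) (BT.leaf ⟨[(nat_lit 4), (nat_lit 3)], (nat_lit 15), (nat_lit 1), (nat_lit 0), (nat_lit 3)⟩)))) (BT.node (nat_lit 9) (BT.node (nat_lit 7) (BT.leaf ⟨[(nat_lit 3), (nat_lit 4)], (nat_lit 15), (nat_lit 0), (nat_lit 0), (nat_lit 3)⟩) (BT.node (nat_lit 8) (BT.leaf ⟨[(nat_lit 6), (nat_lit 5)], (nat_lit 14), (nat_lit 1), (nat_lit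 0), (nat_lit 3)⟩) (BT.leaf ⟨[(nat_lit 5), (nat_lit 6)], (nat_lit 14), (nat_lit 0), (nat_lit 0), (nat_lit 3)⟩))) (BT.node (nat_lit 11) (BT.node (nat_lit 10) (BT.leaf ⟨[(nat_lit 7), (nat_lit 7)], (nat_lit 10), (nat_lit 0), (nat_lit 0), (nat_lit 3)⟩) (BT.leaf ⟨[(nat_lit 1), (nat_lit 1), (nat_lit 1)], (nat_lit 0), (nat_lit 0), (nat_lit 0), (nat_lit 3)⟩)) (BT.node (nat_lit 12) (BT.leaf ⟨[(nat_lit 1), (nat_lit 7), (nat_lit 1), (nat_lit 7)], (nat_lit 9), (nat_lit 1), (nat_lit 0), (nat_lit 3)⟩) (BT.leaf ⟨[(nat_lit 2), (nat_lit 7), (nat_lit 2), (nat_lit 7)], (nat_lit 26), (nat_lit 0), (nat_lit 0), (nat_lit 3)⟩))))) (BT.node (nat_lit 20) (BT.node (nat_lit 16) (BT.node (nat_lit 14) (BT.leaf ⟨[(nat_lit 2), (nat_lit 2), (nat_lit 2)], (nat_lit 17), (nat_lit 0), (nat_lit 0), (nat_lit 3)⟩) (BT.node (nat_lit 15) (BT.leaf ⟨[(nat_lit 3), (nat_lit 3), (nat_lit 3), (nat_lit 3)], (nat_lit 2), (nat_lit 0), (nat_lit 0), (nat_lit 3)⟩) (BT.leaf ⟨[(nat_lit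 6), (nat_lit 6), (nat_lit 3), (nat_lit 3)], (nat_lit 4), (nat_lit 2), (nat_lit 0), (nat_lit 3)⟩))) (BT.node (nat_lit 18) (BT.node (nat_lit 17) (BT.leaf ⟨[(nat_lit 6), (nat_lit 3), (nat_lit 3), (nat_lit 6)], (nat_lit 4), (nat_lit 3), (nat_lit 0), (nat_lit 3)⟩) (BT.leaf ⟨[(nat_lit 4), (nat_lit 6), (nat_lit 3), (nat_lit 5)], (nat_lit 6), (nat_lit 2), (nat_lit 0), (nat_lit 3)⟩)) (BT.node (nat_lit 19) (BT.leaf ⟨[(nat_lit 4), (nat_lit 5), (nat_lit 3), (nat_lit 6)], (nat_lit 23), (nat_lit 3), (nat_lit 0), (nat_lit 3)⟩) (BT.leaf ⟨[(nat_lit 5), (nat_lit 7), (nat_lit 3), (nat_lit 7)], (nat_lit 11), (nat_lit 3), (nat_lit 0), (nat_lit 3)⟩)))) (BT.node (nat_lit 23) (BT.node (nat_lit 21) (BT.leaf ⟨[(nat_lit 5), (nat_lit 5), (nat_lit 4), (nat_lit 4)], (nat_lit 21), (nat_lit 0), (nat_lit 0), (nat_lit 3)⟩) (BT.node (nat_lit 22) (BT.leaf ⟨[(nat_lit 3), (nat_lit 6), (nat_lit 4), (nat_lit 5)], (nat_lit 23), (nat_lit 1), (nat_lit 0), (nat_lit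 3)⟩) (BT.leaf ⟨[(nat_lit 6), (nat_lit 7), (nat_lit 4), (nat_lit 7)], (nat_lit 28), (nat_lit 0), (nat_lit 0), (nat_lit 3)⟩))) (BT.node (nat_lit 25) (BT.node (nat_lit 24) (BT.leaf ⟨[(nat_lit 3), (nat_lit 7), (nat_lit 5), (nat_lit 7)], (nat_lit 11), (nat_lit 1), (nat_lit 0), (nat_lit 3)⟩) (BT.leaf ⟨[(nat_lit 4), (nat_lit 7), (nat_lit 6), (nat_lit 7)], (nat_lit 28), (nat_lit 2), (nat_lit 0), (nat_lit 3)⟩)) (BT.node (nat_lit 26) (BT.leaf ⟨[(nat_lit 3), (nat_lit 1), (nat_lit 3), (nat_lit 1), (nat_lit 3), (nat_lit 1)], (nat_lit 1), (nat_lit 1), (nat_lit 0), (nat_lit 3)⟩) (BT.leaf ⟨[(nat_lit 2), (nat_lit 3), (nat_lit 3), (nat_lit 1), (nat_lit 4), (nat_lit 4)], (nat_lit 3), (nat_lit 5), (nat_lit 0), (nat_lit 3)⟩)))))) (BT.node (nat_lit 40) (BT.node (nat_lit 33) (BT.node (nat_lit 30) (BT.node (nat_lit 28) (BT.leaf ⟨[(nat_lit 5), (nat_lit 1), (nat_lit 5), (nat_lit 1), (nat_lit 5), (nat_lit 1)], (nat_lit 5), (nat_lit 1), (nat_lit 0),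 (nat_lit 3)⟩) (BT.node (nat_lit 29) (BT.leaf ⟨[(nat_lit 4), (nat_lit 2), (nat_lit 4), (nat_lit 2), (nat_lit 4), (nat_lit 2)], (nat_lit 18), (nat_lit 0), (nat_lit 0), (nat_lit 3)⟩) (BT.leaf ⟨[(nat_lit 1), (nat_lit 4), (nat_lit 4), (nat_lit 2), (nat_lit 3), (nat_lit 3)], (nat_lit 3), (nat_lit 2), (nat_lit 0), (nat_lit 3)⟩))) (BT.node (nat_lit 31) (BT.leaf ⟨[(nat_lit 6), (nat_lit 2), (nat_lit 6), (nat_lit 2), (nat_lit 6), (nat_lit 2)], (nat_lit 22), (nat_lit 0), (nat_lit 0), (nat_lit 3)⟩) (BT.node (nat_lit 32) (BT.leaf ⟨[(nat_lit 3), (nat_lit 2), (nat_lit 4), (nat_lit 4), (nat_lit 1), (nat_lit 3)], (nat_lit 20), (nat_lit 2), (nat_lit 0), (nat_lit 3)⟩) (BT.leaf ⟨[(nat_lit 4), (nat_lit 4), (nat_lit 4), (nat_lit 4)], (nat_lit 19), (nat_lit 0), (nat_lit 0), (nat_lit 3)⟩)))) (BT.node (nat_lit 36) (BT.node (nat_lit 34) (BT.leaf ⟨[(nat_lit 3), (nat_lit 3), (nat_lit 1), (nat_lit 4), (nat_lit 4), (nat_lit 2)], (nat_lit 3), (nat_lit 0),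 (nat_lit 0), (nat_lit 3)⟩) (BT.node (nat_lit 35) (BT.leaf ⟨[(nat_lit 4), (nat_lit 1), (nat_lit 3), (nat_lit 3), (nat_lit 2), (nat_lit 4)], (nat_lit 20), (nat_lit 5), (nat_lit 0), (nat_lit 3)⟩) (BT.leaf ⟨[(nat_lit 5), (nat_lit 4), (nat_lit 4), (nat_lit 5)], (nat_lit 21), (nat_lit 1), (nat_lit 0), (nat_lit 3)⟩))) (BT.node (nat_lit 38) (BT.node (nat_lit 37) (BT.leaf ⟨[(nat_lit 4), (nat_lit 4), (nat_lit 5), (nat_lit 5)], (nat_lit 21), (nat_lit 2), (nat_lit 0), (nat_lit 3)⟩) (BT.leaf ⟨[(nat_lit 4), (nat_lit 2), (nat_lit 3), (nat_lit 3), (nat_lit 1), (nat_lit 4)], (nat_lit 3), (nat_lit 4), (nat_lit 0), (nat_lit 3)⟩)) (BT.node (nat_lit 39) (BT.leaf ⟨[(nat_lit 2), (nat_lit 4), (nat_lit 2), (nat_lit 4), (nat_lit 2), (nat_lit 4)], (nat_lit 18), (nat_lit 1), (nat_lit 0), (nat_lit 3)⟩) (BT.leaf ⟨[(nat_lit 3), (nat_lit 1), (nat_lit 4), (nat_lit 4), (nat_lit 2), (nat_lit 3)], (nat_lit 3), (nat_lit 1), (nat_lit 0), (nat_lit 3)⟩))))) (BT.node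 (nat_lit 47) (BT.node (nat_lit 43) (BT.node (nat_lit 41) (BT.leaf ⟨[(nat_lit 5), (nat_lit 3), (nat_lit 6), (nat_lit 4)], (nat_lit 23), (nat_lit 0), (nat_lit 0), (nat_lit 3)⟩) (BT.node (nat_lit 42) (BT.leaf ⟨[(nat_lit 5), (nat_lit 4), (nat_lit 6), (nat_lit 3)], (nat_lit 6), (nat_lit 1), (nat_lit 0), (nat_lit 3)⟩) (BT.leaf ⟨[(nat_lit 3), (nat_lit 3), (nat_lit 6), (nat_lit 6)], (nat_lit 4), (nat_lit 0), (nat_lit 0), (nat_lit 3)⟩))) (BT.node (nat_lit 45) (BT.node (nat_lit 44) (BT.leaf ⟨[(nat_lit 3), (nat_lit 6), (nat_lit 6), (nat_lit 3)], (nat_lit 4), (nat_lit 1), (nat_lit 0), (nat_lit 3)⟩) (BT.leaf ⟨[(nat_lit 1), (nat_lit 3), (nat_lit 1), (nat_lit 3), (nat_lit 1), (nat_lit 3)], (nat_lit 1), (nat_lit 0), (nat_lit 0), (nat_lit 3)⟩)) (BT.node (nat_lit 46) (BT.leaf ⟨[(nat_lit 4), (nat_lit 5), (nat_lit 5), (nat_lit 4)], (nat_lit 21), (nat_lit 3), (nat_lit 0), (nat_lit 3)⟩) (BT.leaf ⟨[(nat_lit 6), (nat_lit 3), (nat_lit 5), (nat_lit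 4)], (nat_lit 6), (nat_lit 3), (nat_lit 0), (nat_lit 3)⟩)))) (BT.node (nat_lit 50) (BT.node (nat_lit 48) (BT.leaf ⟨[(nat_lit 6), (nat_lit 4), (nat_lit 5), (nat_lit 3)], (nat_lit 23), (nat_lit 2), (nat_lit 0), (nat_lit 3)⟩) (BT.node (nat_lit 49) (BT.leaf ⟨[(nat_lit 1), (nat_lit 6), (nat_lit 2), (nat_lit 3), (nat_lit 1), (nat_lit 5), (nat_lit 2), (nat_lit 4)], (nat_lit 7), (nat_lit 5), (nat_lit 0), (nat_lit 3)⟩) (BT.leaf ⟨[(nat_lit 1), (nat_lit 6), (nat_lit 2), (nat_lit 4), (nat_lit 1), (nat_lit 5), (nat_lit 2), (nat_lit 3)], (nat_lit 24), (nat_lit 4), (nat_lit 0), (nat_lit 3)⟩))) (BT.node (nat_lit 52) (BT.node (nat_lit 51) (BT.leaf ⟨[(nat_lit 1), (nat_lit 3), (nat_lit 2), (nat_lit 5), (nat_lit 1), (nat_lit 4), (nat_lit 2), (nat_lit 6)], (nat_lit 8), (nat_lit 7), (nat_lit 0), (nat_lit 3)⟩) (BT.leaf ⟨[(nat_lit 1), (nat_lit 4), (nat_lit 2), (nat_lit 5), (nat_lit 1), (nat_lit 3), (nat_lit 2), (nat_lit 6)], (nat_lit 25), (nat_lit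 6), (nat_lit 0), (nat_lit 3)⟩)) (BT.node (nat_lit 53) (BT.leaf ⟨[(nat_lit 1), (nat_lit 5), (nat_lit 1), (nat_lit 5), (nat_lit 1), (nat_lit 5)], (nat_lit 5), (nat_lit 0), (nat_lit 0), (nat_lit 3)⟩) (BT.leaf ⟨[(nat_lit 3), (nat_lit 5), (nat_lit 4), (nat_lit 6)], (nat_lit 6), (nat_lit 0), (nat_lit 0), (nat_lit 3)⟩)))))))
noncomputable def eH2_hcs : List CW := []
noncomputable def eH2_H (x j : Nat) : Bx (Nat → Nat → Nat) := mkH eH2_L eH2_pb.1 eH2_e.get (lmap CW.w eH2_hcs) (nat_lit 192) (nat_lit 193) (nat_lit 8) (nat_lit 256) (nat_lit 16384) (nat_lit 16383) x (eH2_rots.get j)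
noncomputable def eH2_F (x b : Nat) : Bool := blkOK eH2_H eH2_ch (nat_lit 193) (nat_lit 256) (nat_lit 64) (nat_lit 8) (nat_lit 255) (nat_lit 19) (nat_lit 524287) x b

theorem eH2_k0_0 : allFrom (eH2_F (nat_lit 0)) (nat_lit 0) (nat_lit 4) = true := by decide +kernel
theorem eH2_k1_0 : allFrom (eH2_F (nat_lit 1)) (nat_lit 0) (nat_lit 4) = true := by decide +kernel
theorem eH2_k2_0 : allFrom (eH2_F (nat_lit 2)) (nat_lit 0) (nat_lit 4) = true := by decide +kernel
theorem eH2_k3_0 : allFrom (eH2_F (nat_lit 3)) (nat_lit 0) (nat_lit 4) = true := by decide +kernel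
theorem eH2_k4_0 : allFrom (eH2_F (nat_lit 4)) (nat_lit 0) (nat_lit 4) = true := by decide +kernel
theorem eH2_k5_0 : allFrom (eH2_F (nat_lit 5)) (nat_lit 0) (nat_lit 4) = true := by decide +kernel
theorem eH2_k6_0 : allFrom (eH2_F (nat_lit 6)) (nat_lit 0) (nat_lit 4) = true := by decide +kernel
theorem eH2_k7_0 : allFrom (eH2_F (nat_lit 7)) (nat_lit 0) (nat_lit 4) = true := by decide +kernel

theorem eH2_all : Cov eH2_F 4 8 0 := by
  have h := Cov.zero eH2_F 4
  have h := h.blk (b := 4) eH2_k0_0 rfl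
  have h := h.next (y := 1) rfl rfl
  have h := h.blk (b := 4) eH2_k1_0 rfl
  have h := h.next (y := 2) rfl rfl
  have h := h.blk (b := 4) eH2_k2_0 rfl
  have h := h.next (y := 3) rfl rfl
  have h := h.blk (b := 4) eH2_k3_0 rfl
  have h := h.next (y := 4) rfl rfl
  have h := h.blk (b := 4) eH2_k4_0 rfl
  have h := h.next (y := 5) rfl rfl
  have h := h.blk (b := 4) eH2_k5_0 rfl
  have h := h.next (y := 6) rfl rfl
  have h := h.blk (b := 4) eH2_k6_0 rfl
  have h := h.next (y := 7) rfl rfl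
  have h := h.blk (b := 4) eH2_k7_0 rfl
  have h := h.next (y := 8) rfl rfl
  exact h

theorem eH2 : Enum RH2 [] (gensW 4) 192 :=
  ⟨eH2_cols, eH2_ch, eH2_L, eH2_H, eH2_pb.1, eH2_e.get, [(nat_lit 0), (nat_lit 1), (nat_lit 2), (nat_lit 3), (nat_lit 4), (nat_lit 5), (nat_lit 6), (nat_lit 7)], (nat_lit 8), (nat_lit 4), eH2_rots, eH2_hcs,
    (nat_lit 193), (nat_lit 8), (nat_lit 256), (nat_lit 64), (nat_lit 16384), (nat_lit 16383), (nat_lit 8), (nat_lit 255), (nat_lit 19), (nat_lit 524287), (nat_lit 1), (nat_lit 4),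
    fun _ _ => rfl, fun _ => rfl, fun _ _ => rfl, by decide +kernel, eH2_all.1⟩

theorem pH2 : TH2.Pres RH2 (gensW 4) := ⟨CT.ok_spec TH2_ok, lall_iff.1 TH2_rel, by decide +kernel,
  by decide +kernel, by decide +kernel, eH2.bound (ug_rels _) (bound_nil _)⟩

instance instTH2 : TH2.Grp := pH2.grp

noncomputable def RV1 : List (List Nat) := [[(nat_lit 1), (nat_lit 1), (nat_lit 1)],
  [(nat_lit 1), (nat_lit 3), (nat_lit 1), (nat_lit 3), (nat_lit 1), (nat_lit 3)],
  [(nat_lit 3), (nat_lit 3), (nat_lit 3), (nat_lit 3)],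
  [(nat_lit 3), (nat_lit 3), (nat_lit 1), (nat_lit 4), (nat_lit 4), (nat_lit 2)],
  [(nat_lit 3), (nat_lit 3), (nat_lit 6), (nat_lit 6)],
  [(nat_lit 1), (nat_lit 5), (nat_lit 1), (nat_lit 5), (nat_lit 1), (nat_lit 5)],
  [(nat_lit 3), (nat_lit 5), (nat_lit 4), (nat_lit 6)],
  [(nat_lit 3), (nat_lit 1), (nat_lit 5), (nat_lit 2), (nat_lit 4), (nat_lit 1), (nat_lit 6), (nat_lit 2)],
  [(nat_lit 3), (nat_lit 2), (nat_lit 5), (nat_lit 1), (nat_lit 4), (nat_lit 2), (nat_lit 6), (nat_lit 1)],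
  [(nat_lit 7), (nat_lit 1), (nat_lit 8), (nat_lit 1)],
  [(nat_lit 7), (nat_lit 7), (nat_lit 3), (nat_lit 3)],
  [(nat_lit 7), (nat_lit 3), (nat_lit 8), (nat_lit 3)],
  [(nat_lit 7), (nat_lit 5), (nat_lit 8), (nat_lit 5)]]
noncomputable def TV1_c0 : BT (Bx Nat) := (BT.node (nat_lit 1) (BT.leaf (Bx.mk (nat_lit 0x56573140243348494e4a262b3a2e3d52533241253444454f4b352c3b0b1120210c12090f1a1b1918170a1013141e22151c0d0e1f23161d070805060304010200))) (BT.node (nat_lit 2) (BT.leaf (Bx.mk (nat_lit 0x6c6d7d7c647a92936076747591905e5f6f6e7e7f6b6a68698b88657b8e8f617770715d5c5a5b8c8d3e3f43422f30474628374c4d273638395150292a55542d3c))) (BT.leaf (Bx.mk (nat_lit 0xbcbdbebf999aabaab2b3a4a5b6b7a6a7aeafa2a3b9b89c9db0b1b4b5acada1a09e9fa8a99bbabb98898a85867879737262635859679697668194958082838784)))))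
noncomputable def TV1_c1 : BT (Bx Nat) := (BT.node (nat_lit 1) (BT.leaf (Bx.mk (nat_lit 0x8382113d103b75747a76170f340c326d6c0b2e0a2c5f5e646035092506235756051f041d49484e4a2603160e0d403c3a330807312d2b241413221e1c15000201))) (BT.node (nat_lit 2) (BT.leaf (Bx.mk (nat_lit 0x3f3e8b88377bafae36777170676639388c8d69684342302fa1a02865a3a227615b5a51502a299b9853526f6e21209190194f9392184b45447d7c1b1a87841241))) (BT.leaf (Bx.mk (nat_lit 0xa5a49a999594a8a9b1b08685bdbc8a89adac7978bfbe9796b5b4abaa9f9e73726362bbba81b3b280b8b99d9c8f8e5d5c4d4c545547b7b6466ba7a66a7f7e5958)))))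
noncomputable def TV1_c2 : BT (Bx Nat) := (BT.node (nat_lit 1) (BT.leaf (Bx.mk (nat_lit 0x7f7e3c113a1071707b7726330f310c69682d0b2b0a5b5a6561172409220653521e051c0445444f4b3515030807413d3b341413322e2c250e0d231f1d16010002))) (BT.node (nat_lit 2) (BT.leaf (Bx.mk (nat_lit 0x838247467a37adac76363938a1a075745554302f87846d6c737264289f9e60272a2991905f5e818021208c8d57565d5c4e198f8e4a181b1a8b8849486b6a4012))) (BT.leaf (Bx.mk (nat_lit 0xabaab3b29d9c96978a89a7a69a99b7b67978afaea5a4b8b98685bfbe63626766a3a2959459bdbc58a9a8bbba4d4c515093926e6f7db1b07c43b5b4423f3e9b98)))))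
noncomputable def TV1_c3 : BT (Bx Nat) := (BT.node (nat_lit 1) (BT.leaf (Bx.mk (nat_lit 0x7879807c1c251413111210152c6b6762636a663a160e0d0b0c0a331d55514c4d54502b340807050604243b383937360235292a282701261a1b191800170f0903))) (BT.node (nat_lit 2) (BT.leaf (Bx.mk (nat_lit 0xb0b13c408b983f3e889b444543425f5e5c5da6a72e32a4a52d31a184302fa08770716f6e4948464796971f2394951e22918d2120908c5a5b595875747273817d))) (BT.leaf (Bx.mk (nat_lit 0xa3a2acad93928f8eafae9e9f83827f7eb6b7bdbc85869d9c6d6c6968bebf6165b5b4a8a97a8a897657565352babb4b4fb8b94a4e77999a7b64abaa60b2b33d41)))))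
noncomputable def TV1_c4 : BT (Bx Nat) := (BT.node (nat_lit 1) (BT.leaf (Bx.mk (nat_lit 0x7978817d152c131412110f1c256a6663626b67331d0d0e0c0b093a1654504d4c5551243b07080605032b343938363735022a29272826011b1a18191700100a04))) (BT.node (nat_lit 2) (BT.leaf (Bx.mk (nat_lit 0xb1b0403c889b3e3f8b98454442435e5f5d5ca7a6322ea5a4312da0872f30a18471706e6f484947469796231f9594221e908c2021918d5b5a585974757372807c))) (BT.leaf (Bx.mk (nat_lit 0xa2a3adac92938e8faeaf9f9e82837e7fb7b6bcbd86859c9d6c6d6869bfbe6561b4b5a9a876898a7a56575253bbba4f4bb9b84e4a7b9a997760aaab64b3b2413d)))))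
noncomputable def TV1_c5 : BT (Bx Nat) := (BT.node (nat_lit 1) (BT.leaf (Bx.mk (nat_lit 0x14131e32736f78790f1012726e401f0e0d3c235d596263090a0c5c58313d08072d4147434c4d03040646423e3f023537362f3001262827202100171918110b05))) (BT.node (nat_lit 2) (BT.leaf (Bx.mk (nat_lit 0x6d6c6a6b8ca039388da1aaab343ba8a9333a7e7f7d7c575654559b902a2998919c9d252c999a242b686967668382808187881b1a848b898a161d8586151c222e))) (BT.leaf (Bx.mk (nat_lit 0xacada3a29e9faeaf8e8f93929495a7a6b9b8bfbe75747170b0b19796bcbd7a76bbba5f5e615b5a65a4a5b3b2b4b56460b7b67b774e49484a4b45444f52535150)))))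
noncomputable def TV1_c6 : BT (Bx Nat) := (BT.node (nat_lit 1) (BT.leaf (Bx.mk (nat_lit 0x1314222e726e7978100f11736f3c230d0e401f5c5863620a090b5d592d410708313d46424d4c04030547433f3e35023637302f26012728212017001819120c06))) (BT.node (nat_lit 2) (BT.leaf (Bx.mk (nat_lit 0x6c6d6b6a8da138398ca0abaa3b34a9a83a337f7e7c7d565755549891292a9b909d9c2c259a992b246968666782838180848b1a1b87888a891d1686851c151e32))) (BT.leaf (Bx.mk (nat_lit 0xadaca2a39f9eafae8f8e92939594a6a7b8b9bebf74757071b1b09697bdbc767ababb5e5f655a5b61a5a4b2b3b5b46064b6b7777b4a48494e4f44454b53525051)))))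
noncomputable def TV1_c7 : BT (Bx Nat) := (BT.node (nat_lit 1) (BT.leaf (Bx.mk (nat_lit 0x1112827e75710f1079781474706d690b0c6c685f5b090a63620e5e5a575305065652494503044d4c08484402353f3e39380126302f2a29001721201b1a130d07))) (BT.node (nat_lit 2) (BT.leaf (Bx.mk (nat_lit 0x3c40b1b0afad3637aeac343babaa333aa9a82e32a7a62d31a5a4a39f2728a29e252c9d9c242b9a991f2397961e229594938f1819928e161d8a89151c8685837f))) (BT.leaf (Bx.mk (nat_lit 0xa0a1989b90918c8d888b848780817c7d777b767a72736e6f6a6b66676165bfbe60645c5dbd5859bc545550514b4fbbba4a4eb9b8b74647b6b54243b43d41b3b2)))))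
noncomputable def TV1_c8 : BT (Bx Nat) := (BT.node (nat_lit 1) (BT.leaf (Bx.mk (nat_lit 0x1211837f7470100f78791375716c680c0b6d695e5a0a0962630d5f5b565206055753484404034c4d07494535023e3f383926012f30292a170020211a1b140e08))) (BT.node (nat_lit 2) (BT.leaf (Bx.mk (nat_lit 0x403cb0b1aeac3736afad3b34aaab3a33a8a9322ea6a7312da4a5a29e2827a39f2c259c9d2b24999a231f9697221e9495928e1918938f1d16898a1c158586827e))) (BT.leaf (Bx.mk (nat_lit 0xa1a09b9891908d8c8b88878481807d7c7b777a7673726f6e6b6a67666561bebf64605d5cbc5958bd555451504f4bbabb4e4ab8b9b64746b7b44342b5413db2b3)))))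
noncomputable def TV1_w : BT (Bx Nat) := (BT.node (nat_lit 1) (BT.leaf (Bx.mk (nat_lit 0x852000752000252000152000242000142000832000732000632000532000332000232000132000261000161000851000751000251000151000241000141000831000731000631000531000331000231000131000026000016000085000075000025000015000024000014000083000073000063000053000033000023000013000082000072000062000052000042000032000081000071000061000051000041000031000008000007000006000005000004000003000002000001000000))) (BT.node (nat_lit 2) (BT.leaf (Bx.mk (nat_lit 0x8152007152004152003152002632001632008532007532002532001532008232007232006232005232008132007132006132005132008251007251004251003251008151007151004151003151002631001631008531007531002531001531008231007231006231005231008131007131006131005131000825000725000425000325000815000715000415000315000263000163000853000753000253000153000823000723000623000523000813000713000613000513000262000162))) (BT.leaf (Bx.mk (nat_lit 0x832531732531815131715131083253073253083153073153082523072523081513071513083252073252083152073152082532072532081532071532085232075232085132075132083251073251083151073151082531072531042531032531081531071531085231075231016131085131075131015131008325007325008315007315008253007253004253003253008153007153004153003153002623008523007523002523001613008513007513001513008252007252004252003252)))))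
noncomputable def TV1_cols : List (BT (Bx Nat)) := [TV1_c0, TV1_c1, TV1_c2, TV1_c3, TV1_c4, TV1_c5, TV1_c6, TV1_c7, TV1_c8]
noncomputable def TV1_ch (x j : Nat) : Bx Nat := chk TV1_cols x j
noncomputable def TV1_wc (_ j : Nat) : Bx Nat := TV1_w.get j
noncomputable def TV1 : CT := ⟨(nat_lit 192), (nat_lit 8), (nat_lit 255), TV1_ch, (nat_lit 24), (nat_lit 16777215), TV1_wc, (nat_lit 510)⟩
theorem TV1_ok : TV1.ok = true := by decide +kernel
theorem TV1_rel : lall TV1.relOK RV1 = true := by decide +kernel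
noncomputable def eV1_c0 : BT (Bx Nat) := (BT.leaf (Bx.mk (nat_lit 0x0)))
noncomputable def eV1_c1 : BT (Bx Nat) := (BT.leaf (Bx.mk (nat_lit 0x58da658ea598d9b98e9a58d9658e9538ca938caa38cb238cb198d8798e8638cbe38cbd40d8b40e8a805ae805ad98d7a98e7938cc038cbf40e9840d9740cb640cb540dac40eab805a08059f30c7440c7398d6498e6348cbc48cbb40c8240eb440db330c81785b9805ba50d9e50e9d805908058f48c5e50c5d98d4e98e4d7055588556a0548905b8905b7a054748c6c48ea848da790c6b805808057f4c35a38d5998d4098e3f30c8c40c89a053898c7c905b0905afa053798c78805728057138d684bd6798d3a98e3940c8d30c8e8056a8056953f449c04398d3198e3050da263da1a052998c66905a4905a3a052898c628055c8055b542525c15198d2b98e2aa819ca819980554805534bd7038d6f98d2298e2150d9263d91a051a98c509059490593a051998c4c805468054538d7e4c37d98d1c98e1ba8188a8185a051398c429058490583a051298c3ea051198c3c9057690575a817ba817770518a051098c35a050d98c339056e9056da050c98c2fa050b98c2d905609055fa8165a816168536a050a98c26a050798c249055890557a050698c20a050598c1e9054a90549a814fa814b88d27a050498c178050f8050ea8141a813da813ba813498d0998e08a8132a812ea812ca81259051590514a8123a811fa811da8116a050198c03a810200000)))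
noncomputable def eV1_c2 : BT (Bx Nat) := (BT.leaf (Bx.mk (nat_lit 0x304ac304ab304b4304b34049e4049d8909780f989908b98f8a384a8384a73849b3849a304b8304b79907a98f79891b0891af384a6384a5304b9304ba4048740486504c0504bf9906498f634846858467891a4891a34849648495a045a904be904bda0459384aa384a9504bc504bb9904e98f4d484525845189194891932846f384702847e384b2384b13847da0444904b6904b5a04439904098f3f3849c28499891848918330448404479047ba0438904ae904ad90477a04379903a98f39284a2384a1891768917540456304559903198f3040488884858916e8916d304744047390465a0429904a09049f90461a04289902b98f2a4049248491891608915f40482304819902298f2193e8d78f8e89158891574845e5045d9044fa041a904909048f9044ba04199901c98f1ba818ca81898914a891494846c9046b90441a0413904809047f9043da04129043ba04119047290471a817ca81787112790434a041090432a040d9046a904699042ea040c9042ca040b9045c9045ba8166a81628041890425a040a90423a040790454904539041fa04069041da04059044690445a8150a814c78f3690416a04049900998f08a8142a813ea813ca81358911589114a8133a812fa812da81269040f9040ea8124a8120a811ea811790402a0401a810300000)))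
noncomputable def eV1_c3 : BT (Bx Nat) := (BT.leaf (Bx.mk (nat_lit 0x999a499aa3207ad207ae9999499a939999099a8f19ab0199af39a9f399a09998499a839998099a7f31ab7319b829abe299bd6ba867ba876199e4999d9996e99a6d9996a99a69807bf921c0a07626ab66319b631ab56baa97baaa33a7b5078b6078a107779995899a579995499a53807bb921bca074c6ab50807b9921baa074b6ab4f192786879a7879b3ad7c3ab65619ac499ab3c461807b3921b4a073e6ab42807b1921b2a073d6ab412458c28799887408873f321892a19c68745787466ba4469c43607606075f59c5d5ba5e807a7921a8a072f6ab33807a5921a6a072e6ab32507a2312858873188730a81a142d8868771787726ba7069c6f71a4a7194958747587488079792198a07206ab248079592196a071f6ab23507925078e8872288721a8191a818d79a5b8995c6875a68759607766077559c735ba74507825077e6877982b7aa8181a817d6871d607269991599a1489c127871399211687168072d5076c507686876382b64a816ba81676873b712179990f99a0e89c0c7870d9920b687349ad1e50756507526874d82b4ea8155a81517ab2c607359990999a0889c0678707992057a1259073c807399213a9073890737a0703a81368072a9212b9072990728a0702a81278071b9211c9071a90719a0701a8118a8110a810aa810400000)))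
noncomputable def eV1_c4 : BT (Bx Nat) := (BT.leaf (Bx.mk (nat_lit 0x886a389ea4206ae206ad8869389e948868f89e90286af286b0286a02869f8868389e848867f89e80106b8106b72a7bd29ebe58687406867069d6069e8866d89e6e8866989e6a906c0906bf5ac66a0662306b5306b6586aa406a9206778168a7168b3167b8865789e588865389e54906bc906bb5ac50a064c906ba906b95ac4fa064b1867c5959b6969a2867838661706ab606ac28665906b4906b35ac42a063e906b2906b15ac41a063d306892869c7863f727401068c1ac9969e466a745506435064481e5f727606065e6065d906a8906a75ac33a062f906a6906a55ac32a062e606a1306887863072731a81a23068569e726a7715066f50670806497064a716487154790698906975ac24a062090696906955ac23a061f606916068d7862172722a8192a818e6865c6865b616596155a81e75727766067460673606816067d91e7a92779a8182a817e9b4167372d8861489e159961399512a06106ac1d736266066b6066791e6492763a816ca81688b4347061e8860e89e0f9960d9950ca060a6ac3b70617606556065191e4e9274da8156a8152906257373c8860889e099960799506a06046862c736359063a90639815378063890636a06039062b9062a815288062990627a06029061c9061b815198061a90618a0601a8111a810ba810500000)))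
noncomputable def eV1_c5 : BT (Bx Nat) := (BT.leaf (Bx.mk (nat_lit 0x31fad320ae51fa4520a32899f289a029faf2a0b04098f4099051f94520934a09549f9651fa8520a7209ba209b92a0c029fbf99f769a07599f729a0714a0b149fb240998409976a0bd71fbe31b7b12f7729fbc2a0bb99f609a05f49f6299f5c9a05b9ae66489a5489a651fb4520b36a0b571fb62896533961489b8489b72897c089785894f99f4a9a0494094b49f4c99f469a0459ae5058953609545b9525b8515096e5096d6396b5386c3388d3aea199f3a9a0392098e29fa261bab61baca09356af3c61ba961baaa09346af3b5897f609805b97e5b87d5205851f57509554095649f9c1899199f2b9a02a59b993099261b9d61b9ea09266af2d6099a6099ba09256892c6a06971f6a40968489675098450983639815388241f883898999f1c9a01b59b859098c6098a6098ba09176891e61b8661b87a09166af1d589234092f99f159a0145891f8093361b7461b70789798097aa09108891189b13a8173a816f5894152f2099f0f9a00e5893d9ae2461b5e6095a7896380964a090a8890b89b0da815da81595af324093e99f099a00859b2e909426094861b447894d8094ea09048890589b07a8147a81438093f70940a09039093690938a81378093070931a09029092790929a81288092170922a0901909189091aa8119a8112a810ca810600000)))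
noncomputable def eV1_c6 : BT (Bx Nat) := (BT.leaf (Bx.mk (nat_lit 0x208ae208ad688a3608a4208a02089f2a8b02aaaf5289052a8f68893608944889648895408a7408a8208b9208ba288bf288c058875588765887158872488b2488b15289752a98488be488bd208773087b32abb328bc5885f58860408666945b6945c508624aaa64a8a5408b3408b4488b6488b53b061214654aab74a8b8294782887c9b54b694496944a4284f3885058845588465084c5aa545a85348851588526aa6d6286e5086c5086b3318e288a28aa398283a1138d088a1908ac908ab5883ca0835908aa908a95883ba08345aa805a87f4887d5887e68857608584b1565305590899313928aa2a8282b4089c288919089e9089d5882da08269089b9089a6942ca08254886a488694b1675b0686aa83628845088250881908856138c8aa1b8281c408884a8899088b9088a6941ea081790887908865881da08169b51f613337aa148a815494236142f608736086f9087a9087999411a081099312a8174a81708b53d508247aa0e8a80f49441508206085d7135990864908639940ba080a9930ca815ea815a9082e613427aa088a809488326143e71347608439084e9084d99405a080499306a8148a8144908409083f80836a080391337a8138908319083080827a080291328a8129908229082180818a080191319a811aa8113a810da810700000)))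
noncomputable def eV1_c7 : BT (Bx Nat) := (BT.leaf (Bx.mk (nat_lit 0xa0ba1998a2a0b9950b9ca0b9199892a0b8d9988ea0b8950b8ca0b8552588a0b8199882a0b7d9987ea0b7870b7ca0b7770b7ba0b7351874a0b6f50b70a0b6b9986ca0b6799868a0b6270b6680bc0a81bfa0b6170b65a0b5d5185e5a4bea0b596335aa81bda0b5599856a0b5199852a0b4c70b5080bbca81bba0b4b70b4f80bbaa81b95a5b8a0b4763348a81b748bb6a0b4350b44a81b5a0b3e70b4280bb4a81b3a0b3d70b4180bb2a81b1725b0724aea0b3781838a81afa81ada0b3588b3c517aca81aba0b3488b3b5bcaaa81a9a0b2f70b3380ba8a81a7a0b2e70b3280ba6a81a5725a4724a0a0b2881829a81a3a819fa0b2688b2d5179ea819da0b2588b2c58b9ba819aa0b2070b2480b98a8197a0b1f70b2380b96a81957259472490a0b198181aa8193a818fa0b1788b1e58b8ba818aa0b1688b1d5bc87a81867258472480a0b1281813a8183a817f8257682472a0b109981170b7aa817999715a8175a81717256e7246aa0b0c8180da816da8169825608245ca0b0a9980b70b64a81639970fa815fa815b7255872454a0b0681807a8157a81538254a82446a0b049980570b4ea814d99709a8149a8145a0b0380b3670b40a813f80b3aa8139a0b0280b2770b31a813080b2ba812aa0b0180b1870b22a812180b1ca811ba8114a810ea810800000)))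
noncomputable def eV1_c8 : BT (Bx Nat) := (BT.leaf (Bx.mk (nat_lit 0x8a2a2a0aa150a9ca0a998a292a0a918a28ea0a8d50a8ca0a8952688a0a858a282a0a818a27ea0a7d68a7ca0a7868a7ba0a7748a74a0a7350a70a0a6f8a26ca0a6b8a268a0a6768a66a0a6290abfa81c068a65a0a6148a5ea0a5d5a3bd6325aa0a59a81be8a256a0a558a252a0a5168a50a0a4c90abba81bc68a4fa0a4b90ab9a81ba5a6b763248a0a47a81b848ab550a44a0a43a81b668a42a0a3e90ab3a81b468a41a0a3d90ab1a81b27a6af7a3ad7a938a0a37a81b0a81ae78a3ca0a3548aaba81ac78a3ba0a345bba9a81aa68a33a0a2f90aa7a81a868a32a0a2e90aa5a81a67a6a37a39f7a929a0a28a81a4a81a078a2da0a2648a9da819e78a2ca0a2558a9aa819b68a24a0a2090a97a819868a23a0a1f90a95a81967a6937a38f7a91aa0a19a8194a819078a1ea0a1758a8aa818b78a1da0a165bb86a81877a6837a37f7a913a0a12a8184a818092675923718a211a0a1078a79a817a89d14a8176a81727a66d7a3697a90da0a0ca816ea816a9265f9235b8a20ba0a0a78a63a816489d0ea8160a815c7a6577a3537a907a0a06a8158a815492649923458a205a0a0478a4da814e89d08a814aa814690a36a0a0378a3fa814090a39a813a90a27a0a0278a30a813190a2aa812b90a18a0a0178a21a812290a1ba811ca8115a810fa810900000)))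
noncomputable def eV1_p : BT (Bx Nat) := (BT.leaf (Bx.mk (nat_lit 0x1a848d423e99234c8f6448b223d8d22c68f6248b123d8522c28f6048b023d7d22be8f5e08af03d7722bb8f5cc8ae63d6f22b78f5ac8ad63d6722b38f5888ac43d6212b1075848ac23d5d22ae8f5681ab245591eac8315488aa3c5122288f13088983c4c12260712c88963c4b122587120288e44471e2385110188644431e21830f8887c3c3e121f070f4887a3c3d121e870e028700c37221b8f0dc286e0c35221a8f0d4686a2c34221a0f0d068682c2f22178f0bc485e1c2e22170f0b8485c1c290a14830a088503c280a1403098884c3c261a130b094884a3c251a128ac8086403b20119006c7c863e3b1f118f86c6826340b19218c8ec6426320b17218b8ec5c662e2b16218b0ec58662c2b13098982c4886243b12098902c4426220b1021880ec4066202b100d8804c40161a130d058610c307618130c058584c2c1614430a1d850cc2856141b0a09850281c240e0a0621030e818240c0a0509028281084083a0419020a8103408120405019080c7406320315018880c340442021d010c808540422020c809040472023101148088404320211010400000000)))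
noncomputable def eV1_e : BT Nat := BT.leaf (nat_lit 0)
noncomputable def eV1_cols : List (BT (Bx Nat)) := [eV1_c0, eV1_c1, eV1_c2, eV1_c3, eV1_c4, eV1_c5, eV1_c6, eV1_c7, eV1_c8]
noncomputable def eV1_ch (x j : Nat) : Bx Nat := chunkG eV1_cols (nat_lit 1) x j
noncomputable def eV1_L (x : Nat) : Bx (Nat → Nat) := lookG eV1_ch (nat_lit 8) (nat_lit 255) (nat_lit 20) (nat_lit 1048575) x
noncomputable def eV1_pc (_ j : Nat) : Bx Nat := eV1_p.get j
noncomputable def eV1_pb : Bx (Nat → Nat) := lookG eV1_pc (nat_lit 8) (nat_lit 255) (nat_lit 17) (nat_lit 131071) (nat_lit 0)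
noncomputable def eV1_rots : BT CW := (BT.node (nat_lit 34) (BT.node (nat_lit 17) (BT.node (nat_lit 8) (BT.node (nat_lit 4) (BT.node (nat_lit 2) (BT.node (nat_lit 1) (BT.leaf ⟨[], (nat_lit 1000000), (nat_lit 0), (nat_lit 0), (nat_lit 0)⟩) (BT.leaf ⟨[], (nat_lit 1000000), (nat_lit 0), (nat_lit 0), (nat_lit 1)⟩)) (BT.node (nat_lit 3) (BT.leaf ⟨[], (nat_lit 1000000), (nat_lit 0), (nat_lit 0), (nat_lit 2)⟩) (BT.leaf ⟨[(nat_lit 2), (nat_lit 1)], (nat_lit 16), (nat_lit 1), (nat_lit 0), (nat_lit 3)⟩))) (BT.node (nat_lit 6) (BT.node (nat_lit 5) (BT.leaf ⟨[(nat_lit 1), (nat_lit 2)], (nat_lit 16), (nat_lit 0), (nat_lit 0), (nat_lit 3)⟩) (BT.leaf ⟨[(nat_lit 4), (nat_lit 3)], (nat_lit 15), (nat_lit 1), (nat_lit 0), (nat_lit 3)⟩)) (BT.node (nat_lit 7) (BT.leaf ⟨[(nat_lit 3), (nat_lit 4)], (nat_lit 15), (nat_lit 0), (nat_lit 0), (nat_lit 3)⟩) (BT.leaf ⟨[(nat_lit 6), (nat_lit 5)], (nat_lit 14), (nat_lit 1), (nat_lit 0), (nat_lit 3)⟩))))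 (BT.node (nat_lit 12) (BT.node (nat_lit 10) (BT.node (nat_lit 9) (BT.leaf ⟨[(nat_lit 5), (nat_lit 6)], (nat_lit 14), (nat_lit 0), (nat_lit 0), (nat_lit 3)⟩) (BT.leaf ⟨[(nat_lit 8), (nat_lit 7)], (nat_lit 13), (nat_lit 1), (nat_lit 0), (nat_lit 3)⟩)) (BT.node (nat_lit 11) (BT.leaf ⟨[(nat_lit 7), (nat_lit 8)], (nat_lit 13), (nat_lit 0), (nat_lit 0), (nat_lit 3)⟩) (BT.leaf ⟨[(nat_lit 1), (nat_lit 1), (nat_lit 1)], (nat_lit 0), (nat_lit 0), (nat_lit 0), (nat_lit 3)⟩))) (BT.node (nat_lit 14) (BT.node (nat_lit 13) (BT.leaf ⟨[(nat_lit 1), (nat_lit 7), (nat_lit 1), (nat_lit 8)], (nat_lit 9), (nat_lit 3), (nat_lit 0), (nat_lit 3)⟩) (BT.leaf ⟨[(nat_lit 1), (nat_lit 8), (nat_lit 1), (nat_lit 7)], (nat_lit 9), (nat_lit 1), (nat_lit 0), (nat_lit 3)⟩)) (BT.node (nat_lit 15) (BT.leaf ⟨[(nat_lit 2), (nat_lit 8), (nat_lit 2), (nat_lit 7)], (nat_lit 26), (nat_lit 2), (nat_lit 0), (nat_lit 3)⟩) (BT.node (nat_lit 16) (BT.leaf ⟨[(nat_lit 2),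 (nat_lit 7), (nat_lit 2), (nat_lit 8)], (nat_lit 26), (nat_lit 0), (nat_lit 0), (nat_lit 3)⟩) (BT.leaf ⟨[(nat_lit 2), (nat_lit 2), (nat_lit 2)], (nat_lit 17), (nat_lit 0), (nat_lit 0), (nat_lit 3)⟩)))))) (BT.node (nat_lit 25) (BT.node (nat_lit 21) (BT.node (nat_lit 19) (BT.node (nat_lit 18) (BT.leaf ⟨[(nat_lit 3), (nat_lit 3), (nat_lit 3), (nat_lit 3)], (nat_lit 2), (nat_lit 0), (nat_lit 0), (nat_lit 3)⟩) (BT.leaf ⟨[(nat_lit 6), (nat_lit 6), (nat_lit 3), (nat_lit 3)], (nat_lit 4), (nat_lit 2), (nat_lit 0), (nat_lit 3)⟩)) (BT.node (nat_lit 20) (BT.leaf ⟨[(nat_lit 6), (nat_lit 3), (nat_lit 3), (nat_lit 6)], (nat_lit 4), (nat_lit 3), (nat_lit 0), (nat_lit 3)⟩) (BT.leaf ⟨[(nat_lit 4), (nat_lit 6), (nat_lit 3), (nat_lit 5)], (nat_lit 6), (nat_lit 2), (nat_lit 0), (nat_lit 3)⟩))) (BT.node (nat_lit 23) (BT.node (nat_lit 22) (BT.leaf ⟨[(nat_lit 4), (nat_lit 5), (nat_lit 3), (nat_lit 6)], (nat_lit 23), (nat_lit 3), (nat_lit 0), (nat_lit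 3)⟩) (BT.leaf ⟨[(nat_lit 7), (nat_lit 7), (nat_lit 3), (nat_lit 3)], (nat_lit 10), (nat_lit 0), (nat_lit 0), (nat_lit 3)⟩)) (BT.node (nat_lit 24) (BT.leaf ⟨[(nat_lit 7), (nat_lit 3), (nat_lit 3), (nat_lit 7)], (nat_lit 10), (nat_lit 1), (nat_lit 0), (nat_lit 3)⟩) (BT.leaf ⟨[(nat_lit 3), (nat_lit 7), (nat_lit 3), (nat_lit 8)], (nat_lit 11), (nat_lit 3), (nat_lit 0), (nat_lit 3)⟩)))) (BT.node (nat_lit 29) (BT.node (nat_lit 27) (BT.node (nat_lit 26) (BT.leaf ⟨[(nat_lit 3), (nat_lit 8), (nat_lit 3), (nat_lit 7)], (nat_lit 11), (nat_lit 1), (nat_lit 0), (nat_lit 3)⟩) (BT.leaf ⟨[(nat_lit 5), (nat_lit 5), (nat_lit 4), (nat_lit 4)], (nat_lit 21), (nat_lit 0), (nat_lit 0), (nat_lit 3)⟩)) (BT.node (nat_lit 28) (BT.leaf ⟨[(nat_lit 3), (nat_lit 6), (nat_lit 4), (nat_lit 5)], (nat_lit 23), (nat_lit 1), (nat_lit 0), (nat_lit 3)⟩) (BT.leaf ⟨[(nat_lit 8), (nat_lit 8), (nat_lit 4), (nat_lit 4)], (nat_lit 27), (nat_lit 2), (nat_lit 0), (nat_lit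 3)⟩))) (BT.node (nat_lit 31) (BT.node (nat_lit 30) (BT.leaf ⟨[(nat_lit 4), (nat_lit 7), (nat_lit 4), (nat_lit 8)], (nat_lit 28), (nat_lit 0), (nat_lit 0), (nat_lit 3)⟩) (BT.leaf ⟨[(nat_lit 5), (nat_lit 7), (nat_lit 5), (nat_lit 8)], (nat_lit 12), (nat_lit 3), (nat_lit 0), (nat_lit 3)⟩)) (BT.node (nat_lit 32) (BT.leaf ⟨[(nat_lit 5), (nat_lit 8), (nat_lit 5), (nat_lit 7)], (nat_lit 12), (nat_lit 1), (nat_lit 0), (nat_lit 3)⟩) (BT.node (nat_lit 33) (BT.leaf ⟨[(nat_lit 3), (nat_lit 3), (nat_lit 7), (nat_lit 7)], (nat_lit 10), (nat_lit 2), (nat_lit 0), (nat_lit 3)⟩) (BT.leaf ⟨[(nat_lit 8), (nat_lit 3), (nat_lit 7), (nat_lit 3)], (nat_lit 11), (nat_lit 2), (nat_lit 0), (nat_lit 3)⟩))))))) (BT.node (nat_lit 51) (BT.node (nat_lit 42) (BT.node (nat_lit 38) (BT.node (nat_lit 36) (BT.node (nat_lit 35) (BT.leaf ⟨[(nat_lit 8), (nat_lit 1), (nat_lit 7), (nat_lit 1)], (nat_lit 9), (nat_lit 2), (nat_lit 0), (nat_lit 3)⟩) (BT.leaf ⟨[(nat_lit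 7), (nat_lit 1), (nat_lit 8), (nat_lit 1)], (nat_lit 9), (nat_lit 0), (nat_lit 0), (nat_lit 3)⟩)) (BT.node (nat_lit 37) (BT.leaf ⟨[(nat_lit 7), (nat_lit 2), (nat_lit 8), (nat_lit 2)], (nat_lit 26), (nat_lit 1), (nat_lit 0), (nat_lit 3)⟩) (BT.leaf ⟨[(nat_lit 8), (nat_lit 2), (nat_lit 7), (nat_lit 2)], (nat_lit 26), (nat_lit 3), (nat_lit 0), (nat_lit 3)⟩))) (BT.node (nat_lit 40) (BT.node (nat_lit 39) (BT.leaf ⟨[(nat_lit 4), (nat_lit 8), (nat_lit 4), (nat_lit 7)], (nat_lit 28), (nat_lit 2), (nat_lit 0), (nat_lit 3)⟩) (BT.leaf ⟨[(nat_lit 6), (nat_lit 8), (nat_lit 6), (nat_lit 7)], (nat_lit 29), (nat_lit 2), (nat_lit 0), (nat_lit 3)⟩)) (BT.node (nat_lit 41) (BT.leaf ⟨[(nat_lit 8), (nat_lit 4), (nat_lit 4), (nat_lit 8)], (nat_lit 27), (nat_lit 3), (nat_lit 0), (nat_lit 3)⟩) (BT.leaf ⟨[(nat_lit 6), (nat_lit 7), (nat_lit 6), (nat_lit 8)], (nat_lit 29), (nat_lit 0), (nat_lit 0), (nat_lit 3)⟩)))) (BT.node (nat_lit 46) (BT.node (nat_lit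 44) (BT.node (nat_lit 43) (BT.leaf ⟨[(nat_lit 3), (nat_lit 7), (nat_lit 7), (nat_lit 3)], (nat_lit 10), (nat_lit 3), (nat_lit 0), (nat_lit 3)⟩) (BT.leaf ⟨[(nat_lit 4), (nat_lit 4), (nat_lit 4), (nat_lit 4)], (nat_lit 19), (nat_lit 0), (nat_lit 0), (nat_lit 3)⟩)) (BT.node (nat_lit 45) (BT.leaf ⟨[(nat_lit 3), (nat_lit 1), (nat_lit 3), (nat_lit 1), (nat_lit 3), (nat_lit 1)], (nat_lit 1), (nat_lit 1), (nat_lit 0), (nat_lit 3)⟩) (BT.leaf ⟨[(nat_lit 5), (nat_lit 1), (nat_lit 5), (nat_lit 1), (nat_lit 5), (nat_lit 1)], (nat_lit 5), (nat_lit 1), (nat_lit 0), (nat_lit 3)⟩))) (BT.node (nat_lit 48) (BT.node (nat_lit 47) (BT.leaf ⟨[(nat_lit 5), (nat_lit 4), (nat_lit 4), (nat_lit 5)], (nat_lit 21), (nat_lit 1), (nat_lit 0), (nat_lit 3)⟩) (BT.leaf ⟨[(nat_lit 6), (nat_lit 3), (nat_lit 5), (nat_lit 4)], (nat_lit 6), (nat_lit 3), (nat_lit 0), (nat_lit 3)⟩)) (BT.node (nat_lit 49) (BT.leaf ⟨[(nat_lit 6), (nat_lit 4), (nat_lit 5), (nat_lit 3)],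 (nat_lit 23), (nat_lit 2), (nat_lit 0), (nat_lit 3)⟩) (BT.node (nat_lit 50) (BT.leaf ⟨[(nat_lit 8), (nat_lit 6), (nat_lit 7), (nat_lit 6)], (nat_lit 29), (nat_lit 3), (nat_lit 0), (nat_lit 3)⟩) (BT.leaf ⟨[(nat_lit 7), (nat_lit 6), (nat_lit 8), (nat_lit 6)], (nat_lit 29), (nat_lit 1), (nat_lit 0), (nat_lit 3)⟩)))))) (BT.node (nat_lit 60) (BT.node (nat_lit 55) (BT.node (nat_lit 53) (BT.node (nat_lit 52) (BT.leaf ⟨[(nat_lit 4), (nat_lit 2), (nat_lit 4), (nat_lit 2), (nat_lit 4), (nat_lit 2)], (nat_lit 18), (nat_lit 0), (nat_lit 0), (nat_lit 3)⟩) (BT.leaf ⟨[(nat_lit 6), (nat_lit 2), (nat_lit 6), (nat_lit 2), (nat_lit 6), (nat_lit 2)], (nat_lit 22), (nat_lit 0), (nat_lit 0), (nat_lit 3)⟩)) (BT.node (nat_lit 54) (BT.leaf ⟨[(nat_lit 4), (nat_lit 8), (nat_lit 8), (nat_lit 4)], (nat_lit 27), (nat_lit 1), (nat_lit 0), (nat_lit 3)⟩) (BT.leaf ⟨[(nat_lit 4), (nat_lit 4), (nat_lit 8), (nat_lit 8)], (nat_lit 27), (nat_lit 0), (nat_lit 0),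 (nat_lit 3)⟩))) (BT.node (nat_lit 57) (BT.node (nat_lit 56) (BT.leaf ⟨[(nat_lit 5), (nat_lit 4), (nat_lit 6), (nat_lit 3)], (nat_lit 6), (nat_lit 1), (nat_lit 0), (nat_lit 3)⟩) (BT.leaf ⟨[(nat_lit 5), (nat_lit 3), (nat_lit 6), (nat_lit 4)], (nat_lit 23), (nat_lit 0), (nat_lit 0), (nat_lit 3)⟩)) (BT.node (nat_lit 58) (BT.leaf ⟨[(nat_lit 3), (nat_lit 5), (nat_lit 4), (nat_lit 6)], (nat_lit 6), (nat_lit 0), (nat_lit 0), (nat_lit 3)⟩) (BT.node (nat_lit 59) (BT.leaf ⟨[(nat_lit 8), (nat_lit 5), (nat_lit 7), (nat_lit 5)], (nat_lit 12), (nat_lit 2), (nat_lit 0), (nat_lit 3)⟩) (BT.leaf ⟨[(nat_lit 7), (nat_lit 5), (nat_lit 8), (nat_lit 5)], (nat_lit 12), (nat_lit 0), (nat_lit 0), (nat_lit 3)⟩))))) (BT.node (nat_lit 64) (BT.node (nat_lit 62) (BT.node (nat_lit 61) (BT.leaf ⟨[(nat_lit 1), (nat_lit 3), (nat_lit 1), (nat_lit 3), (nat_lit 1), (nat_lit 3)], (nat_lit 1), (nat_lit 0), (nat_lit 0), (nat_lit 3)⟩) (BT.leaf ⟨[(nat_lit 2), (nat_lit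 4), (nat_lit 2), (nat_lit 4), (nat_lit 2), (nat_lit 4)], (nat_lit 18), (nat_lit 1), (nat_lit 0), (nat_lit 3)⟩)) (BT.node (nat_lit 63) (BT.leaf ⟨[(nat_lit 1), (nat_lit 6), (nat_lit 2), (nat_lit 3), (nat_lit 1), (nat_lit 5), (nat_lit 2), (nat_lit 4)], (nat_lit 7), (nat_lit 5), (nat_lit 0), (nat_lit 3)⟩) (BT.leaf ⟨[(nat_lit 1), (nat_lit 6), (nat_lit 2), (nat_lit 4), (nat_lit 1), (nat_lit 5), (nat_lit 2), (nat_lit 3)], (nat_lit 24), (nat_lit 4), (nat_lit 0), (nat_lit 3)⟩))) (BT.node (nat_lit 66) (BT.node (nat_lit 65) (BT.leaf ⟨[(nat_lit 1), (nat_lit 3), (nat_lit 2), (nat_lit 5), (nat_lit 1), (nat_lit 4), (nat_lit 2), (nat_lit 6)], (nat_lit 8), (nat_lit 7), (nat_lit 0), (nat_lit 3)⟩) (BT.leaf ⟨[(nat_lit 1), (nat_lit 4), (nat_lit 2), (nat_lit 5), (nat_lit 1), (nat_lit 3), (nat_lit 2), (nat_lit 6)], (nat_lit 25), (nat_lit 6), (nat_lit 0), (nat_lit 3)⟩)) (BT.node (nat_lit 67) (BT.leaf ⟨[(nat_lit 1), (nat_lit 5), (nat_lit 1), (nat_lit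 5), (nat_lit 1), (nat_lit 5)], (nat_lit 5), (nat_lit 0), (nat_lit 0), (nat_lit 3)⟩) (BT.node (nat_lit 68) (BT.leaf ⟨[(nat_lit 3), (nat_lit 3), (nat_lit 1), (nat_lit 4), (nat_lit 4), (nat_lit 2)], (nat_lit 3), (nat_lit 0), (nat_lit 0), (nat_lit 3)⟩) (BT.leaf ⟨[(nat_lit 3), (nat_lit 2), (nat_lit 4), (nat_lit 4), (nat_lit 1), (nat_lit 3)], (nat_lit 20), (nat_lit 2), (nat_lit 0), (nat_lit 3)⟩))))))))
noncomputable def eV1_hcs : List CW := []
noncomputable def eV1_H (x j : Nat) : Bx (Nat → Nat → Nat) := mkH eV1_L eV1_pb.1 eV1_e.get (lmap CW.w eV1_hcs) (nat_lit 192) (nat_lit 193) (nat_lit 9) (nat_lit 256) (nat_lit 32768) (nat_lit 16383) x (eV1_rots.get j)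
noncomputable def eV1_F (x b : Nat) : Bool := blkOK eV1_H eV1_ch (nat_lit 193) (nat_lit 256) (nat_lit 128) (nat_lit 8) (nat_lit 255) (nat_lit 20) (nat_lit 1048575) x b

theorem eV1_k0_0 : allFrom (eV1_F (nat_lit 0)) (nat_lit 0) (nat_lit 4) = true := by decide +kernel
theorem eV1_k1_0 : allFrom (eV1_F (nat_lit 1)) (nat_lit 0) (nat_lit 4) = true := by decide +kernel
theorem eV1_k2_0 : allFrom (eV1_F (nat_lit 2)) (nat_lit 0) (nat_lit 4) = true := by decide +kernel
theorem eV1_k3_0 : allFrom (eV1_F (nat_lit 3)) (nat_lit 0) (nat_lit 4) = true := by decide +kernel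
theorem eV1_k4_0 : allFrom (eV1_F (nat_lit 4)) (nat_lit 0) (nat_lit 4) = true := by decide +kernel
theorem eV1_k5_0 : allFrom (eV1_F (nat_lit 5)) (nat_lit 0) (nat_lit 4) = true := by decide +kernel
theorem eV1_k6_0 : allFrom (eV1_F (nat_lit 6)) (nat_lit 0) (nat_lit 4) = true := by decide +kernel
theorem eV1_k7_0 : allFrom (eV1_F (nat_lit 7)) (nat_lit 0) (nat_lit 4) = true := by decide +kernel
theorem eV1_k8_0 : allFrom (eV1_F (nat_lit 8)) (nat_lit 0) (nat_lit 4) = true := by decide +kernel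

theorem eV1_all : Cov eV1_F 4 9 0 := by
  have h := Cov.zero eV1_F 4
  have h := h.blk (b := 4) eV1_k0_0 rfl
  have h := h.next (y := 1) rfl rfl
  have h := h.blk (b := 4) eV1_k1_0 rfl
  have h := h.next (y := 2) rfl rfl
  have h := h.blk (b := 4) eV1_k2_0 rfl
  have h := h.next (y := 3) rfl rfl
  have h := h.blk (b := 4) eV1_k3_0 rfl
  have h := h.next (y := 4) rfl rfl
  have h := h.blk (b := 4) eV1_k4_0 rfl
  have h := h.next (y := 5) rfl rfl
  have h := h.blk (b := 4) eV1_k5_0 rfl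
  have h := h.next (y := 6) rfl rfl
  have h := h.blk (b := 4) eV1_k6_0 rfl
  have h := h.next (y := 7) rfl rfl
  have h := h.blk (b := 4) eV1_k7_0 rfl
  have h := h.next (y := 8) rfl rfl
  have h := h.blk (b := 4) eV1_k8_0 rfl
  have h := h.next (y := 9) rfl rfl
  exact h

theorem eV1 : Enum RV1 [] (gensW 4) 192 :=
  ⟨eV1_cols, eV1_ch, eV1_L, eV1_H, eV1_pb.1, eV1_e.get, [(nat_lit 0), (nat_lit 1), (nat_lit 2), (nat_lit 3), (nat_lit 4), (nat_lit 5), (nat_lit 6), (nat_lit 7), (nat_lit 8)], (nat_lit 0), (nat_lit 4), eV1_rots, eV1_hcs,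
    (nat_lit 193), (nat_lit 9), (nat_lit 256), (nat_lit 128), (nat_lit 32768), (nat_lit 16383), (nat_lit 8), (nat_lit 255), (nat_lit 20), (nat_lit 1048575), (nat_lit 1), (nat_lit 4),
    fun _ _ => rfl, fun _ => rfl, fun _ _ => rfl, by decide +kernel, eV1_all.1⟩

theorem pV1 : TV1.Pres RV1 (gensW 4) := ⟨CT.ok_spec TV1_ok, lall_iff.1 TV1_rel, by decide +kernel,
  by decide +kernel, by decide +kernel, eV1.bound (ug_rels _) (bound_nil _)⟩

instance instTV1 : TV1.Grp := pV1.grp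

noncomputable def RV2 : List (List Nat) := [[(nat_lit 1), (nat_lit 1), (nat_lit 1)],
  [(nat_lit 1), (nat_lit 3), (nat_lit 1), (nat_lit 3), (nat_lit 1), (nat_lit 3)],
  [(nat_lit 3), (nat_lit 3), (nat_lit 3), (nat_lit 3)],
  [(nat_lit 3), (nat_lit 3), (nat_lit 1), (nat_lit 4), (nat_lit 4), (nat_lit 2)],
  [(nat_lit 3), (nat_lit 3), (nat_lit 6), (nat_lit 6)],
  [(nat_lit 1), (nat_lit 5), (nat_lit 1), (nat_lit 5), (nat_lit 1), (nat_lit 5)],
  [(nat_lit 3), (nat_lit 5), (nat_lit 4), (nat_lit 6)],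
  [(nat_lit 3), (nat_lit 1), (nat_lit 5), (nat_lit 2), (nat_lit 4), (nat_lit 1), (nat_lit 6), (nat_lit 2)],
  [(nat_lit 3), (nat_lit 2), (nat_lit 5), (nat_lit 1), (nat_lit 4), (nat_lit 2), (nat_lit 6), (nat_lit 1)],
  [(nat_lit 7), (nat_lit 1), (nat_lit 8), (nat_lit 1)],
  [(nat_lit 7), (nat_lit 7), (nat_lit 3), (nat_lit 3)],
  [(nat_lit 7), (nat_lit 3), (nat_lit 8), (nat_lit 5)],
  [(nat_lit 7), (nat_lit 5), (nat_lit 8), (nat_lit 3)]]
noncomputable def TV2_c0 : BT (Bx Nat) := (BT.node (nat_lit 1) (BT.leaf (Bx.mk (nat_lit 0x48493140243356574e4a262b3a2e3d44453241253452534f4b352c3b0b111a1b0c12090f20211918170a1013141e22151c0d0e1f23161d070805060304010200))) (BT.node (nat_lit 2) (BT.leaf (Bx.mk (nat_lit 0x5e5f7d7c647a92936076828391906c6d6f6e70716b6a5a5b8b88657b8e8f61777e7f5d5c68698c8d38394342292a474628374c4d27363e3f51502f3055542d3c))) (BT.leaf (Bx.mk (nat_lit 0xbebfbcbda4a5b3b2aaab999ab9b89c9daeafa2a3b6b7a6a7a8a9babbacada1a09e9fb0b19bb4b59896979495787973726263585967898a668185868074758784)))))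
noncomputable def TV2_c1 : BT (Bx Nat) := (BT.node (nat_lit 1) (BT.leaf (Bx.mk (nat_lit 0x8382113d103b75747a76170f340c326d6c0b2e0a2c5f5e646035092506235756051f041d49484e4a2603160e0d403c3a330807312d2b241413221e1c15000201))) (BT.node (nat_lit 2) (BT.leaf (Bx.mk (nat_lit 0x3f3e8b88377bafae36777170676639388c8d69684342302fa1a02865a3a227615b5a51502a299b9853526f6e21209190194f9392184b45447d7c1b1a87841241))) (BT.leaf (Bx.mk (nat_lit 0xa5a49a999594a8a9b1b08685bdbc8a89adac7978bfbe9796b5b4abaa9f9e73726362bbba81b3b280b8b99d9c8f8e5d5c4d4c545547b7b6466ba7a66a7f7e5958)))))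
noncomputable def TV2_c2 : BT (Bx Nat) := (BT.node (nat_lit 1) (BT.leaf (Bx.mk (nat_lit 0x7f7e3c113a1071707b7726330f310c69682d0b2b0a5b5a6561172409220653521e051c0445444f4b3515030807413d3b341413322e2c250e0d231f1d16010002))) (BT.node (nat_lit 2) (BT.leaf (Bx.mk (nat_lit 0x838247467a37adac76363938a1a075745554302f87846d6c737264289f9e60272a2991905f5e818021208c8d57565d5c4e198f8e4a181b1a8b8849486b6a4012))) (BT.leaf (Bx.mk (nat_lit 0xabaab3b29d9c96978a89a7a69a99b7b67978afaea5a4b8b98685bfbe63626766a3a2959459bdbc58a9a8bbba4d4c515093926e6f7db1b07c43b5b4423f3e9b98)))))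
noncomputable def TV2_c3 : BT (Bx Nat) := (BT.node (nat_lit 1) (BT.leaf (Bx.mk (nat_lit 0x1413807c1c257879111210152c6b670e0d6a663a1662630b0c0a331d5551080754502b344c4d050604243b3e3f373602352f30282701262021191800170f0903))) (BT.node (nat_lit 2) (BT.leaf (Bx.mk (nat_lit 0x6d6c3c408b983938889baaab4342a8a95c5d7e7f2e3257562d31a1842a29a0879c9d6f6e999a464768691f2383821e22918d1b1a908c898a595885867273817d))) (BT.leaf (Bx.mk (nat_lit 0xacada3a29e9faeaf8e8f93929495a7a6b9b8bfbe75747170b0b19796bcbd6165bbba5f5e7a5b5a76a4a5b3b2b4b54b4fb7b64a4e7749487b6445446052533d41)))))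
noncomputable def TV2_c4 : BT (Bx Nat) := (BT.node (nat_lit 1) (BT.leaf (Bx.mk (nat_lit 0x1314817d152c797812110f1c256a660d0e6b67331d63620c0b093a16545007085551243b4d4c0605032b343f3e36373502302f27282601212018191700100a04))) (BT.node (nat_lit 2) (BT.leaf (Bx.mk (nat_lit 0x6c6d403c889b38398b98abaa4243a9a85d5c7f7e322e5657312da087292aa1849d9c6e6f9a9947466968231f8283221e908c1a1b918d8a89585986857372807c))) (BT.leaf (Bx.mk (nat_lit 0xadaca2a39f9eafae8f8e92939594a6a7b8b9bebf74757071b1b09697bdbc6561babb5e5f765a5b7aa5a4b2b3b5b44f4bb6b74e4a7b484977604445645352413d)))))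
noncomputable def TV2_c5 : BT (Bx Nat) := (BT.node (nat_lit 1) (BT.leaf (Bx.mk (nat_lit 0x78791e32736f14130f1012726e401f62633c235d590e0d090a0c5c58313d4c4d2d41474308070304064642383902353736292a012628271a1b00171918110b05))) (BT.node (nat_lit 2) (BT.leaf (Bx.mk (nat_lit 0xb0b16a6b8ca03f3e8da14445343b5f5e333aa6a77d7ca4a554559b90302f98917071252c4948242b969767669495808187882120848b5a5b161d7574151c222e))) (BT.leaf (Bx.mk (nat_lit 0xa3a2acad93928f8eafae9e9f83827f7eb6b7bdbc85869d9c6d6c6968bebf7a76b5b4a8a9618a896557565352babb6460b8b97b774e999a4a4babaa4fb2b35150)))))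
noncomputable def TV2_c6 : BT (Bx Nat) := (BT.node (nat_lit 1) (BT.leaf (Bx.mk (nat_lit 0x7978222e726e1314100f11736f3c236362401f5c580d0e0a090b5d592d414d4c313d4642070804030547433938350236372a29260127281b1a17001819120c06))) (BT.node (nat_lit 2) (BT.leaf (Bx.mk (nat_lit 0xb1b06b6a8da13e3f8ca045443b345e5f3a33a7a67c7da5a4555498912f309b9071702c2548492b249796666795948180848b202187885b5a1d1674751c151e32))) (BT.leaf (Bx.mk (nat_lit 0xa2a3adac92938e8faeaf9f9e82837e7fb7b6bcbd86859c9d6c6d6869bfbe767ab4b5a9a865898a6156575253bbba6064b9b8777b4a9a994e4faaab4bb3b25051)))))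
noncomputable def TV2_c7 : BT (Bx Nat) := (BT.node (nat_lit 1) (BT.leaf (Bx.mk (nat_lit 0x1112827e75710f1079781474706d690b0c6c685f5b090a63620e5e5a575305065652494503044d4c08484402353f3e39380126302f2a29001721201b1a130d07))) (BT.node (nat_lit 2) (BT.leaf (Bx.mk (nat_lit 0x3c40b1b0afad3637aeac343babaa333aa9a82e32a7a62d31a5a4a39f2728a29e252c9d9c242b9a991f2397961e229594938f1819928e161d8a89151c8685837f))) (BT.leaf (Bx.mk (nat_lit 0xa0a1989b90918c8d888b848780817c7d777b767a72736e6f6a6b66676165bfbe60645c5dbd5859bc545550514b4fbbba4a4eb9b8b74647b6b54243b43d41b3b2)))))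
noncomputable def TV2_c8 : BT (Bx Nat) := (BT.node (nat_lit 1) (BT.leaf (Bx.mk (nat_lit 0x1211837f7470100f78791375716c680c0b6d695e5a0a0962630d5f5b565206055753484404034c4d07494535023e3f383926012f30292a170020211a1b140e08))) (BT.node (nat_lit 2) (BT.leaf (Bx.mk (nat_lit 0x403cb0b1aeac3736afad3b34aaab3a33a8a9322ea6a7312da4a5a29e2827a39f2c259c9d2b24999a231f9697221e9495928e1918938f1d16898a1c158586827e))) (BT.leaf (Bx.mk (nat_lit 0xa1a09b9891908d8c8b88878481807d7c7b777a7673726f6e6b6a67666561bebf64605d5cbc5958bd555451504f4bbabb4e4ab8b9b64746b7b44342b5413db2b3)))))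
noncomputable def TV2_w : BT (Bx Nat) := (BT.node (nat_lit 1) (BT.leaf (Bx.mk (nat_lit 0x852000752000252000152000242000142000832000732000632000532000332000232000132000261000161000851000751000251000151000241000141000831000731000631000531000331000231000131000026000016000085000075000025000015000024000014000083000073000063000053000033000023000013000082000072000062000052000042000032000081000071000061000051000041000031000008000007000006000005000004000003000002000001000000))) (BT.node (nat_lit 2) (BT.leaf (Bx.mk (nat_lit 0x8152007152004152003152002632001632008532007532002532001532008232007232006232005232008132007132006132005132008251007251004251003251008151007151004151003151002631001631008531007531002531001531008231007231006231005231008131007131006131005131000825000725000425000325000815000715000415000315000263000163000853000753000253000153000823000723000623000523000813000713000613000513000262000162))) (BT.leaf (Bx.mk (nat_lit 0x832531732531815131715131083253073253083153073153082523072523081513071513083252073252083152073152082532072532081532071532085232075232085132075132083251073251083151073151082531072531042531032531081531071531085231075231016131085131075131015131008325007325008315007315008253007253004253003253008153007153004153003153002623008523007523002523001613008513007513001513008252007252004252003252)))))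
noncomputable def TV2_cols : List (BT (Bx Nat)) := [TV2_c0, TV2_c1, TV2_c2, TV2_c3, TV2_c4, TV2_c5, TV2_c6, TV2_c7, TV2_c8]
noncomputable def TV2_ch (x j : Nat) : Bx Nat := chk TV2_cols x j
noncomputable def TV2_wc (_ j : Nat) : Bx Nat := TV2_w.get j
noncomputable def TV2 : CT := ⟨(nat_lit 192), (nat_lit 8), (nat_lit 255), TV2_ch, (nat_lit 24), (nat_lit 16777215), TV2_wc, (nat_lit 510)⟩
theorem TV2_ok : TV2.ok = true := by decide +kernel
theorem TV2_rel : lall TV2.relOK RV2 = true := by decide +kernel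
noncomputable def eV2_c0 : BT (Bx Nat) := (BT.leaf (Bx.mk (nat_lit 0x0)))
noncomputable def eV2_c1 : BT (Bx Nat) := (BT.leaf (Bx.mk (nat_lit 0x60da660ea590d9b90e9a60d9660e9540ca940caa40cb240cb190d8790e8640cbe40cbd48d8b48e8a785ae785ad90d7a90e7940cc040cbf48e9848d9748cb650cb548dac48eab785a07859f38c7448c7390d6490e6358cbc58cbb48c8248eb448db338c81485b9785ba60d9e60e9d785907858f40c5e60c5d90d4e90e4d405558055698548885b8885b79854760c6c50ea858da788c6b785807857f5445a40d5990d4090e3f38c8c48c899853890c7c885b0885af9853790c78785727857140d6853e6790d3a90e3948c8d38c8e7856a785696c0449414390d3190e3048da26bea19852990c66885a4885a39852890c627855c7855b5c3526c25190d2b90e2aa019ca0199785547855353e7040d6f90d2290e2148d926be919851a90c5088594885939851990c4c785467854540d7e5447d90d1c90e1ba0188a01859851390c4288584885839851290c3e9851190c3c8857688575a017ba0177685189851090c359850d90c338856e8856d9850c90c2f9850b90c2d885608855fa0165a0161605369850a90c269850790c2488558885579850690c209850590c1e8854a88549a014fa014b80d279850490c177850f7850ea0141a013da013ba013490d0990e08a0132a012ea012ca01258851588514a0123a011fa011da01169850190c03a010200000)))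
noncomputable def eV2_c2 : BT (Bx Nat) := (BT.leaf (Bx.mk (nat_lit 0x384ac384ab384b4384b35049e5049d8109750f989108b90f8a404a8484a74049b4049a384b8384b79107a90f79811b0811af404a6404a5384b9384ba4848750486584c0584bf9106490f634046860467811a4811a358496584959845a884be884bd98459404aa404a9584bc584bb9104e90f4d404526045181194811933046f404703047e404b2404b14047d98444884b6884b5984439104090f3f4049c30499811848118338448484478847b98438884ae884ad88477984379103a90f39304a2404a1811768117548456384559103190f3058488804858116e8116d38474484738846598429884a08849f88461984289102b90f2a3849258491811608115f48482384819102290f218bf8d48f8e81158811575045e6045d8844f9841a884908848f8844b984199101c90f1ba018ca01898114a811496046c8846b8844198413884808847f8843d984128843b984118847288471a017ca0178691278843498410884329840d8846a884698842e9840c8842c9840b8845c8845ba0166a016278418884259840a884239840788454884538841f984068841d984058844688445a0150a014c70f3688416984049100990f08a0142a013ea013ca01358111581114a0133a012fa012da01268840f8840ea0124a0120a011ea01178840298401a010300000)))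
noncomputable def eV2_c3 : BT (Bx Nat) := (BT.leaf (Bx.mk (nat_lit 0x3a0ad39fae5a0a459fa32879f287a0320af31fb06078f487905a09459f9349f95520965a0a859fa7287ba287b931fc0320bf9207691f759207291f7149fb1520b2487984879771fbd6a0be9876272966320bc31fbb9206091f5f33b7b9205c91f5b10777507a5407a65a0b459fb371fb56a0b69874c72950587b8507b79874b7294f212789204a91f4942f7c529659204691f455456160753587549873e729425876e5876d9873d729412c68c307999203a91f393a1892a19c721ab8a1ac63b4461c43607a98a1aa6bb5d69c5e6077f587809872f7293359f585a0579872e72932587a2492859202b91f2aa01a15af887219d8a19e63b7061c6f6079a8a19b687475874871f696a06a987207292458784587839871f72923587925878e9201c91f1ba0191a018d7218a8a18b5875a60759607868a1876bb7369c74587825877e9201591f14a0181a017d6071d58726707798a17a81c127071391211607167872d5876c587689200f91f0ea016ba01676073b69217707638a16481c0c7070d9120b6073492f1e58756587529200991f08a0155a01517312c587357074d8a14e81c067070791205732258873c7873f8a140887388873798703a0136787308a131887298872898702a0127787218a1228871a8871998701a0118a0110a010aa010400000)))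
noncomputable def eV2_c4 : BT (Bx Nat) := (BT.leaf (Bx.mk (nat_lit 0x286ae286ad606a3686a4286a02869f327b0336af627905b68f60693686945069650695486a7406a8286b9286ba306bf306c08067568676806716ac72506b2506b14a7975b698506be506bd62a6698662336bb327bc8065f68660206778065b6ac5c3967b536a6527a5486b3406b4506b6506b562a509864c536b76a7b862a4f9864b2067c806496864a3067850661806456ac4640665636546275362a429863e6366d6a76e62a419863d386892869c806397a73a1868c1aa99886ac886ab6064360644886aa886a95865e5865d636806277f62a339862f606576865862a329862e686a1486888062a7a72ba01a2486858869e8869d6066f606708869b8869a61548696475066a5066962a2498620636836a78462a239861f686916868d8061b7a71ca0192a018e8868b8868a615597165a88687886865867458673686816867d8061482715a0182a017e937166ba2d8867a8867991613915129861062a1d6b9266866b686678060e8270fa016ca0168837346861e88664886639160d9150c9860a62a3b6861768655686518060882709a0156a0152886256ba3c8864e8864d9160791506986046062c6b935886408863f795377863888636986038863188630795287862988627986028862288621795197861a8861898601a0111a010ba010500000)))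
noncomputable def eV2_c5 : BT (Bx Nat) := (BT.leaf (Bx.mk (nat_lit 0x919a491aa3289ad289ae9199491a939199091a8f21ab0219af51a9f499a09198491a839198091a7f39ab7399b829abe299bd5198661a8759a9e5999d9196e91a6d9196a91a69789bf589c039b7b13377499b649ab5519a961aaa41a625098b4898a930669195891a579195491a53789bb589bc289653bd61789b9589ba3097c109786094f5099a5099b5094b41a4c59aac599ab93050789b3589b463d5263c51789b1589b26bd6b5bc6c3bc8d430a1809408093f2898e31aa26094570946989357093c589605895f989347093b789a7589a863d7e63c7d789a5589a6589554895649a9c20991809318093061b99309926097170972989267092d69a4a69949989257092c7899758998489685096778995589966bd815bc8249a8858989809228092161b858898c71a5b8195c989177091e5897658975989167091d609234892f6897979a7a6091f7893368974689709191591a14989108091181b13a0173a016f609415b3206896379a646093d930246895e6895a9190f91a0e9890a8090b81b0da015da0159633324893e6894d79a4e61b2e8894268948689449190991a08989048090581b07a0147a0143789397993a989038893688938a01377892a7992b989028892788929a01287891b7991c98901889188891aa0119a0112a010ca010600000)))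
noncomputable def eV2_c6 : BT (Bx Nat) := (BT.leaf (Bx.mk (nat_lit 0x61ea381ea4208ae208ad61e9381e9461e8f81e90308af308b0408a04089f61e8381e8461e7f81e80188b8188b7328bd31ebe50887508865889d4889e61e6d81e6e61e6981e6a888c0888bf288773887b408b5488b6508aa508a94086659e8a5a88b5886261e5781e5861e5381e54888bc888bb3b46129465888ba888b9314783087c9384b5a89b51e9a6284f40850588ab488ac5884c888b4888b35085160852888b2888b15886c5886b3b58e308a27083f728401938d088a161e466284571e3c9883579e5f6a86071e3b98834888a8888a75087d6087e888a6888a5535565b455888993139270830728313889c3089161e726287171e2d98826788496884a71e2c988258889888897535676346888896888955888258881888856938c7082172822388885a8896085c6085b71e1e9881779e756a87671e1d988169381f6933389e7a8a879514236942f7a8737a86f7081481e15914119881091312a0174a01708383d5882489e648a86351441588207a85d7a8597080e81e0f9140b9880a9130ca015ea015a8882e6934289e4e8a84d508326943e7a8477a8437080881e09914059880491306a0148a01448883a88839788369880389337a01388882b8882a788279880289328a01298881c8881b788189880189319a011aa0113a010da010700000)))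
noncomputable def eV2_c7 : BT (Bx Nat) := (BT.leaf (Bx.mk (nat_lit 0x98ba1918a298b9948b9c98b919189298b8d9188e98b8958b8c98b8548b8898b819188298b7d9187e98b7868b7c98b7768b7b98b736ad7498b6f58b7098b6b9186c98b679186898b6268b6650bc0a01bf98b6168b6598b5d6ad5e7a4be98b5958b5aa01bd98b559185698b519185298b4c68b5050bbca01bb98b4b68b4f50bbaa01b97a5b898b476ad48a01b77a4b698b4358b44a01b598b3e68b4250bb4a01b398b3d68b4150bb2a01b17a5b07a4ae98b3779838a01afa01ad98b3580b3c78baca01ab98b3480b3b78baaa01a998b2f68b3350ba8a01a798b2e68b3250ba6a01a57a5a47a4a098b2879829a01a3a019f98b2680b2d78b9ea019d98b2580b2c78b9ba019a98b2068b2450b98a019798b1f68b2350b96a01957a5947a49098b197981aa0193a018f98b1780b1e78b8ba018a98b1680b1d78b87a01867a5847a48098b1279813a0183a017f7a5767a47298b109181178b7aa017991715a0175a01717a56e7a46a98b0c7980da016da01697a5607a45c98b0a9180b78b64a01639170fa015fa015b7a5587a45498b0679807a0157a01537a54a7a44698b049180578b4ea014d91709a0149a014598b0378b3678b40a013f8973aa013998b0278b2778b31a01308972ba012a98b0178b1878b22a01218971ca011ba0114a010ea010800000)))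
noncomputable def eV2_c8 : BT (Bx Nat) := (BT.leaf (Bx.mk (nat_lit 0x5aba298aa170a9c98a995ab9298a915ab8e98a8d70a8c98a8970a8898a855ab8298a815ab7e98a7d70a7c98a7870a7b98a778227498a738227098a6f5ab6c98a6b5ab6898a6770a6698a6288abfa01c070a6598a618225e98a5d523bd8225a98a59a01be5ab5698a555ab5298a5170a5098a4c88abba01bc70a4f98a4b88ab9a01ba626b78224898a47a01b8523b58224498a43a01b670a4298a3e88ab3a01b470a4198a3d88ab1a01b2726af723ad8223898a37a01b0a01ae70a3c98a3560aaba01ac70a3b98a3462ea9a01aa70a3398a2f88aa7a01a870a3298a2e88aa5a01a6726a37239f8222998a28a01a4a01a070a2d98a2660a9da019e70a2c98a2562e9aa019b70a2498a2088a97a019870a2398a1f88a95a0196726937238f8221a98a19a0194a019070a1e98a1760a8aa018b70a1d98a1662e86a0187726837237f8221398a12a0184a01808a6758a37180a1198a1070a79a017a81d14a0176a01727266d723698220d98a0ca016ea016a8a65f8a35b80a0b98a0a70a63a016481d0ea0160a015c72657723538220798a06a0158a01548a6498a34580a0598a0470a4da014e81d08a014aa014688a3698a0370a3fa014088a39a013a88a2798a0270a30a013188a2aa012b88a1898a0170a21a012288a1ba011ca0115a010fa010900000)))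
noncomputable def eV2_p : BT (Bx Nat) := (BT.leaf (Bx.mk (nat_lit 0x1a848d423e99234c8f6448b223d8d22c68f6248b123d8522c28f6048b023d7d22be8f5e08af03d7722bb8f5cc8ae63d6f22b78f5ac8ad63d6722b38f5888ac43d6212b1075848ac23d5d22ae8f5681ab245591eac8315488aa3c5122288f13088983c4c12260712c88963c4b122587120288e44471e2385110188644431e21830f8887c3c3e121f070f4887a3c3d121e870e028700c37221b8f0dc286e0c35221a8f0d4686a2c34221a0f0d068682c2f22178f0bc485e1c2e22170f0b8485c1c290a14830a088503c280a1403098884c3c261a130b094884a3c251a128ac8086403b20119006c7c863e3b1f118f86c6826340b19218c8ec6426320b17218b8ec5c662e2b16218b0ec58662c2b13098982c4886243b12098902c4426220b1021880ec4066202b100d8804c40161a130d058610c307618130c058584c2c1614430a1d850cc2856141b0a09850281c240e0a0621030e818240c0a0509028281084083a0419020a8103408120405019080c7406320315018880c340442021d010c808540422020c809040472023101148088404320211010400000000)))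
noncomputable def eV2_e : BT Nat := BT.leaf (nat_lit 0)
noncomputable def eV2_cols : List (BT (Bx Nat)) := [eV2_c0, eV2_c1, eV2_c2, eV2_c3, eV2_c4, eV2_c5, eV2_c6, eV2_c7, eV2_c8]
noncomputable def eV2_ch (x j : Nat) : Bx Nat := chunkG eV2_cols (nat_lit 1) x j
noncomputable def eV2_L (x : Nat) : Bx (Nat → Nat) := lookG eV2_ch (nat_lit 8) (nat_lit 255) (nat_lit 20) (nat_lit 1048575) x
noncomputable def eV2_pc (_ j : Nat) : Bx Nat := eV2_p.get j
noncomputable def eV2_pb : Bx (Nat → Nat) := lookG eV2_pc (nat_lit 8) (nat_lit 255) (nat_lit 17) (nat_lit 131071) (nat_lit 0)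
noncomputable def eV2_rots : BT CW := (BT.node (nat_lit 35) (BT.node (nat_lit 17) (BT.node (nat_lit 8) (BT.node (nat_lit 4) (BT.node (nat_lit 2) (BT.node (nat_lit 1) (BT.leaf ⟨[], (nat_lit 1000000), (nat_lit 0), (nat_lit 0), (nat_lit 0)⟩) (BT.leaf ⟨[], (nat_lit 1000000), (nat_lit 0), (nat_lit 0), (nat_lit 1)⟩)) (BT.node (nat_lit 3) (BT.leaf ⟨[], (nat_lit 1000000), (nat_lit 0), (nat_lit 0), (nat_lit 2)⟩) (BT.leaf ⟨[(nat_lit 2), (nat_lit 1)], (nat_lit 16), (nat_lit 1), (nat_lit 0), (nat_lit 3)⟩))) (BT.node (nat_lit 6) (BT.node (nat_lit 5) (BT.leaf ⟨[(nat_lit 1), (nat_lit 2)], (nat_lit 16), (nat_lit 0), (nat_lit 0), (nat_lit 3)⟩) (BT.leaf ⟨[(nat_lit 4), (nat_lit 3)], (nat_lit 15), (nat_lit 1), (nat_lit 0), (nat_lit 3)⟩)) (BT.node (nat_lit 7) (BT.leaf ⟨[(nat_lit 3), (nat_lit 4)], (nat_lit 15), (nat_lit 0), (nat_lit 0), (nat_lit 3)⟩) (BT.leaf ⟨[(nat_lit 6), (nat_lit 5)], (nat_lit 14), (nat_lit 1), (nat_lit 0), (nat_lit 3)⟩))))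 (BT.node (nat_lit 12) (BT.node (nat_lit 10) (BT.node (nat_lit 9) (BT.leaf ⟨[(nat_lit 5), (nat_lit 6)], (nat_lit 14), (nat_lit 0), (nat_lit 0), (nat_lit 3)⟩) (BT.leaf ⟨[(nat_lit 8), (nat_lit 7)], (nat_lit 13), (nat_lit 1), (nat_lit 0), (nat_lit 3)⟩)) (BT.node (nat_lit 11) (BT.leaf ⟨[(nat_lit 7), (nat_lit 8)], (nat_lit 13), (nat_lit 0), (nat_lit 0), (nat_lit 3)⟩) (BT.leaf ⟨[(nat_lit 1), (nat_lit 1), (nat_lit 1)], (nat_lit 0), (nat_lit 0), (nat_lit 0), (nat_lit 3)⟩))) (BT.node (nat_lit 14) (BT.node (nat_lit 13) (BT.leaf ⟨[(nat_lit 1), (nat_lit 7), (nat_lit 1), (nat_lit 8)], (nat_lit 9), (nat_lit 3), (nat_lit 0), (nat_lit 3)⟩) (BT.leaf ⟨[(nat_lit 1), (nat_lit 8), (nat_lit 1), (nat_lit 7)], (nat_lit 9), (nat_lit 1), (nat_lit 0), (nat_lit 3)⟩)) (BT.node (nat_lit 15) (BT.leaf ⟨[(nat_lit 2), (nat_lit 8), (nat_lit 2), (nat_lit 7)], (nat_lit 26), (nat_lit 2), (nat_lit 0), (nat_lit 3)⟩) (BT.node (nat_lit 16) (BT.leaf ⟨[(nat_lit 2),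 (nat_lit 7), (nat_lit 2), (nat_lit 8)], (nat_lit 26), (nat_lit 0), (nat_lit 0), (nat_lit 3)⟩) (BT.leaf ⟨[(nat_lit 2), (nat_lit 2), (nat_lit 2)], (nat_lit 17), (nat_lit 0), (nat_lit 0), (nat_lit 3)⟩)))))) (BT.node (nat_lit 26) (BT.node (nat_lit 21) (BT.node (nat_lit 19) (BT.node (nat_lit 18) (BT.leaf ⟨[(nat_lit 3), (nat_lit 3), (nat_lit 3), (nat_lit 3)], (nat_lit 2), (nat_lit 0), (nat_lit 0), (nat_lit 3)⟩) (BT.leaf ⟨[(nat_lit 6), (nat_lit 6), (nat_lit 3), (nat_lit 3)], (nat_lit 4), (nat_lit 2), (nat_lit 0), (nat_lit 3)⟩)) (BT.node (nat_lit 20) (BT.leaf ⟨[(nat_lit 6), (nat_lit 3), (nat_lit 3), (nat_lit 6)], (nat_lit 4), (nat_lit 3), (nat_lit 0), (nat_lit 3)⟩) (BT.leaf ⟨[(nat_lit 4), (nat_lit 6), (nat_lit 3), (nat_lit 5)], (nat_lit 6), (nat_lit 2), (nat_lit 0), (nat_lit 3)⟩))) (BT.node (nat_lit 23) (BT.node (nat_lit 22) (BT.leaf ⟨[(nat_lit 4), (nat_lit 5), (nat_lit 3), (nat_lit 6)], (nat_lit 23), (nat_lit 3), (nat_lit 0), (nat_lit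 3)⟩) (BT.leaf ⟨[(nat_lit 7), (nat_lit 7), (nat_lit 3), (nat_lit 3)], (nat_lit 10), (nat_lit 0), (nat_lit 0), (nat_lit 3)⟩)) (BT.node (nat_lit 24) (BT.leaf ⟨[(nat_lit 7), (nat_lit 3), (nat_lit 3), (nat_lit 7)], (nat_lit 10), (nat_lit 1), (nat_lit 0), (nat_lit 3)⟩) (BT.node (nat_lit 25) (BT.leaf ⟨[(nat_lit 5), (nat_lit 7), (nat_lit 3), (nat_lit 8)], (nat_lit 11), (nat_lit 3), (nat_lit 0), (nat_lit 3)⟩) (BT.leaf ⟨[(nat_lit 5), (nat_lit 8), (nat_lit 3), (nat_lit 7)], (nat_lit 12), (nat_lit 1), (nat_lit 0), (nat_lit 3)⟩))))) (BT.node (nat_lit 30) (BT.node (nat_lit 28) (BT.node (nat_lit 27) (BT.leaf ⟨[(nat_lit 5), (nat_lit 5), (nat_lit 4), (nat_lit 4)], (nat_lit 21), (nat_lit 0), (nat_lit 0), (nat_lit 3)⟩) (BT.leaf ⟨[(nat_lit 3), (nat_lit 6), (nat_lit 4), (nat_lit 5)], (nat_lit 23), (nat_lit 1), (nat_lit 0), (nat_lit 3)⟩)) (BT.node (nat_lit 29) (BT.leaf ⟨[(nat_lit 8), (nat_lit 8), (nat_lit 4), (nat_lit 4)], (nat_lit 27), (nat_lit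 2), (nat_lit 0), (nat_lit 3)⟩) (BT.leaf ⟨[(nat_lit 6), (nat_lit 7), (nat_lit 4), (nat_lit 8)], (nat_lit 28), (nat_lit 0), (nat_lit 0), (nat_lit 3)⟩))) (BT.node (nat_lit 32) (BT.node (nat_lit 31) (BT.leaf ⟨[(nat_lit 3), (nat_lit 8), (nat_lit 5), (nat_lit 7)], (nat_lit 11), (nat_lit 1), (nat_lit 0), (nat_lit 3)⟩) (BT.leaf ⟨[(nat_lit 3), (nat_lit 7), (nat_lit 5), (nat_lit 8)], (nat_lit 12), (nat_lit 3), (nat_lit 0), (nat_lit 3)⟩)) (BT.node (nat_lit 33) (BT.leaf ⟨[(nat_lit 3), (nat_lit 3), (nat_lit 7), (nat_lit 7)], (nat_lit 10), (nat_lit 2), (nat_lit 0), (nat_lit 3)⟩) (BT.node (nat_lit 34) (BT.leaf ⟨[(nat_lit 8), (nat_lit 5), (nat_lit 7), (nat_lit 3)], (nat_lit 11), (nat_lit 2), (nat_lit 0), (nat_lit 3)⟩) (BT.leaf ⟨[(nat_lit 8), (nat_lit 1), (nat_lit 7), (nat_lit 1)], (nat_lit 9), (nat_lit 2), (nat_lit 0), (nat_lit 3)⟩))))))) (BT.node (nat_lit 52) (BT.node (nat_lit 43) (BT.node (nat_lit 39) (BT.node (nat_lit 37) (BT.node (nat_lit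 36) (BT.leaf ⟨[(nat_lit 7), (nat_lit 1), (nat_lit 8), (nat_lit 1)], (nat_lit 9), (nat_lit 0), (nat_lit 0), (nat_lit 3)⟩) (BT.leaf ⟨[(nat_lit 7), (nat_lit 2), (nat_lit 8), (nat_lit 2)], (nat_lit 26), (nat_lit 1), (nat_lit 0), (nat_lit 3)⟩)) (BT.node (nat_lit 38) (BT.leaf ⟨[(nat_lit 8), (nat_lit 2), (nat_lit 7), (nat_lit 2)], (nat_lit 26), (nat_lit 3), (nat_lit 0), (nat_lit 3)⟩) (BT.leaf ⟨[(nat_lit 4), (nat_lit 8), (nat_lit 6), (nat_lit 7)], (nat_lit 28), (nat_lit 2), (nat_lit 0), (nat_lit 3)⟩))) (BT.node (nat_lit 41) (BT.node (nat_lit 40) (BT.leaf ⟨[(nat_lit 6), (nat_lit 8), (nat_lit 4), (nat_lit 7)], (nat_lit 29), (nat_lit 2), (nat_lit 0), (nat_lit 3)⟩) (BT.leaf ⟨[(nat_lit 3), (nat_lit 7), (nat_lit 7), (nat_lit 3)], (nat_lit 10), (nat_lit 3), (nat_lit 0), (nat_lit 3)⟩)) (BT.node (nat_lit 42) (BT.leaf ⟨[(nat_lit 4), (nat_lit 4), (nat_lit 4), (nat_lit 4)], (nat_lit 19), (nat_lit 0), (nat_lit 0), (nat_lit 3)⟩) (BT.leaf ⟨[(nat_lit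 8), (nat_lit 4), (nat_lit 4), (nat_lit 8)], (nat_lit 27), (nat_lit 3), (nat_lit 0), (nat_lit 3)⟩)))) (BT.node (nat_lit 47) (BT.node (nat_lit 45) (BT.node (nat_lit 44) (BT.leaf ⟨[(nat_lit 4), (nat_lit 8), (nat_lit 8), (nat_lit 4)], (nat_lit 27), (nat_lit 1), (nat_lit 0), (nat_lit 3)⟩) (BT.leaf ⟨[(nat_lit 7), (nat_lit 6), (nat_lit 8), (nat_lit 4)], (nat_lit 29), (nat_lit 1), (nat_lit 0), (nat_lit 3)⟩)) (BT.node (nat_lit 46) (BT.leaf ⟨[(nat_lit 8), (nat_lit 3), (nat_lit 7), (nat_lit 5)], (nat_lit 12), (nat_lit 2), (nat_lit 0), (nat_lit 3)⟩) (BT.leaf ⟨[(nat_lit 3), (nat_lit 1), (nat_lit 3), (nat_lit 1), (nat_lit 3), (nat_lit 1)], (nat_lit 1), (nat_lit 1), (nat_lit 0), (nat_lit 3)⟩))) (BT.node (nat_lit 49) (BT.node (nat_lit 48) (BT.leaf ⟨[(nat_lit 5), (nat_lit 1), (nat_lit 5), (nat_lit 1), (nat_lit 5), (nat_lit 1)], (nat_lit 5), (nat_lit 1), (nat_lit 0), (nat_lit 3)⟩) (BT.leaf ⟨[(nat_lit 3), (nat_lit 6), (nat_lit 6), (nat_lit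 3)], (nat_lit 4), (nat_lit 1), (nat_lit 0), (nat_lit 3)⟩)) (BT.node (nat_lit 50) (BT.leaf ⟨[(nat_lit 3), (nat_lit 3), (nat_lit 6), (nat_lit 6)], (nat_lit 4), (nat_lit 0), (nat_lit 0), (nat_lit 3)⟩) (BT.node (nat_lit 51) (BT.leaf ⟨[(nat_lit 5), (nat_lit 4), (nat_lit 4), (nat_lit 5)], (nat_lit 21), (nat_lit 1), (nat_lit 0), (nat_lit 3)⟩) (BT.leaf ⟨[(nat_lit 6), (nat_lit 3), (nat_lit 5), (nat_lit 4)], (nat_lit 6), (nat_lit 3), (nat_lit 0), (nat_lit 3)⟩)))))) (BT.node (nat_lit 61) (BT.node (nat_lit 56) (BT.node (nat_lit 54) (BT.node (nat_lit 53) (BT.leaf ⟨[(nat_lit 6), (nat_lit 4), (nat_lit 5), (nat_lit 3)], (nat_lit 23), (nat_lit 2), (nat_lit 0), (nat_lit 3)⟩) (BT.leaf ⟨[(nat_lit 4), (nat_lit 7), (nat_lit 6), (nat_lit 8)], (nat_lit 29), (nat_lit 0), (nat_lit 0), (nat_lit 3)⟩)) (BT.node (nat_lit 55) (BT.leaf ⟨[(nat_lit 4), (nat_lit 2), (nat_lit 4), (nat_lit 2), (nat_lit 4), (nat_lit 2)], (nat_lit 18), (nat_lit 0), (nat_lit 0),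 (nat_lit 3)⟩) (BT.leaf ⟨[(nat_lit 6), (nat_lit 2), (nat_lit 6), (nat_lit 2), (nat_lit 6), (nat_lit 2)], (nat_lit 22), (nat_lit 0), (nat_lit 0), (nat_lit 3)⟩))) (BT.node (nat_lit 58) (BT.node (nat_lit 57) (BT.leaf ⟨[(nat_lit 4), (nat_lit 5), (nat_lit 5), (nat_lit 4)], (nat_lit 21), (nat_lit 3), (nat_lit 0), (nat_lit 3)⟩) (BT.leaf ⟨[(nat_lit 4), (nat_lit 4), (nat_lit 5), (nat_lit 5)], (nat_lit 21), (nat_lit 2), (nat_lit 0), (nat_lit 3)⟩)) (BT.node (nat_lit 59) (BT.leaf ⟨[(nat_lit 3), (nat_lit 5), (nat_lit 4), (nat_lit 6)], (nat_lit 6), (nat_lit 0), (nat_lit 0), (nat_lit 3)⟩) (BT.node (nat_lit 60) (BT.leaf ⟨[(nat_lit 5), (nat_lit 4), (nat_lit 6), (nat_lit 3)], (nat_lit 6), (nat_lit 1), (nat_lit 0), (nat_lit 3)⟩) (BT.leaf ⟨[(nat_lit 5), (nat_lit 3), (nat_lit 6), (nat_lit 4)], (nat_lit 23), (nat_lit 0), (nat_lit 0), (nat_lit 3)⟩))))) (BT.node (nat_lit 65) (BT.node (nat_lit 63) (BT.node (nat_lit 62) (BT.leaf ⟨[(nat_lit 1), (nat_lit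 3), (nat_lit 1), (nat_lit 3), (nat_lit 1), (nat_lit 3)], (nat_lit 1), (nat_lit 0), (nat_lit 0), (nat_lit 3)⟩) (BT.leaf ⟨[(nat_lit 2), (nat_lit 4), (nat_lit 2), (nat_lit 4), (nat_lit 2), (nat_lit 4)], (nat_lit 18), (nat_lit 1), (nat_lit 0), (nat_lit 3)⟩)) (BT.node (nat_lit 64) (BT.leaf ⟨[(nat_lit 1), (nat_lit 6), (nat_lit 2), (nat_lit 3), (nat_lit 1), (nat_lit 5), (nat_lit 2), (nat_lit 4)], (nat_lit 7), (nat_lit 5), (nat_lit 0), (nat_lit 3)⟩) (BT.leaf ⟨[(nat_lit 1), (nat_lit 6), (nat_lit 2), (nat_lit 4), (nat_lit 1), (nat_lit 5), (nat_lit 2), (nat_lit 3)], (nat_lit 24), (nat_lit 4), (nat_lit 0), (nat_lit 3)⟩))) (BT.node (nat_lit 67) (BT.node (nat_lit 66) (BT.leaf ⟨[(nat_lit 1), (nat_lit 3), (nat_lit 2), (nat_lit 5), (nat_lit 1), (nat_lit 4), (nat_lit 2), (nat_lit 6)], (nat_lit 8), (nat_lit 7), (nat_lit 0), (nat_lit 3)⟩) (BT.leaf ⟨[(nat_lit 1), (nat_lit 4), (nat_lit 2), (nat_lit 5), (nat_lit 1), (nat_lit 3), (nat_lit 2), (nat_lit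 6)], (nat_lit 25), (nat_lit 6), (nat_lit 0), (nat_lit 3)⟩)) (BT.node (nat_lit 68) (BT.leaf ⟨[(nat_lit 1), (nat_lit 5), (nat_lit 1), (nat_lit 5), (nat_lit 1), (nat_lit 5)], (nat_lit 5), (nat_lit 0), (nat_lit 0), (nat_lit 3)⟩) (BT.node (nat_lit 69) (BT.leaf ⟨[(nat_lit 3), (nat_lit 3), (nat_lit 1), (nat_lit 4), (nat_lit 4), (nat_lit 2)], (nat_lit 3), (nat_lit 0), (nat_lit 0), (nat_lit 3)⟩) (BT.leaf ⟨[(nat_lit 3), (nat_lit 2), (nat_lit 4), (nat_lit 4), (nat_lit 1), (nat_lit 3)], (nat_lit 20), (nat_lit 2), (nat_lit 0), (nat_lit 3)⟩))))))))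
noncomputable def eV2_hcs : List CW := []
noncomputable def eV2_H (x j : Nat) : Bx (Nat → Nat → Nat) := mkH eV2_L eV2_pb.1 eV2_e.get (lmap CW.w eV2_hcs) (nat_lit 192) (nat_lit 193) (nat_lit 9) (nat_lit 256) (nat_lit 32768) (nat_lit 16383) x (eV2_rots.get j)
noncomputable def eV2_F (x b : Nat) : Bool := blkOK eV2_H eV2_ch (nat_lit 193) (nat_lit 256) (nat_lit 128) (nat_lit 8) (nat_lit 255) (nat_lit 20) (nat_lit 1048575) x b

theorem eV2_k0_0 : allFrom (eV2_F (nat_lit 0)) (nat_lit 0) (nat_lit 4) = true := by decide +kernel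
theorem eV2_k1_0 : allFrom (eV2_F (nat_lit 1)) (nat_lit 0) (nat_lit 4) = true := by decide +kernel
theorem eV2_k2_0 : allFrom (eV2_F (nat_lit 2)) (nat_lit 0) (nat_lit 4) = true := by decide +kernel
theorem eV2_k3_0 : allFrom (eV2_F (nat_lit 3)) (nat_lit 0) (nat_lit 4) = true := by decide +kernel
theorem eV2_k4_0 : allFrom (eV2_F (nat_lit 4)) (nat_lit 0) (nat_lit 4) = true := by decide +kernel
theorem eV2_k5_0 : allFrom (eV2_F (nat_lit 5)) (nat_lit 0) (nat_lit 4) = true := by decide +kernel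
theorem eV2_k6_0 : allFrom (eV2_F (nat_lit 6)) (nat_lit 0) (nat_lit 4) = true := by decide +kernel
theorem eV2_k7_0 : allFrom (eV2_F (nat_lit 7)) (nat_lit 0) (nat_lit 4) = true := by decide +kernel
theorem eV2_k8_0 : allFrom (eV2_F (nat_lit 8)) (nat_lit 0) (nat_lit 4) = true := by decide +kernel

theorem eV2_all : Cov eV2_F 4 9 0 := by
  have h := Cov.zero eV2_F 4
  have h := h.blk (b := 4) eV2_k0_0 rfl
  have h := h.next (y := 1) rfl rfl
  have h := h.blk (b := 4) eV2_k1_0 rfl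
  have h := h.next (y := 2) rfl rfl
  have h := h.blk (b := 4) eV2_k2_0 rfl
  have h := h.next (y := 3) rfl rfl
  have h := h.blk (b := 4) eV2_k3_0 rfl
  have h := h.next (y := 4) rfl rfl
  have h := h.blk (b := 4) eV2_k4_0 rfl
  have h := h.next (y := 5) rfl rfl
  have h := h.blk (b := 4) eV2_k5_0 rfl
  have h := h.next (y := 6) rfl rfl
  have h := h.blk (b := 4) eV2_k6_0 rfl
  have h := h.next (y := 7) rfl rfl
  have h := h.blk (b := 4) eV2_k7_0 rfl
  have h := h.next (y := 8) rfl rfl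
  have h := h.blk (b := 4) eV2_k8_0 rfl
  have h := h.next (y := 9) rfl rfl
  exact h

theorem eV2 : Enum RV2 [] (gensW 4) 192 :=
  ⟨eV2_cols, eV2_ch, eV2_L, eV2_H, eV2_pb.1, eV2_e.get, [(nat_lit 0), (nat_lit 1), (nat_lit 2), (nat_lit 3), (nat_lit 4), (nat_lit 5), (nat_lit 6), (nat_lit 7), (nat_lit 8)], (nat_lit 0), (nat_lit 4), eV2_rots, eV2_hcs,
    (nat_lit 193), (nat_lit 9), (nat_lit 256), (nat_lit 128), (nat_lit 32768), (nat_lit 16383), (nat_lit 8), (nat_lit 255), (nat_lit 20), (nat_lit 1048575), (nat_lit 1), (nat_lit 4),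
    fun _ _ => rfl, fun _ => rfl, fun _ _ => rfl, by decide +kernel, eV2_all.1⟩

theorem pV2 : TV2.Pres RV2 (gensW 4) := ⟨CT.ok_spec TV2_ok, lall_iff.1 TV2_rel, by decide +kernel,
  by decide +kernel, by decide +kernel, eV2.bound (ug_rels _) (bound_nil _)⟩

instance instTV2 : TV2.Grp := pV2.grp

noncomputable def RR1 : List (List Nat) := [[(nat_lit 3), (nat_lit 3)],
  [(nat_lit 5), (nat_lit 5)],
  [(nat_lit 1), (nat_lit 1), (nat_lit 1), (nat_lit 1)],
  [(nat_lit 1), (nat_lit 3), (nat_lit 1), (nat_lit 3)],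
  [(nat_lit 1), (nat_lit 5), (nat_lit 1), (nat_lit 5)],
  [(nat_lit 3), (nat_lit 5), (nat_lit 3), (nat_lit 5), (nat_lit 3), (nat_lit 5), (nat_lit 3), (nat_lit 5)]]
noncomputable def TR1_c0 : BT (Bx Nat) := (BT.leaf (Bx.mk (nat_lit 0xff7dcdeb38bda959c9cf845ac52d28398a418440)))
noncomputable def TR1_c1 : BT (Bx Nat) := (BT.leaf (Bx.mk (nat_lit 0xf6bf7b779b9ca30ce16aad0e67b9ac20c49400a1)))
noncomputable def TR1_c2 : BT (Bx Nat) := (BT.leaf (Bx.mk (nat_lit 0xeff59c7a72e6deebdab45a9288c0836b02731402)))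
noncomputable def TR1_c3 : BT (Bx Nat) := (BT.leaf (Bx.mk (nat_lit 0xe66ffa4fd0eb9bbd29383daa524a227858b020c3)))
noncomputable def TR1_c5 : BT (Bx Nat) := (BT.leaf (Bx.mk (nat_lit 0xde2d5fca3e7f78c5eb28b98b498c500b9a0524e4)))
noncomputable def TR1_w : BT (Bx Nat) := (BT.leaf (Bx.mk (nat_lit 0x535311053532053531053511035311005353005352003532005351003531003511005311000535000353000352000532000351000531000511000311000035000053000052000032000051000031000011000005000003000002000001000000)))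
noncomputable def TR1_cols : List (BT (Bx Nat)) := [TR1_c0, TR1_c1, TR1_c2, TR1_c3, TR1_c3, TR1_c5, TR1_c5]
noncomputable def TR1_ch (x j : Nat) : Bx Nat := chk TR1_cols x j
noncomputable def TR1_wc (_ j : Nat) : Bx Nat := TR1_w.get j
noncomputable def TR1 : CT := ⟨(nat_lit 32), (nat_lit 5), (nat_lit 31), TR1_ch, (nat_lit 24), (nat_lit 16777215), TR1_wc, (nat_lit 126)⟩
theorem TR1_ok : TR1.ok = true := by decide +kernel
theorem TR1_rel : lall TR1.relOK RR1 = true := by decide +kernel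
noncomputable def eR1_c0 : BT (Bx Nat) := (BT.leaf (Bx.mk (nat_lit 0x0)))
noncomputable def eR1_c1 : BT (Bx Nat) := (BT.leaf (Bx.mk (nat_lit 0x95f456d6a065619575a7969d5971954654d9526545e9a796614c852e6569a56a88a91e6509a3e68e9936a85a912a03952a549b507046c108000)))
noncomputable def eR1_c2 : BT (Bx Nat) := (BT.leaf (Bx.mk (nat_lit 0x111e3c8111b44691195c7d914644df1d7b72110843df187b5ded67c5610c842e10a84266d29c46b05ab1250e9436d029422507941ad01c10c000)))
noncomputable def eR1_c3 : BT (Bx Nat) := (BT.leaf (Bx.mk (nat_lit 0xbdd26689981682d95ad50f9fb644fdeb63ed8ec17259bb62ed8ac166d88c15f056b61ad85c14f052b60f050b60b04dc132d81c127047c110000)))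
noncomputable def eR1_c4 : BT (Bx Nat) := (BT.leaf (Bx.mk (nat_lit 0x2ddcb766dd7b75b060b74edd2c17edd0c17b05db736dccc16f05ab727058b71edc6c157054b712dc3c146dc2c13f04eb70704bc12b048c114000)))
noncomputable def eR1_p : BT (Bx Nat) := (BT.leaf (Bx.mk (nat_lit 0x6704ac895712ac2554389891212221c40487870e0e1a233046586ca0d92232036388c6118c1a14342088311061a084410682048221043208441040000000)))
noncomputable def eR1_e : BT Nat := BT.leaf (nat_lit 0)
noncomputable def eR1_cols : List (BT (Bx Nat)) := [eR1_c0, eR1_c1, eR1_c2, eR1_c3, eR1_c4]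
noncomputable def eR1_ch (x j : Nat) : Bx Nat := chunkG eR1_cols (nat_lit 1) x j
noncomputable def eR1_L (x : Nat) : Bx (Nat → Nat) := lookG eR1_ch (nat_lit 8) (nat_lit 255) (nat_lit 14) (nat_lit 16383) x
noncomputable def eR1_pc (_ j : Nat) : Bx Nat := eR1_p.get j
noncomputable def eR1_pb : Bx (Nat → Nat) := lookG eR1_pc (nat_lit 8) (nat_lit 255) (nat_lit 15) (nat_lit 32767) (nat_lit 0)
noncomputable def eR1_rots : BT CW := (BT.node (nat_lit 7) (BT.node (nat_lit 3) (BT.node (nat_lit 1) (BT.leaf ⟨[], (nat_lit 1000000), (nat_lit 0), (nat_lit 0), (nat_lit 0)⟩) (BT.node (nat_lit 2) (BT.leaf ⟨[], (nat_lit 1000000), (nat_lit 0), (nat_lit 0), (nat_lit 1)⟩) (BT.leaf ⟨[], (nat_lit 1000000), (nat_lit 0), (nat_lit 0), (nat_lit 2)⟩))) (BT.node (nat_lit 5) (BT.node (nat_lit 4) (BT.leaf ⟨[(nat_lit 2), (nat_lit 1)], (nat_lit 8), (nat_lit 1), (nat_lit 0), (nat_lit 3)⟩) (BT.leaf ⟨[(nat_lit 1), (nat_lit 2)], (nat_lit 8), (nat_lit 0), (nat_lit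 0), (nat_lit 3)⟩)) (BT.node (nat_lit 6) (BT.leaf ⟨[(nat_lit 3), (nat_lit 3)], (nat_lit 0), (nat_lit 0), (nat_lit 0), (nat_lit 3)⟩) (BT.leaf ⟨[(nat_lit 4), (nat_lit 4)], (nat_lit 1), (nat_lit 0), (nat_lit 0), (nat_lit 3)⟩)))) (BT.node (nat_lit 11) (BT.node (nat_lit 9) (BT.node (nat_lit 8) (BT.leaf ⟨[(nat_lit 1), (nat_lit 1), (nat_lit 1), (nat_lit 1)], (nat_lit 2), (nat_lit 0), (nat_lit 0), (nat_lit 3)⟩) (BT.leaf ⟨[(nat_lit 1), (nat_lit 3), (nat_lit 1), (nat_lit 3)], (nat_lit 3), (nat_lit 0), (nat_lit 0), (nat_lit 3)⟩)) (BT.node (nat_lit 10) (BT.leaf ⟨[(nat_lit 1), (nat_lit 4), (nat_lit 1), (nat_lit 4)], (nat_lit 4), (nat_lit 0), (nat_lit 0), (nat_lit 3)⟩) (BT.leaf ⟨[(nat_lit 2), (nat_lit 3), (nat_lit 2), (nat_lit 3)], (nat_lit 12), (nat_lit 1), (nat_lit 0), (nat_lit 3)⟩))) (BT.node (nat_lit 13) (BT.node (nat_lit 12) (BT.leaf ⟨[(nat_lit 2), (nat_lit 4), (nat_lit 2), (nat_lit 4)], (nat_lit 13), (nat_lit 1), (nat_lit 0), (nat_lit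 3)⟩) (BT.leaf ⟨[(nat_lit 3), (nat_lit 4), (nat_lit 3), (nat_lit 4), (nat_lit 3), (nat_lit 4), (nat_lit 3), (nat_lit 4)], (nat_lit 5), (nat_lit 0), (nat_lit 0), (nat_lit 3)⟩)) (BT.node (nat_lit 14) (BT.leaf ⟨[(nat_lit 3), (nat_lit 1), (nat_lit 3), (nat_lit 1)], (nat_lit 3), (nat_lit 1), (nat_lit 0), (nat_lit 3)⟩) (BT.leaf ⟨[(nat_lit 3), (nat_lit 2), (nat_lit 3), (nat_lit 2)], (nat_lit 12), (nat_lit 0), (nat_lit 0), (nat_lit 3)⟩)))))
noncomputable def eR1_hcs : List CW := []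
noncomputable def eR1_H (x j : Nat) : Bx (Nat → Nat → Nat) := mkH eR1_L eR1_pb.1 eR1_e.get (lmap CW.w eR1_hcs) (nat_lit 32) (nat_lit 33) (nat_lit 5) (nat_lit 64) (nat_lit 1024) (nat_lit 4095) x (eR1_rots.get j)
noncomputable def eR1_F (x b : Nat) : Bool := blkOK eR1_H eR1_ch (nat_lit 33) (nat_lit 64) (nat_lit 16) (nat_lit 8) (nat_lit 255) (nat_lit 14) (nat_lit 16383) x b

theorem eR1_k0_0 : allFrom (eR1_F (nat_lit 0)) (nat_lit 0) (nat_lit 4) = true := by decide +kernel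
theorem eR1_k1_0 : allFrom (eR1_F (nat_lit 1)) (nat_lit 0) (nat_lit 4) = true := by decide +kernel
theorem eR1_k2_0 : allFrom (eR1_F (nat_lit 2)) (nat_lit 0) (nat_lit 4) = true := by decide +kernel
theorem eR1_k3_0 : allFrom (eR1_F (nat_lit 3)) (nat_lit 0) (nat_lit 4) = true := by decide +kernel
theorem eR1_k4_0 : allFrom (eR1_F (nat_lit 4)) (nat_lit 0) (nat_lit 4) = true := by decide +kernel

theorem eR1_all : Cov eR1_F 4 5 0 := by
  have h := Cov.zero eR1_F 4
  have h := h.blk (b := 4) eR1_k0_0 rfl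
  have h := h.next (y := 1) rfl rfl
  have h := h.blk (b := 4) eR1_k1_0 rfl
  have h := h.next (y := 2) rfl rfl
  have h := h.blk (b := 4) eR1_k2_0 rfl
  have h := h.next (y := 3) rfl rfl
  have h := h.blk (b := 4) eR1_k3_0 rfl
  have h := h.next (y := 4) rfl rfl
  have h := h.blk (b := 4) eR1_k4_0 rfl
  have h := h.next (y := 5) rfl rfl
  exact h

theorem eR1 : Enum RR1 [] (gensW 3) 32 :=
  ⟨eR1_cols, eR1_ch, eR1_L, eR1_H, eR1_pb.1, eR1_e.get, [(nat_lit 0), (nat_lit 1), (nat_lit 2), (nat_lit 3), (nat_lit 5)], (nat_lit 6), (nat_lit 3), eR1_rots, eR1_hcs,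
    (nat_lit 33), (nat_lit 5), (nat_lit 64), (nat_lit 16), (nat_lit 1024), (nat_lit 4095), (nat_lit 8), (nat_lit 255), (nat_lit 14), (nat_lit 16383), (nat_lit 1), (nat_lit 4),
    fun _ _ => rfl, fun _ => rfl, fun _ _ => rfl, by decide +kernel, eR1_all.1⟩

theorem pR1 : TR1.Pres RR1 (gensW 3) := ⟨CT.ok_spec TR1_ok, lall_iff.1 TR1_rel, by decide +kernel,
  by decide +kernel, by decide +kernel, eR1.bound (ug_rels _) (bound_nil _)⟩

instance instTR1 : TR1.Grp := pR1.grp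

noncomputable def RR2 : List (List Nat) := [[(nat_lit 3), (nat_lit 3)],
  [(nat_lit 5), (nat_lit 5)],
  [(nat_lit 1), (nat_lit 1), (nat_lit 1), (nat_lit 1)],
  [(nat_lit 1), (nat_lit 3), (nat_lit 1), (nat_lit 3)],
  [(nat_lit 1), (nat_lit 1), (nat_lit 5), (nat_lit 1), (nat_lit 1), (nat_lit 5)],
  [(nat_lit 1), (nat_lit 3), (nat_lit 5), (nat_lit 1), (nat_lit 3), (nat_lit 5)],
  [(nat_lit 1), (nat_lit 5), (nat_lit 1), (nat_lit 5), (nat_lit 1), (nat_lit 5), (nat_lit 1), (nat_lit 5)]]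
noncomputable def TR2_c0 : BT (Bx Nat) := (BT.leaf (Bx.mk (nat_lit 0xffbbcde758b5eb49ca307b9474b568618a418440)))
noncomputable def TR2_c1 : BT (Bx Nat) := (BT.leaf (Bx.mk (nat_lit 0xeff16bc27ee6f3a51d2d61a847d64e88c4b400a1)))
noncomputable def TR2_c2 : BT (Bx Nat) := (BT.leaf (Bx.mk (nat_lit 0xf63f7b52bddf14dca4fa5a20f24e239382c31402)))
noncomputable def TR2_c3 : BT (Bx Nat) := (BT.leaf (Bx.mk (nat_lit 0xdded8fbe3cf752c3ab2bd149484aa2985cd020c3)))
noncomputable def TR2_c5 : BT (Bx Nat) := (BT.leaf (Bx.mk (nat_lit 0xd56728fdcd62fc8ef3662e717b0c540c1e0524e4)))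
noncomputable def TR2_w : BT (Bx Nat) := (BT.leaf (Bx.mk (nat_lit 0x5351105352053510525105151035110531100535005250051500352005320035100251001510053100511003110003500025000150005300052000320005100031000110000500003000020000100000)))
noncomputable def TR2_cols : List (BT (Bx Nat)) := [TR2_c0, TR2_c1, TR2_c2, TR2_c3, TR2_c3, TR2_c5, TR2_c5]
noncomputable def TR2_ch (x j : Nat) : Bx Nat := chk TR2_cols x j
noncomputable def TR2_wc (_ j : Nat) : Bx Nat := TR2_w.get j
noncomputable def TR2 : CT := ⟨(nat_lit 32), (nat_lit 5), (nat_lit 31), TR2_ch, (nat_lit 20), (nat_lit 1048575), TR2_wc, (nat_lit 126)⟩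
theorem TR2_ok : TR2.ok = true := by decide +kernel
theorem TR2_rel : lall TR2.relOK RR2 = true := by decide +kernel
noncomputable def eR2_c0 : BT (Bx Nat) := (BT.leaf (Bx.mk (nat_lit 0x0)))
noncomputable def eR2_c1 : BT (Bx Nat) := (BT.leaf (Bx.mk (nat_lit 0x195e12c0696610bd45874a34d5092fcb1d95b8a86a5adb24bb2914c2a9a752cda48ec856ca2ca1092ad284e527e052a489480f0264949b283811b0210000)))
noncomputable def eR2_c2 : BT (Bx Nat) := (BT.leaf (Bx.mk (nat_lit 0x129f12328a8208c4117822a845888f491c723b4f2d487491a8215642188dc10c8213244648859055229244a9426053921f640b026c907920d64070218000)))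
noncomputable def eR2_c3 : BT (Bx Nat) := (BT.leaf (Bx.mk (nat_lit 0x299c3330865d64cb4a0b32106490cea49f593d6629cc6d98863172e6a0c6605bb30d66161cacb917827815acc1e054b305813f0275981c093811f0220000)))
noncomputable def eR2_c4 : BT (Bx Nat) := (BT.leaf (Bx.mk (nat_lit 0x59dbb3ad6752ce9d9d2c0c1673ece759cdb399817ece4e05ec0bb8172ce3d9c6c0b5816702c6057b389670f02ad9c2c0a38142ce0e04bc09581230228000)))
noncomputable def eR2_p : BT (Bx Nat) := (BT.leaf (Bx.mk (nat_lit 0x56c48b091412262448488070f119c233446608ca0d92232036404c8058e231846306850d0a1214142088311061a084410682048221043208441040000000)))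
noncomputable def eR2_e : BT Nat := BT.leaf (nat_lit 0)
noncomputable def eR2_cols : List (BT (Bx Nat)) := [eR2_c0, eR2_c1, eR2_c2, eR2_c3, eR2_c4]
noncomputable def eR2_ch (x j : Nat) : Bx Nat := chunkG eR2_cols (nat_lit 1) x j
noncomputable def eR2_L (x : Nat) : Bx (Nat → Nat) := lookG eR2_ch (nat_lit 8) (nat_lit 255) (nat_lit 15) (nat_lit 32767) x
noncomputable def eR2_pc (_ j : Nat) : Bx Nat := eR2_p.get j
noncomputable def eR2_pb : Bx (Nat → Nat) := lookG eR2_pc (nat_lit 8) (nat_lit 255) (nat_lit 15) (nat_lit 32767) (nat_lit 0)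
noncomputable def eR2_rots : BT CW := (BT.node (nat_lit 9) (BT.node (nat_lit 4) (BT.node (nat_lit 2) (BT.node (nat_lit 1) (BT.leaf ⟨[], (nat_lit 1000000), (nat_lit 0), (nat_lit 0), (nat_lit 0)⟩) (BT.leaf ⟨[], (nat_lit 1000000), (nat_lit 0), (nat_lit 0), (nat_lit 1)⟩)) (BT.node (nat_lit 3) (BT.leaf ⟨[], (nat_lit 1000000), (nat_lit 0), (nat_lit 0), (nat_lit 2)⟩) (BT.leaf ⟨[(nat_lit 2), (nat_lit 1)], (nat_lit 9), (nat_lit 1), (nat_lit 0), (nat_lit 3)⟩))) (BT.node (nat_lit 6) (BT.node (nat_lit 5) (BT.leaf ⟨[(nat_lit 1), (nat_lit 2)], (nat_lit 9), (nat_lit 0), (nat_lit 0), (nat_lit 3)⟩) (BT.leaf ⟨[(nat_lit 3), (nat_lit 3)], (nat_lit 0), (nat_lit 0), (nat_lit 0), (nat_lit 3)⟩)) (BT.node (nat_lit 7) (BT.leaf ⟨[(nat_lit 4), (nat_lit 4)], (nat_lit 1), (nat_lit 0), (nat_lit 0), (nat_lit 3)⟩) (BT.node (nat_lit 8) (BT.leaf ⟨[(nat_lit 1), (nat_lit 1), (nat_lit 1), (nat_lit 1)], (nat_lit 2), (nat_lit 0), (nat_lit 0), (nat_lit 3)⟩) (BT.leaf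 ⟨[(nat_lit 1), (nat_lit 3), (nat_lit 1), (nat_lit 3)], (nat_lit 3), (nat_lit 0), (nat_lit 0), (nat_lit 3)⟩))))) (BT.node (nat_lit 13) (BT.node (nat_lit 11) (BT.node (nat_lit 10) (BT.leaf ⟨[(nat_lit 2), (nat_lit 3), (nat_lit 2), (nat_lit 3)], (nat_lit 13), (nat_lit 1), (nat_lit 0), (nat_lit 3)⟩) (BT.leaf ⟨[(nat_lit 1), (nat_lit 1), (nat_lit 4), (nat_lit 1), (nat_lit 1), (nat_lit 4)], (nat_lit 4), (nat_lit 0), (nat_lit 0), (nat_lit 3)⟩)) (BT.node (nat_lit 12) (BT.leaf ⟨[(nat_lit 1), (nat_lit 4), (nat_lit 1), (nat_lit 1), (nat_lit 4), (nat_lit 1)], (nat_lit 4), (nat_lit 1), (nat_lit 0), (nat_lit 3)⟩) (BT.leaf ⟨[(nat_lit 1), (nat_lit 3), (nat_lit 4), (nat_lit 1), (nat_lit 3), (nat_lit 4)], (nat_lit 5), (nat_lit 0), (nat_lit 0), (nat_lit 3)⟩))) (BT.node (nat_lit 15) (BT.node (nat_lit 14) (BT.leaf ⟨[(nat_lit 3), (nat_lit 1), (nat_lit 3), (nat_lit 1)], (nat_lit 3), (nat_lit 1), (nat_lit 0), (nat_lit 3)⟩) (BT.leaf ⟨[(nat_lit 2),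 (nat_lit 4), (nat_lit 3), (nat_lit 2), (nat_lit 4), (nat_lit 3)], (nat_lit 15), (nat_lit 2), (nat_lit 0), (nat_lit 3)⟩)) (BT.node (nat_lit 16) (BT.leaf ⟨[(nat_lit 3), (nat_lit 2), (nat_lit 3), (nat_lit 2)], (nat_lit 13), (nat_lit 0), (nat_lit 0), (nat_lit 3)⟩) (BT.node (nat_lit 17) (BT.leaf ⟨[(nat_lit 1), (nat_lit 4), (nat_lit 1), (nat_lit 4), (nat_lit 1), (nat_lit 4), (nat_lit 1), (nat_lit 4)], (nat_lit 6), (nat_lit 0), (nat_lit 0), (nat_lit 3)⟩) (BT.leaf ⟨[(nat_lit 3), (nat_lit 4), (nat_lit 1), (nat_lit 3), (nat_lit 4), (nat_lit 1)], (nat_lit 5), (nat_lit 1), (nat_lit 0), (nat_lit 3)⟩))))))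
noncomputable def eR2_hcs : List CW := []
noncomputable def eR2_H (x j : Nat) : Bx (Nat → Nat → Nat) := mkH eR2_L eR2_pb.1 eR2_e.get (lmap CW.w eR2_hcs) (nat_lit 32) (nat_lit 33) (nat_lit 5) (nat_lit 64) (nat_lit 2048) (nat_lit 4095) x (eR2_rots.get j)
noncomputable def eR2_F (x b : Nat) : Bool := blkOK eR2_H eR2_ch (nat_lit 33) (nat_lit 64) (nat_lit 32) (nat_lit 8) (nat_lit 255) (nat_lit 15) (nat_lit 32767) x b

theorem eR2_k0_0 : allFrom (eR2_F (nat_lit 0)) (nat_lit 0) (nat_lit 4) = true := by decide +kernel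
theorem eR2_k1_0 : allFrom (eR2_F (nat_lit 1)) (nat_lit 0) (nat_lit 4) = true := by decide +kernel
theorem eR2_k2_0 : allFrom (eR2_F (nat_lit 2)) (nat_lit 0) (nat_lit 4) = true := by decide +kernel
theorem eR2_k3_0 : allFrom (eR2_F (nat_lit 3)) (nat_lit 0) (nat_lit 4) = true := by decide +kernel
theorem eR2_k4_0 : allFrom (eR2_F (nat_lit 4)) (nat_lit 0) (nat_lit 4) = true := by decide +kernel

theorem eR2_all : Cov eR2_F 4 5 0 := by
  have h := Cov.zero eR2_F 4
  have h := h.blk (b := 4) eR2_k0_0 rfl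
  have h := h.next (y := 1) rfl rfl
  have h := h.blk (b := 4) eR2_k1_0 rfl
  have h := h.next (y := 2) rfl rfl
  have h := h.blk (b := 4) eR2_k2_0 rfl
  have h := h.next (y := 3) rfl rfl
  have h := h.blk (b := 4) eR2_k3_0 rfl
  have h := h.next (y := 4) rfl rfl
  have h := h.blk (b := 4) eR2_k4_0 rfl
  have h := h.next (y := 5) rfl rfl
  exact h

theorem eR2 : Enum RR2 [] (gensW 3) 32 :=
  ⟨eR2_cols, eR2_ch, eR2_L, eR2_H, eR2_pb.1, eR2_e.get, [(nat_lit 0), (nat_lit 1), (nat_lit 2), (nat_lit 3), (nat_lit 5)], (nat_lit 6), (nat_lit 3), eR2_rots, eR2_hcs,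
    (nat_lit 33), (nat_lit 5), (nat_lit 64), (nat_lit 32), (nat_lit 2048), (nat_lit 4095), (nat_lit 8), (nat_lit 255), (nat_lit 15), (nat_lit 32767), (nat_lit 1), (nat_lit 4),
    fun _ _ => rfl, fun _ => rfl, fun _ _ => rfl, by decide +kernel, eR2_all.1⟩

theorem pR2 : TR2.Pres RR2 (gensW 3) := ⟨CT.ok_spec TR2_ok, lall_iff.1 TR2_rel, by decide +kernel,
  by decide +kernel, by decide +kernel, eR2.bound (ug_rels _) (bound_nil _)⟩

instance instTR2 : TR2.Grp := pR2.grp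

noncomputable def RS5 : List (List Nat) := [[(nat_lit 1), (nat_lit 1)],
  [(nat_lit 3), (nat_lit 3)],
  [(nat_lit 5), (nat_lit 5)],
  [(nat_lit 7), (nat_lit 7)],
  [(nat_lit 1), (nat_lit 3), (nat_lit 1), (nat_lit 3), (nat_lit 1), (nat_lit 3)],
  [(nat_lit 3), (nat_lit 5), (nat_lit 3), (nat_lit 5), (nat_lit 3), (nat_lit 5)],
  [(nat_lit 5), (nat_lit 7), (nat_lit 5), (nat_lit 7), (nat_lit 5), (nat_lit 7)],
  [(nat_lit 1), (nat_lit 5), (nat_lit 1), (nat_lit 5)],
  [(nat_lit 1), (nat_lit 7), (nat_lit 1), (nat_lit 7)],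
  [(nat_lit 3), (nat_lit 7), (nat_lit 3), (nat_lit 7)]]
noncomputable def TS5_c0 : BT (Bx Nat) := (BT.node (nat_lit 1) (BT.leaf (Bx.mk (nat_lit 0x7ae9fb164fa233811a1b470ede2056b90aa5eb0fa34a993a450756b05279117366079a3858811244ca15323860d12285850e184040608080))) (BT.leaf (Bx.mk (nat_lit 0xefcfa75edaf6f0d5bb8ece5bee60cb773e2bf930e8c76f369bd329cdaf42454b32a4d69f2ec5a9d4a8d58eda0b96b0a2b7))))
noncomputable def TS5_c1 : BT (Bx Nat) := (BT.node (nat_lit 1) (BT.leaf (Bx.mk (nat_lit 0xaaae9264b467a39d2659f428239c8d10d437d00b182ef1d9b70459b268407b048b45a84ea45091a3111e3a149923254a02080c7070c20001))) (BT.leaf (Bx.mk (nat_lit 0xe7c36ebef9f2f6c583adde972cd7e5538d3a1be6ee992b66a91174c2d105fe6c8f5d6372df0df6b79b5b62bed2e5962b2a))))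
noncomputable def TS5_c3 : BT (Bx Nat) := (BT.node (nat_lit 1) (BT.leaf (Bx.mk (nat_lit 0x51513a9609282d43350479520ebb3715c18845de3f7a509ba2465bb51e5588d5e3112c5424f264a8c3073e20e1a0610b0e204408a1600282))) (BT.leaf (Bx.mk (nat_lit 0xe9c7777d5a3b64c7d6fe1b9ced72ad629f0df3f64cdb3a4eb97a6266839e1becb02339c579b60b6ceeb26945759aaaebd2))))
noncomputable def TS5_c5 : BT (Bx Nat) := (BT.node (nat_lit 1) (BT.leaf (Bx.mk (nat_lit 0x949e9c79d411cf4a826223d253438a6a21c2f04c957cc5b9272d083622cc72c18b948a562d4080e90fa10a7421b2c60114260478d0024303))) (BT.leaf (Bx.mk (nat_lit 0xebcbbecdbdb367d3879f4bb6f7d8e1c6a52a36774d97575c8d51b1688502f657b931ba70ef035befd95c79697ad615d556))))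
noncomputable def TS5_c7 : BT (Bx Nat) := (BT.node (nat_lit 1) (BT.leaf (Bx.mk (nat_lit 0xa8a1352a2966229a84fcb92764463904cc2305a03e28f5d1322e1b0f6a3992f1a2d6ab12a842748191854078d833408b9502488001828384))) (BT.leaf (Bx.mk (nat_lit 0xeddf7f1e1a7a73eb8f15ecb9395ab3575eaddb67509fb25538fa33c38b1333fb8f1de0bf85bb969759b1b6c2bd6b0b1729))))
noncomputable def TS5_w : BT (Bx Nat) := (BT.node (nat_lit 1) (BT.leaf (Bx.mk (nat_lit 0x35713000005751300000735130000013513000001357100000357510000057351000007135100000357310000057531000007353100000135310000057131000007513100000351310000001357000000357500000057350000007135000000357300000057530000007353000000135300000057130000007513000000351300000035710000005751000000735100000013510000005731000000753100000035310000007131000000513100000003570000000575000000073500000001350000000573000000075300000003530000000713000000051300000005710000000751000000035100000007310000000531000000013100000000570000000075000000003500000000730000000053000000001300000000710000000051000000003100000000070000000005000000000300000000010000000000)))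 (BT.leaf (Bx.mk (nat_lit 0x13571351310135713513013571353101357351310357135131001357135300135735130035713513001357135100135735310035713531001357513100357351310057135131000135713500013573530003571353000135751300035735130005713513000135735100035713510001357531000357353100057135310001357131000357513100057351310007135131000013573500003571350000135753000035735300005713530000135713000035751300005735130000713513000013575100003573510000571351000013573100003575310000573531000071353100003571310000575131000073513100001351310000013575000003573500000571350000013573000003575300000573530000071353))))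
noncomputable def TS5_cols : List (BT (Bx Nat)) := [TS5_c0, TS5_c1, TS5_c1, TS5_c3, TS5_c3, TS5_c5, TS5_c5, TS5_c7, TS5_c7]
noncomputable def TS5_ch (x j : Nat) : Bx Nat := chk TS5_cols x j
noncomputable def TS5_wc (_ j : Nat) : Bx Nat := TS5_w.get j
noncomputable def TS5 : CT := ⟨(nat_lit 120), (nat_lit 7), (nat_lit 127), TS5_ch, (nat_lit 40), (nat_lit 0xffffffffff), TS5_wc, (nat_lit 510)⟩
theorem TS5_ok : TS5.ok = true := by decide +kernel
theorem TS5_rel : lall TS5.relOK RS5 = true := by decide +kernel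
noncomputable def eS5_c0 : BT (Bx Nat) := (BT.leaf (Bx.mk (nat_lit 0x0)))
noncomputable def eS5_c1 : BT (Bx Nat) := (BT.leaf (Bx.mk (nat_lit 0xb274b271b26eb26cc0f8b268b266c0f7b263b261c0f6b25ec0f5825db25ab258c0f3b255c0f28254b251c0f0b24ec0ef824db24bc0ed946ba4c9b246c0eab243c0e98242b240c0e79465a4beb23bc0e4823ab238c0e29460a4b6c0df6237925cb232b230c0db822fb22dc0d99457a4abc0d6622c9253b227b226c0d29450a4a4c0cf744a924cb22082228221c0c8b21dc0c79445a49bc0c4743f9241b21782198218c0bdc0bc621c9239b212943494b3c0b5a491a410c0b17425922eb20c942994a8c0aaa48ba40a820e820dc0a3921f921eb20694149493c09a92169215b203a485a404c08f92089207c089b201c0820000)))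
noncomputable def eS5_c2 : BT (Bx Nat) := (BT.leaf (Bx.mk (nat_lit 0x257562f2356f12f8b2eb356975f7b2e562e422f6b2e02562b2ddc0f462db22f3b2d72559b2d4c0f175f0b2d012edb2cdc0ee62cfb2cac0ec854c75eab2c512e7b2c2c0e862c4b2bfc0e685412547b2bac0e375dfb2b7c0e172dcb2b4c0dea53382b512d2b2afc0da75d6b2acc0d872d3b2a9c0d5a52882aa62b1b2a5c0d1852eb2a2c0cea52195c8c0cb92c9b29e75bcb29cc0c672b9b299c0c3a51895bdc0c092beb295b294c0bba513829ac0b892b6b2908296c0b2b28ec0b0a50d95a3c0ad92abb28a951fc0a7c0a692a4b287a508c0a0a589c09d929bb284a505c097928f9291c092b282928bc08cb281c086c0830000)))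
noncomputable def eS5_c3 : BT (Bx Nat) := (BT.leaf (Bx.mk (nat_lit 0x66f666f3537886ed636e537786e7636866ea86e276747375835eb35c537086d9767173728355b35386d2635a736f834eb34c66d6966cb349c0eb86c7766373698343b341535f9666b33ec0e57364833bb33986bc9661b336c0e06340b333c0dd86bd735b8330b32e86b19658b32bc0d7764bb328c0d47348734f9651b324c0d08326b321c0cd8323b31fc0ca832773449646b31bc0c5831db318c0c2831ab316c0bf96329638b313c0ba96b5b311c0b7a612c0b4b30f962db30dc0af96aab30bc0aca60cc0a9b309b308c0a59320c0a2b306c09eb305c09c9317c099b303c095c094b302c090c08eb301c08ac087c0840000)))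
noncomputable def eS5_c4 : BT (Bx Nat) := (BT.leaf (Bx.mk (nat_lit 0x47f733f857f043f243f157ea57f5587443f663e453e323df686667e543f363db53da23d653ec53eb77ef686e87cf885177d037ed484b63d4b3c877e9686887c4884677c537e74840775db3bd23bc73e163e073e283b883bab3b533de43b4b3b2c0dc87b173d863d773d983ad83afb3aa33d543a9b3a7c0d337d24826974db3a3984ea722b3a0c0cc57cab39ec0c973c7839d9742b39a9843a719b397c0c157bfb395c0be33bb4394b392c0b993b7b390c0b6b38fc0b39830a70eb38cc0ae93acb38ac0abb389c0a857a5b387c0a4b386c0a1c09f939cb384c09bb383c098c096b382c093c091b381c08dc08bc088c0850000)))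
noncomputable def eS5_p : BT (Bx Nat) := (BT.leaf (Bx.mk (nat_lit 0x15d019e20cee0676033ac28d00c6606328518c18c20c600a2f0317428b81bda05ec02f5c27aa0bd409e986f4417a013ce05e684f3037960bca09e486f20468c0b4509a182d0826821b40059f84cf8367a233b059d04ce436700b37099b06cd4466813330d9908cc815600aaf095706ab4155812ab0d5508aa425501aa7115382a98154a12a40d5188a8825421aa0115002a7c353c229e090e8287024361a1a110c84860342e2217050b06854442a121409098684844240a110d0808840241e220f0cc7046343318218c04c5866284314118910c486620330e218708c308618330c09050c8208410220621030c818240842041902084088204310210810400000000)))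
noncomputable def eS5_e : BT Nat := BT.leaf (nat_lit 0)
noncomputable def eS5_cols : List (BT (Bx Nat)) := [eS5_c0, eS5_c1, eS5_c2, eS5_c3, eS5_c4]
noncomputable def eS5_ch (x j : Nat) : Bx Nat := chunkG eS5_cols (nat_lit 1) x j
noncomputable def eS5_L (x : Nat) : Bx (Nat → Nat) := lookG eS5_ch (nat_lit 8) (nat_lit 255) (nat_lit 16) (nat_lit 65535) x
noncomputable def eS5_pc (_ j : Nat) : Bx Nat := eS5_p.get j
noncomputable def eS5_pb : Bx (Nat → Nat) := lookG eS5_pc (nat_lit 8) (nat_lit 255) (nat_lit 17) (nat_lit 131071) (nat_lit 0)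
noncomputable def eS5_rots : BT CW := (BT.node (nat_lit 8) (BT.node (nat_lit 4) (BT.node (nat_lit 2) (BT.node (nat_lit 1) (BT.leaf ⟨[], (nat_lit 1000000), (nat_lit 0), (nat_lit 0), (nat_lit 0)⟩) (BT.leaf ⟨[], (nat_lit 1000000), (nat_lit 0), (nat_lit 0), (nat_lit 1)⟩)) (BT.node (nat_lit 3) (BT.leaf ⟨[], (nat_lit 1000000), (nat_lit 0), (nat_lit 0), (nat_lit 2)⟩) (BT.leaf ⟨[(nat_lit 1), (nat_lit 1)], (nat_lit 0), (nat_lit 0), (nat_lit 0), (nat_lit 3)⟩))) (BT.node (nat_lit 6) (BT.node (nat_lit 5) (BT.leaf ⟨[(nat_lit 2), (nat_lit 2)], (nat_lit 1), (nat_lit 0), (nat_lit 0), (nat_lit 3)⟩) (BT.leaf ⟨[(nat_lit 3), (nat_lit 3)], (nat_lit 2), (nat_lit 0), (nat_lit 0), (nat_lit 3)⟩)) (BT.node (nat_lit 7) (BT.leaf ⟨[(nat_lit 4), (nat_lit 4)], (nat_lit 3), (nat_lit 0), (nat_lit 0), (nat_lit 3)⟩) (BT.leaf ⟨[(nat_lit 1), (nat_lit 3), (nat_lit 1), (nat_lit 3)], (nat_lit 7), (nat_lit 0), (nat_lit 0), (nat_lit 3)⟩)))) (BT.node (nat_lit 12)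 (BT.node (nat_lit 10) (BT.node (nat_lit 9) (BT.leaf ⟨[(nat_lit 1), (nat_lit 4), (nat_lit 1), (nat_lit 4)], (nat_lit 8), (nat_lit 0), (nat_lit 0), (nat_lit 3)⟩) (BT.leaf ⟨[(nat_lit 2), (nat_lit 4), (nat_lit 2), (nat_lit 4)], (nat_lit 9), (nat_lit 0), (nat_lit 0), (nat_lit 3)⟩)) (BT.node (nat_lit 11) (BT.leaf ⟨[(nat_lit 2), (nat_lit 1), (nat_lit 2), (nat_lit 1), (nat_lit 2), (nat_lit 1)], (nat_lit 4), (nat_lit 1), (nat_lit 0), (nat_lit 3)⟩) (BT.leaf ⟨[(nat_lit 3), (nat_lit 2), (nat_lit 3), (nat_lit 2), (nat_lit 3), (nat_lit 2)], (nat_lit 5), (nat_lit 1), (nat_lit 0), (nat_lit 3)⟩))) (BT.node (nat_lit 14) (BT.node (nat_lit 13) (BT.leaf ⟨[(nat_lit 3), (nat_lit 1), (nat_lit 3), (nat_lit 1)], (nat_lit 7), (nat_lit 1), (nat_lit 0), (nat_lit 3)⟩) (BT.leaf ⟨[(nat_lit 4), (nat_lit 3), (nat_lit 4), (nat_lit 3), (nat_lit 4), (nat_lit 3)], (nat_lit 6), (nat_lit 1), (nat_lit 0), (nat_lit 3)⟩)) (BT.node (nat_lit 15) (BT.leaf ⟨[(nat_lit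 4), (nat_lit 1), (nat_lit 4), (nat_lit 1)], (nat_lit 8), (nat_lit 1), (nat_lit 0), (nat_lit 3)⟩) (BT.leaf ⟨[(nat_lit 4), (nat_lit 2), (nat_lit 4), (nat_lit 2)], (nat_lit 9), (nat_lit 1), (nat_lit 0), (nat_lit 3)⟩)))))
noncomputable def eS5_hcs : List CW := []
noncomputable def eS5_H (x j : Nat) : Bx (Nat → Nat → Nat) := mkH eS5_L eS5_pb.1 eS5_e.get (lmap CW.w eS5_hcs) (nat_lit 120) (nat_lit 121) (nat_lit 5) (nat_lit 128) (nat_lit 4096) (nat_lit 8191) x (eS5_rots.get j)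
noncomputable def eS5_F (x b : Nat) : Bool := blkOK eS5_H eS5_ch (nat_lit 121) (nat_lit 128) (nat_lit 32) (nat_lit 8) (nat_lit 255) (nat_lit 16) (nat_lit 65535) x b

theorem eS5_k0_0 : allFrom (eS5_F (nat_lit 0)) (nat_lit 0) (nat_lit 4) = true := by decide +kernel
theorem eS5_k1_0 : allFrom (eS5_F (nat_lit 1)) (nat_lit 0) (nat_lit 4) = true := by decide +kernel
theorem eS5_k2_0 : allFrom (eS5_F (nat_lit 2)) (nat_lit 0) (nat_lit 4) = true := by decide +kernel
theorem eS5_k3_0 : allFrom (eS5_F (nat_lit 3)) (nat_lit 0) (nat_lit 4) = true := by decide +kernel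
theorem eS5_k4_0 : allFrom (eS5_F (nat_lit 4)) (nat_lit 0) (nat_lit 4) = true := by decide +kernel

theorem eS5_all : Cov eS5_F 4 5 0 := by
  have h := Cov.zero eS5_F 4
  have h := h.blk (b := 4) eS5_k0_0 rfl
  have h := h.next (y := 1) rfl rfl
  have h := h.blk (b := 4) eS5_k1_0 rfl
  have h := h.next (y := 2) rfl rfl
  have h := h.blk (b := 4) eS5_k2_0 rfl
  have h := h.next (y := 3) rfl rfl
  have h := h.blk (b := 4) eS5_k3_0 rfl
  have h := h.next (y := 4) rfl rfl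
  have h := h.blk (b := 4) eS5_k4_0 rfl
  have h := h.next (y := 5) rfl rfl
  exact h

theorem eS5 : Enum RS5 [] (gensW 4) 120 :=
  ⟨eS5_cols, eS5_ch, eS5_L, eS5_H, eS5_pb.1, eS5_e.get, [(nat_lit 0), (nat_lit 1), (nat_lit 3), (nat_lit 5), (nat_lit 7)], (nat_lit 15), (nat_lit 4), eS5_rots, eS5_hcs,
    (nat_lit 121), (nat_lit 5), (nat_lit 128), (nat_lit 32), (nat_lit 4096), (nat_lit 8191), (nat_lit 8), (nat_lit 255), (nat_lit 16), (nat_lit 65535), (nat_lit 1), (nat_lit 4),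
    fun _ _ => rfl, fun _ => rfl, fun _ _ => rfl, by decide +kernel, eS5_all.1⟩

theorem pS5 : TS5.Pres RS5 (gensW 4) := ⟨CT.ok_spec TS5_ok, lall_iff.1 TS5_rel, by decide +kernel,
  by decide +kernel, by decide +kernel, eS5.bound (ug_rels _) (bound_nil _)⟩

instance instTS5 : TS5.Grp := pS5.grp


end CF.W2
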